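/-
Pairs of orthogonal pure tensors with Eichler transformations in a group: how they spread to all of `Ω`.
-/
import Cfsg.Agent.Lib.HallGen.SympWreath.Main
import Cfsg.Agent.Lib.Geo.OrthMaximalBasic
import Cfsg.Agent.Lib.Classical.Quad.Eichler

set_option autoImplicit false
set_option linter.unusedSectionVars false
set_option maxHeartbeats 400000

namespace CfsgLib.HallGen.SympPlus

open Matrix CfsgLib.HallGen.SympWreath CfsgLib.Geo CfsgLib.Geo.SpinTensor CfsgLib.Geo.TensorWreath
open CfsgLib.Classical.Quad CfsgLib.Geo.OrthMax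
open QuadraticMap (polar polarBilin)

variable {F : Type*} [Field F] {k n : ℕ}

/-- A quadratic form polarising to the tensor power of a symplectic form and vanishing on pure tensors. -/
structure Space (D : Factor F k) (Q : QuadraticForm F ((Fin n → Fin k) → F)) : Prop where
  nondeg : (polarBilin Q).Nondegenerate
  five : 5 ≤ Module.finrank F ((Fin n → Fin k) → F)
  polar_eq : ∀ x y, polar Q x y = x ⬝ᵥ ((outerT D n).G *ᵥ y)
  pure : ∀ ξ, Q (pvec ξ) = 0

variable {D : Factor F k} {Q : QuadraticForm F ((Fin n → Fin k) → F)}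

theorem Space.polar_pvec (S : Space D Q) (ξ η : Fin n → Fin k → F) :
    polar Q (pvec ξ) (pvec η) = ∏ l, D.f (ξ l) (η l) := by rw [S.polar_eq, pvec_form]

theorem Space.polar_zero (S : Space D Q) {ξ η : Fin n → Fin k → F} (l : Fin n) (h : D.f (ξ l) (η l) = 0) :
    polar Q (pvec ξ) (pvec η) = 0 := by
  rw [S.polar_pvec]; exact Finset.prod_eq_zero (Finset.mem_univ l) h

theorem Space.polar_one (S : Space D Q) {ξ η : Fin n → Fin k → F} (h : ∀ l, D.f (ξ l) (η l) = 1) :
    polar Q (pvec ξ) (pvec η) = 1 := by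
  rw [S.polar_pvec]; exact Finset.prod_eq_one fun l _ => h l

/-- A slot of a pure tensor, linearly. -/
def plin (ξ : Fin n → Fin k → F) (l : Fin n) : (Fin k → F) →ₗ[F] ((Fin n → Fin k) → F) where
  toFun z := pvec (Function.update ξ l z)
  map_add' a b := pvec_update_add ξ l a b
  map_smul' c a := by
    funext q
    rw [RingHom.id_apply, Pi.smul_apply, smul_eq_mul, pvec_update, pvec_update, Pi.smul_apply, smul_eq_mul, mul_assoc]

theorem plin_apply (ξ : Fin n → Fin k → F) (l : Fin n) (z : Fin k → F) :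
    plin ξ l z = pvec (Function.update ξ l z) := rfl

theorem pvec_eq_zero {ξ : Fin n → Fin k → F} (l : Fin n) (h : ξ l = 0) : pvec ξ = 0 := by
  funext q; exact Finset.prod_eq_zero (Finset.mem_univ l) (by rw [h]; rfl)

/-- Multilinear extension. -/
theorem pvec_mem_of_span {S : Submodule F ((Fin n → Fin k) → F)} {G : Fin n → Set (Fin k → F)}
    (h : ∀ η, (∀ l, η l ∈ G l) → pvec η ∈ S) {η : Fin n → Fin k → F}
    (hη : ∀ l, η l ∈ Submodule.span F (G l)) : pvec η ∈ S := by
  classical
  suffices ∀ (s : Finset (Fin n)) (η : Fin n → Fin k → F),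
      (∀ l ∈ s, η l ∈ Submodule.span F (G l)) → (∀ l ∉ s, η l ∈ G l) → pvec η ∈ S from
    this Finset.univ η (fun l _ => hη l) fun l hl => absurd (Finset.mem_univ l) hl
  intro s
  induction s using Finset.induction with
  | empty => exact fun η _ h2 => h η fun l => h2 l (Finset.notMem_empty l)
  | @insert a s ha ih =>
    intro η h1 h2
    have h3 : Submodule.span F (G a) ≤ S.comap (plin η a) := Submodule.span_le.2 fun z hz => by
      refine ih (Function.update η a z) (fun l hl => ?_) fun l hl => ?_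
      · rw [Function.update_of_ne (show l ≠ a by rintro rfl; exact ha hl)]
        exact h1 l (Finset.mem_insert_of_mem hl)
      · by_cases hla : l = a
        · subst hla; rw [Function.update_self]; exact hz
        · rw [Function.update_of_ne hla]; exact h2 l (by simp [hla, hl])
    have h4 := h3 (h1 a (Finset.mem_insert_self a s))
    rwa [Submodule.mem_comap, plin_apply, Function.update_eq_self] at h4

theorem mem_span_f_one {e : Fin k → F} (he : e ≠ 0) (z : Fin k → F) :
    z ∈ Submodule.span F {x | D.f e x = 1} := by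
  obtain ⟨p, hp⟩ := D.nondeg he
  rw [show z = (z + (1 - D.f e z) • p) - (1 - D.f e z) • p by simp]
  refine sub_mem (Submodule.subset_span ?_) (Submodule.smul_mem _ _ (Submodule.subset_span hp))
  show D.f e (z + (1 - D.f e z) • p) = 1
  rw [D.f_add_right, D.f_smul_right, hp, mul_one, add_sub_cancel]

theorem exists_perp_notMem (hk : 3 ≤ k) (e : Fin k → F) :
    ∃ z, D.f e z = 0 ∧ z ∉ Submodule.span F {e} := by
  by_cases he : e = 0
  · refine ⟨Pi.single ⟨0, by omega⟩ 1, by rw [he, D.f_zero_left], ?_⟩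
    rw [he, Submodule.span_zero_singleton, Submodule.mem_bot]
    exact fun h => one_ne_zero (α := F) (by simpa using congrFun h ⟨0, by omega⟩)
  obtain ⟨χ, hχ⟩ := CfsgLib.Geo.TensorLinear.exists_dual he
  obtain ⟨c, hc0, hc⟩ := CfsgLib.Geo.TensorLinear.exists_perp ![e ᵥ* D.J, χ]
    (show 2 < Fintype.card (Fin k) by rw [Fintype.card_fin]; omega)
  refine ⟨c, by rw [Factor.f, dotProduct_comm]; exact hc 0, fun hm => ?_⟩
  obtain ⟨d, rfl⟩ := Submodule.mem_span_singleton.1 hm
  have h1 : χ ⬝ᵥ (d • e) = 0 := by rw [dotProduct_comm]; exact hc 1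
  rw [dotProduct_smul, hχ, smul_eq_mul, mul_one] at h1
  exact hc0 (by rw [h1, zero_smul])

theorem exists_perp_two (hk : 3 ≤ k) (a b : Fin k → F) :
    ∃ z, z ≠ 0 ∧ D.f a z = 0 ∧ D.f b z = 0 := by
  obtain ⟨c, hc0, hc⟩ := CfsgLib.Geo.TensorLinear.exists_perp ![a ᵥ* D.J, b ᵥ* D.J]
    (show 2 < Fintype.card (Fin k) by rw [Fintype.card_fin]; omega)
  exact ⟨c, hc0, by rw [Factor.f, dotProduct_comm]; exact hc 0, by rw [Factor.f, dotProduct_comm]; exact hc 1⟩

theorem mem_span_perp_notMem (hk : 3 ≤ k) (e : Fin k → F) {z : Fin k → F} (hz : D.f e z = 0) :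
    z ∈ Submodule.span F {x | D.f e x = 0 ∧ x ∉ Submodule.span F {e}} := by
  by_cases hze : z ∈ Submodule.span F {e}
  · obtain ⟨w, hw, hwe⟩ := exists_perp_notMem (D := D) hk e
    rw [show z = (z + w) - w by simp]
    refine sub_mem (Submodule.subset_span ⟨?_, fun h => hwe ?_⟩) (Submodule.subset_span ⟨hw, hwe⟩)
    · rw [D.f_add_right, hz, hw, add_zero]
    · simpa using Submodule.sub_mem _ h hze
  · exact Submodule.subset_span ⟨hz, hze⟩

section Group

variable (S : Space D Q) (K : Subgroup (OQ Q))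

/-- The vectors pairing with a given one into the group, linearly. -/
def HasLin (u : (Fin n → Fin k) → F) : Submodule F ((Fin n → Fin k) → F) where
  carrier := {w | polar Q u w = 0 ∧ ∀ c : F, Has S.nondeg K u (c • w)}
  zero_mem' := ⟨QuadraticMap.polar_zero_right _ _, fun c hu ha => by
    rw [eich_congr S.nondeg rfl (smul_zero c), eich_zero_right]; exact K.one_mem⟩
  add_mem' {a b} ha hb := ⟨by rw [polar_add_right', ha.1, hb.1, add_zero], fun c => by
    rw [smul_add]
    exact (ha.2 c).add S.nondeg (hb.2 c) (by rw [polar_smul_right', ha.1, mul_zero])⟩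
  smul_mem' d w hw := ⟨by rw [polar_smul_right', hw.1, mul_zero], fun c => by
    rw [smul_smul]; exact hw.2 _⟩

/-- The pair of two pure tensors. -/
abbrev Pair (ξ η : Fin n → Fin k → F) : Prop := pvec η ∈ HasLin S K (pvec ξ)

variable {S K}

theorem pair_of_zero {ξ η : Fin n → Fin k → F} (l : Fin n) (h : ξ l = 0) : Pair S K ξ η := by
  show pvec η ∈ HasLin S K (pvec ξ)
  rw [pvec_eq_zero l h]
  refine ⟨QuadraticMap.polar_zero_left _ _, fun c hu ha => ?_⟩
  rw [eich_zero_left]
  exact K.one_mem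

/-- Moving one pair by another. -/
theorem pair_lift {ξ v α γ : Fin n → Fin k → F} (hv : Pair S K ξ v) (hg : Pair S K α γ)
    (h1 : polar Q (pvec ξ) (pvec α) = 0) (h2 : polar Q (pvec ξ) (pvec γ) = 0)
    (h3 : polar Q (pvec v) (pvec γ) = 1) (h4 : polar Q (pvec v) (pvec α) = 0) : Pair S K ξ α := by
  refine ⟨h1, fun c => ?_⟩
  have hαγ : polar Q (pvec α) (pvec γ) = 0 := hg.1
  set g := eich S.nondeg (S.pure α) hαγ
  have hgK : g ∈ K := by
    have h := hg.2 1
    rw [one_smul] at h
    exact h _ _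
  have hfix : ((g : ((Fin n → Fin k) → F) ≃ₗ[F] _)) (pvec ξ) = pvec ξ := by
    rw [eich_apply, h1, h2, S.pure]; simp
  have hmove : ((g : ((Fin n → Fin k) → F) ≃ₗ[F] _)) (c • pvec v) = c • pvec v + c • pvec α := by
    rw [eich_apply, S.pure, polar_smul_left', polar_smul_left', h3, h4]; simp
  have h5 := (hv.2 c).conj S.nondeg hgK
  rw [hfix, hmove] at h5
  have h6 := h5.add S.nondeg (hv.2 (-c)) (by
    rw [polar_add_right', polar_smul_right', polar_smul_right', hv.1, h1, mul_zero, add_zero])
  rwa [show c • pvec v + c • pvec α + (-c) • pvec v = c • pvec α by module] at h6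

/-! ### From one factor -/

variable (S K) in
/-- All pairs differing at one given factor. -/
def OneSlot (q : Fin n) : Prop :=
  ∀ (ξ : Fin n → Fin k → F) (y : Fin k → F), D.f (ξ q) y = 0 → Pair S K ξ (Function.update ξ q y)

variable (S K) in
/-- All pairs orthogonal in a factor. -/
def OneOrth : Prop :=
  ∀ (ξ α : Fin n → Fin k → F) (a : Fin n), D.f (ξ a) (α a) = 0 → Pair S K ξ α

theorem eqAt_of_oneSlot (hk : 3 ≤ k) {q : Fin n} (h : OneSlot S K q) {ξ α : Fin n → Fin k → F}
    (hq : α q = ξ q) : Pair S K ξ α := by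
  classical
  by_cases hξ : ∀ l, ξ l ≠ 0
  swap
  · push Not at hξ; obtain ⟨l, hl⟩ := hξ; exact pair_of_zero l hl
  refine pvec_mem_of_span (G := fun l => if l = q then {ξ q} else {x | D.f (ξ l) x = 1}) ?_ fun l => ?_
  swap
  · by_cases hl : l = q
    · subst hl; rw [if_pos rfl, hq]; exact Submodule.subset_span rfl
    · rw [if_neg hl]; exact mem_span_f_one (hξ l) _
  intro η hη
  have hηq : η q = ξ q := by simpa using hη q
  have hηl : ∀ l, l ≠ q → D.f (ξ l) (η l) = 1 := fun l hl => by simpa [hl] using hη l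
  obtain ⟨y, hy, hys⟩ := exists_perp_notMem (D := D) hk (ξ q)
  obtain ⟨y', hy', hyy'⟩ := D.exists_partner hys
  refine pair_lift (h ξ (-y') (by rw [D.f_neg_right, hy', neg_zero])) (h η y (by rw [hηq]; exact hy))
    (S.polar_zero q (by rw [hηq, D.f_self])) (S.polar_zero q (by rw [Function.update_self]; exact hy))
    (S.polar_one fun l => ?_) (S.polar_zero q (by
      rw [Function.update_self, hηq, D.f_neg_left, D.f_swap (ξ q) y', hy', neg_zero, neg_zero]))
  by_cases hl : l = q
  · subst hl; rw [Function.update_self, Function.update_self, D.f_neg_left, D.f_swap y y', hyy', neg_neg]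
  · rw [Function.update_of_ne hl, Function.update_of_ne hl, hηl l hl]

theorem twoOrth_of_oneSlot (hk : 3 ≤ k) {q a : Fin n} (h : OneSlot S K q) (ha : a ≠ q)
    {ξ α : Fin n → Fin k → F} (hq : D.f (ξ q) (α q) = 0) (hfa : D.f (ξ a) (α a) = 0) : Pair S K ξ α := by
  classical
  by_cases hξ : ∀ l, ξ l ≠ 0
  swap
  · push Not at hξ; obtain ⟨l, hl⟩ := hξ; exact pair_of_zero l hl
  by_cases hs : α q ∈ Submodule.span F {ξ q}
  · obtain ⟨c, hc⟩ := Submodule.mem_span_singleton.1 hs
    show pvec α ∈ HasLin S K (pvec ξ)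
    rw [← Function.update_eq_self q α, ← plin_apply, ← hc, map_smul, plin_apply]
    exact (HasLin S K _).smul_mem c (eqAt_of_oneSlot hk h (by simp))
  obtain ⟨y, hξy, hαy⟩ := D.exists_partner hs
  have hp : ∀ l, ∃ z, D.f (ξ l) z = 1 := fun l => D.nondeg (hξ l)
  choose p hp using hp
  refine pair_lift (h ξ (-y) (by rw [D.f_neg_right, hξy, neg_zero]))
    (eqAt_of_oneSlot hk h (ξ := α) (α := Function.update p q (α q)) (by simp))
    (S.polar_zero q hq) (S.polar_zero q (by rw [Function.update_self]; exact hq))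
    (S.polar_one fun l => ?_) (S.polar_zero a (by rw [Function.update_of_ne ha]; exact hfa))
  by_cases hl : l = q
  · subst hl; rw [Function.update_self, Function.update_self, D.f_neg_left, D.f_swap (α l) y, hαy, neg_neg]
  · rw [Function.update_of_ne hl, Function.update_of_ne hl, hp l]

theorem oneOrth_of_oneSlot (hk : 3 ≤ k) (hn : 2 ≤ n) {q : Fin n} (h : OneSlot S K q) : OneOrth S K := by
  classical
  intro ξ α a hfa
  by_cases hξ : ∀ l, ξ l ≠ 0
  swap
  · push Not at hξ; obtain ⟨l, hl⟩ := hξ; exact pair_of_zero l hl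
  obtain ⟨b, hba, htwo⟩ : ∃ b, b ≠ a ∧ ∀ ξ α : Fin n → Fin k → F, D.f (ξ a) (α a) = 0 → D.f (ξ b) (α b) = 0 →
      Pair S K ξ α := by
    by_cases haq : a = q
    · haveI : Nontrivial (Fin n) := Fin.nontrivial_iff_two_le.2 hn
      obtain ⟨b, hb⟩ := exists_ne a
      exact ⟨b, hb, fun ξ α h1 h2 => twoOrth_of_oneSlot hk h (haq ▸ hb) (haq ▸ h1) h2⟩
    · exact ⟨q, Ne.symm haq, fun ξ α h1 h2 => twoOrth_of_oneSlot hk h haq h2 h1⟩
  refine pvec_mem_of_span (G := fun l => if l = a then {x | D.f (ξ a) x = 0 ∧ x ∉ Submodule.span F {ξ a}}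
    else if l = b then {x | D.f (ξ b) x = 1} else Set.univ) ?_ fun l => ?_
  swap
  · by_cases hl : l = a
    · subst hl; rw [if_pos rfl]; exact mem_span_perp_notMem hk _ hfa
    · rw [if_neg hl]
      by_cases hlb : l = b
      · subst hlb; rw [if_pos rfl]; exact mem_span_f_one (hξ l) _
      · rw [if_neg hlb]; exact Submodule.subset_span (Set.mem_univ _)
  intro η hη
  obtain ⟨ha1, ha2⟩ : D.f (ξ a) (η a) = 0 ∧ η a ∉ Submodule.span F {ξ a} := by simpa using hη a
  have hb1 : D.f (ξ b) (η b) = 1 := by simpa [hba] using hη b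
  have hηa : η a ≠ 0 := fun h0 => ha2 (by rw [h0]; exact Submodule.zero_mem _)
  obtain ⟨γa, hγ1, hγ2⟩ := D.exists_partner (a := η a) (b := ξ a) fun hm => by
    obtain ⟨c, hc⟩ := Submodule.mem_span_singleton.1 hm
    have hc0 : c ≠ 0 := fun h0 => hξ a (by rw [← hc, h0, zero_smul])
    exact ha2 (Submodule.mem_span_singleton.2 ⟨c⁻¹, by rw [← hc, inv_smul_smul₀ hc0]⟩)
  obtain ⟨γb, hγb0, hγb1, hγb2⟩ := exists_perp_two (D := D) hk (ξ b) (η b)
  obtain ⟨wb, hwb1, hwb2⟩ := D.exists_partner (a := ξ b) (b := γb) fun hm => by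
    obtain ⟨c, rfl⟩ := Submodule.mem_span_singleton.1 hm
    rw [D.f_smul_right, D.f_swap (ξ b) (η b), hb1, mul_neg, mul_one, neg_eq_zero] at hγb2
    exact hγb0 (by rw [hγb2, zero_smul])
  have hp : ∀ l, ∃ z, D.f (ξ l) z = 1 := fun l => D.nondeg (hξ l)
  choose p hp using hp
  set γ := Function.update (Function.update p a γa) b γb
  set v := Function.update ξ b (-wb)
  have ga : γ a = γa := by simp [γ, Function.update_of_ne hba.symm]
  have gb : γ b = γb := by simp [γ]
  have va : v a = ξ a := by simp [v, Function.update_of_ne hba.symm]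
  have vb : v b = -wb := by simp [v]
  refine pair_lift (htwo ξ v (by rw [va, D.f_self]) (by rw [vb, D.f_neg_right, hwb1, neg_zero]))
    (htwo η γ (by rw [ga]; exact hγ1) (by rw [gb]; exact hγb2))
    (S.polar_zero a ha1) (S.polar_zero b (by rw [gb]; exact hγb1))
    (S.polar_one fun l => ?_) (S.polar_zero a (by rw [va]; exact ha1))
  by_cases hlb : l = b
  · subst hlb; rw [vb, gb, D.f_neg_left, D.f_swap γb wb, hwb2, neg_neg]
  by_cases hla : l = a
  · subst hla; rw [va, ga, hγ2]
  · simp [v, γ, Function.update_of_ne hlb, Function.update_of_ne hla, hp l]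

/-! ### From two equal factors -/

variable (S K) in
/-- All pairs agreeing at two factors. -/
def EqTwo : Prop :=
  ∀ (ξ α : Fin n → Fin k → F) (a b : Fin n), a ≠ b → α a = ξ a → α b = ξ b → Pair S K ξ α

theorem oneOrth_of_eqTwo (hn : 4 ≤ n) (h : EqTwo S K) : OneOrth S K := by
  classical
  intro ξ α a hfa
  by_cases hξ : ∀ l, ξ l ≠ 0
  swap
  · push Not at hξ; obtain ⟨l, hl⟩ := hξ; exact pair_of_zero l hl
  obtain ⟨T, hT, hTc⟩ := Finset.exists_subset_card_eq (s := (Finset.univ : Finset (Fin n)).erase a) (n := 3)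
    (by rw [Finset.card_erase_of_mem (Finset.mem_univ a), Finset.card_univ, Fintype.card_fin]; omega)
  obtain ⟨p, r, s, hpr, hps, hrs, rfl⟩ := Finset.card_eq_three.1 hTc
  have hpa : p ≠ a := (Finset.mem_erase.1 (hT (by simp))).1
  have hra : r ≠ a := (Finset.mem_erase.1 (hT (by simp))).1
  have hsa : s ≠ a := (Finset.mem_erase.1 (hT (by simp))).1
  refine pvec_mem_of_span (G := fun l => if l = a then {α a}
    else if l = p ∨ l = r then {x | D.f (ξ l) x = 1} else Set.univ) ?_ fun l => ?_
  swap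
  · by_cases hl : l = a
    · subst hl; rw [if_pos rfl]; exact Submodule.subset_span rfl
    · rw [if_neg hl]
      split_ifs
      · exact mem_span_f_one (hξ l) _
      · exact Submodule.subset_span (Set.mem_univ _)
  intro η hη
  have hηa : η a = α a := by simpa using hη a
  have hηp : D.f (ξ p) (η p) = 1 := by simpa [hpa] using hη p
  have hηr : D.f (ξ r) (η r) = 1 := by simpa [hra] using hη r
  have hp : ∀ l, ∃ z, D.f (ξ l) z = 1 := fun l => D.nondeg (hξ l)
  choose z hz using hp
  set γ : Fin n → Fin k → F := fun l => if l = s then ξ s else if l = p ∨ l = r then η l else z l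
  set v := Function.update ξ s (-z s)
  have vne : ∀ l, l ≠ s → v l = ξ l := fun l hl => by simp [v, Function.update_of_ne hl]
  refine pair_lift (h ξ v p r hpr (vne p hps) (vne r hrs))
    (h η γ p r hpr (by simp [γ, hps]) (by simp [γ, hrs]))
    (S.polar_zero a (by rw [hηa]; exact hfa)) (S.polar_zero s (by simp [γ, D.f_self]))
    (S.polar_one fun l => ?_) (S.polar_zero a (by rw [vne a hsa.symm, hηa]; exact hfa))
  by_cases hls : l = s
  · subst hls; simp [v, γ, D.f_neg_left, D.f_swap (ξ l) (z l), hz l]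
  rw [vne l hls]
  by_cases hlp : l = p ∨ l = r
  · rcases hlp with rfl | rfl <;> simp [γ, hls, hηp, hηr]
  · simp [γ, hls, hlp, hz l]

/-! ### The whole group -/

theorem hasRoot_of_oneOrth (h : OneOrth S K) {ξ : Fin n → Fin k → F} (hξ : ∀ l, ξ l ≠ 0) :
    HasRoot S.nondeg K (pvec ξ) := by
  classical
  have hp : ∀ l, ∃ z, D.f (ξ l) z = 1 := fun l => D.nondeg (hξ l)
  choose p hp using hp
  have key : ∀ (s : Finset (Fin n)) (ζ : Fin n → Fin k → F),
      pvec ζ - (∏ l ∈ s, D.f (ξ l) (ζ l)) • pvec (s.piecewise p ζ) ∈ HasLin S K (pvec ξ) := by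
    intro s
    induction s using Finset.induction with
    | empty => intro ζ; simp
    | @insert a s ha ih =>
      intro ζ
      have h1 := ih ζ
      set μ := ∏ l ∈ s, D.f (ξ l) (ζ l)
      set θ := s.piecewise p ζ
      have hθa : θ a = ζ a := Finset.piecewise_eq_of_notMem _ _ _ ha
      have h2 : pvec (Function.update θ a (ζ a - D.f (ξ a) (ζ a) • p a)) ∈ HasLin S K (pvec ξ) :=
        h ξ _ a (by rw [Function.update_self, D.f_sub_right, D.f_smul_right, hp, mul_one, sub_self])
      have h3 : pvec (Function.update θ a (ζ a)) = pvec θ := by rw [← hθa, Function.update_eq_self]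
      rw [← plin_apply, map_sub, map_smul, plin_apply, plin_apply, h3] at h2
      convert (HasLin S K (pvec ξ)).add_mem h1 ((HasLin S K (pvec ξ)).smul_mem μ h2) using 1
      rw [Finset.prod_insert ha, Finset.piecewise_insert, smul_sub, smul_smul, mul_comm μ]
      abel
  set q : (Fin n → Fin k) → F := pvec p
  let L : ((Fin n → Fin k) → F) →ₗ[F] ((Fin n → Fin k) → F) :=
    LinearMap.id - ((polarBilin Q) (pvec ξ)).smulRight q
  have hL : ∀ ζ, L (pvec ζ) ∈ HasLin S K (pvec ξ) := fun ζ => by
    have h1 := key Finset.univ ζ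
    rw [Finset.piecewise_univ, ← S.polar_pvec] at h1
    exact h1
  intro x hu hx
  have hxmem : L x ∈ HasLin S K (pvec ξ) := by
    rw [show x = ∑ c, x c • pvec (fun l => Pi.single (c l) (1 : F)) by
      funext d
      simp only [Finset.sum_apply, Pi.smul_apply, smul_eq_mul]
      rw [Fintype.sum_eq_single d fun b hb => ?_]
      · simp [pvec]
      · obtain ⟨l, hl⟩ := Function.ne_iff.1 hb.symm
        rw [pvec, Finset.prod_eq_zero (Finset.mem_univ l) (by simp [hl]), mul_zero]]
    rw [map_sum]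
    exact Submodule.sum_mem _ fun c _ => by rw [map_smul]; exact Submodule.smul_mem _ _ (hL _)
  have e : L x = x := by
    show x - polar Q (pvec ξ) x • q = x
    rw [hx, zero_smul, sub_zero]
  rw [e] at hxmem
  have h1 := hxmem.2 1
  rw [one_smul] at h1
  exact h1 hu hx

/-- Root groups at two opposite points give the whole group. -/
theorem eichGroup_le_of_two [Finite F] {u u' : (Fin n → Fin k) → F} (hu : Q u = 0) (hu' : Q u' = 0)
    (huu : polar Q u u' = 1) (hr : HasRoot S.nondeg K u) (hr' : HasRoot S.nondeg K u') :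
    eichGroup S.nondeg ≤ K := by
  have hn := S.five
  have step : ∀ v, Q v = 0 → polar Q u v = 1 → HasRoot S.nondeg K v := by
    intro v hv huv
    have ha : polar Q u (u' - v) = 0 := by rw [QuadraticMap.polar_sub_right, huu, huv, sub_self]
    have e : ((eich S.nondeg hu ha : OQ Q) : ((Fin n → Fin k) → F) ≃ₗ[F] _) u' = v := by
      have e2 : Q (u' - v) = -polar Q u' v := by
        rw [sub_eq_add_neg, apply_add, QuadraticMap.map_neg, QuadraticMap.polar_neg_right, hu', hv]; ring
      rw [eich_apply, QuadraticMap.polar_sub_right, polar_self', hu', e2, QuadraticMap.polar_comm Q u' u, huu]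
      module
    rw [← e]
    exact hr'.conj S.nondeg (hr _ hu ha)
  have step' : ∀ v, Q v = 0 → polar Q u v ≠ 0 → HasRoot S.nondeg K v := fun v hv h => by
    refine HasRoot.of_smul S.nondeg (inv_ne_zero h) (step _ ?_ ?_)
    · rw [apply_smul, hv, mul_zero]
    · rw [polar_smul_right', inv_mul_cancel₀ h]
  refine le_of_has S.nondeg hn fun w x hw _ _ => ?_
  suffices HasRoot S.nondeg K w from this x
  by_cases hw0 : w = 0
  · intro a hw ha
    rw [eich_congr S.nondeg hw0 (rfl : a = a), eich_zero_left]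
    exact K.one_mem
  by_cases h : polar Q u w = 0
  swap
  · exact step' w hw h
  by_cases hli : LinearIndependent F ![u, w]
  · obtain ⟨z, hz, hzu, hzw⟩ := exists_common_partner S.nondeg hn hu hw hli
    have hz' : HasRoot S.nondeg K z := step z hz (by rw [QuadraticMap.polar_comm, hzu])
    have ha : polar Q z (u - w) = 0 := by rw [QuadraticMap.polar_sub_right, hzu, hzw, sub_self]
    have e : ((eich S.nondeg hz ha : OQ Q) : ((Fin n → Fin k) → F) ≃ₗ[F] _) u = w := by
      have e2 : Q (u - w) = 0 := by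
        rw [sub_eq_add_neg, apply_add, QuadraticMap.map_neg, QuadraticMap.polar_neg_right, hu, hw, h]; ring
      rw [eich_apply, QuadraticMap.polar_sub_right, polar_self', hu, e2, h, QuadraticMap.polar_comm Q u z, hzu]
      module
    rw [← e]
    exact hr.conj S.nondeg (hz' _ hz ha)
  · have hu0 : u ≠ 0 := fun e => by simp [e] at huu
    rw [linearIndependent_fin2] at hli
    simp only [Matrix.cons_val_one, Matrix.cons_val_zero, ne_eq, hw0, not_false_eq_true, true_and, not_forall,
      not_not] at hli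
    obtain ⟨c, hc⟩ := hli
    have hc0 : c ≠ 0 := fun e => hu0 (by rw [← hc, e, zero_smul])
    exact HasRoot.of_smul S.nondeg hc0 (hc.symm ▸ hr)

/-- **Pairs orthogonal in one factor give all of `Ω`.** -/
theorem eichGroup_le_of_oneOrth [Finite F] (hk : 1 ≤ k) (h : OneOrth S K) : eichGroup S.nondeg ≤ K := by
  set e : Fin k → F := Pi.single ⟨0, by omega⟩ 1
  have he : e ≠ 0 := fun h0 => one_ne_zero (α := F) (by simpa [e] using congrFun h0 ⟨0, by omega⟩)
  obtain ⟨f, hf⟩ := D.nondeg he
  have hf0 : f ≠ 0 := fun h0 => by rw [h0, D.f_zero_right] at hf; exact zero_ne_one hf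
  exact eichGroup_le_of_two (S := S) (S.pure fun _ => e) (S.pure fun _ => f) (S.polar_one fun _ => hf)
    (hasRoot_of_oneOrth h fun _ => he) (hasRoot_of_oneOrth h fun _ => hf0)

end Group

end CfsgLib.HallGen.SympPlus
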