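/-
The tensor power of a symplectic factor as an orthogonal space: isometries, elements of `Ω`, non-standard elements.
-/
import Cfsg.Agent.Lib.HallGen.SympPlus.Pairs
import Cfsg.Agent.Lib.Classical.Quad.Matrix
import Cfsg.Agent.Lib.Classical.Symplectic.Structure
import Cfsg.Prelude.Def_GeometricClasses

set_option autoImplicit false
set_option linter.unusedSectionVars false
set_option maxHeartbeats 400000

namespace CfsgLib.HallGen.SympPlus

open Matrix CfsgLib.HallGen.SympWreath CfsgLib.Geo CfsgLib.Geo.SpinTensor CfsgLib.Geo.TensorWreath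
open CfsgLib.Classical.Quad CfsgLib.Geo.OrthMax
open QuadraticMap (polar polarBilin)
open scoped Kronecker

variable {F : Type*} [Field F] {k n t : ℕ} {D : Factor F k} {Q : QuadraticForm F ((Fin n → Fin k) → F)}

theorem single_eq_pvec (c : Fin n → Fin k) :
    (Pi.single c (1 : F) : (Fin n → Fin k) → F) = pvec fun l => Pi.single (c l) (1 : F) := by
  funext d
  by_cases h : d = c
  · subst h; simp [pvec]
  · obtain ⟨l, hl⟩ := Function.ne_iff.1 h
    rw [Pi.single_eq_of_ne h, pvec, Finset.prod_eq_zero (Finset.mem_univ l) (Pi.single_eq_of_ne hl _)]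

/-- A quadratic form vanishing on a basis whose polar is zero on it vanishes. -/
theorem eq_zero_of_basis {ι : Type} [Fintype ι] [DecidableEq ι] (f : (ι → F) → F)
    (hadd : ∀ a b, f (a + b) = f a + f b) (hsmul : ∀ (c : F) a, f (c • a) = c * c * f a)
    (h : ∀ i, f (Pi.single i 1) = 0) (a : ι → F) : f a = 0 := by
  let S : Submodule F (ι → F) :=
    { carrier := {a | f a = 0}
      zero_mem' := by show f 0 = 0; rw [← zero_smul F (0 : ι → F), hsmul, mul_zero, zero_mul]
      add_mem' := fun {a b} ha hb => by show f (a + b) = 0; rw [hadd, ha, hb, add_zero]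
      smul_mem' := fun c a ha => by show f (c • a) = 0; rw [hsmul, ha, mul_zero] }
  show a ∈ S
  rw [pi_eq_sum_univ' a]
  exact Submodule.sum_mem _ fun i _ => S.smul_mem _ (h i)

theorem gram_of_adjV {M : Matrix (Fin n → Fin k) (Fin n → Fin k) F} (h : adjV D M * M = 1) :
    Mᵀ * (outerT D n).G * M = (outerT D n).G := by
  have h1 := congrArg ((outerT D n).G * ·) h
  rwa [show (outerT D n).G * (adjV D M * M) = Mᵀ * (outerT D n).G * M by
    show (outerT D n).G * ((outerT D n).Gi * Mᵀ * (outerT D n).G * M) = _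
    simp only [← mul_assoc, (outerT D n).mul_inv, one_mul], mul_one] at h1

theorem gram_mulVec {M : Matrix (Fin n → Fin k) (Fin n → Fin k) F} (x y : (Fin n → Fin k) → F) :
    (M *ᵥ x) ⬝ᵥ ((outerT D n).G *ᵥ (M *ᵥ y)) = x ⬝ᵥ ((Mᵀ * (outerT D n).G * M) *ᵥ y) := by
  rw [← Matrix.vecMul_transpose, ← Matrix.dotProduct_mulVec, Matrix.mulVec_mulVec, Matrix.mulVec_mulVec]

/-- Isometries of the polar form sending pure tensors to singular vectors preserve the quadratic form. -/
theorem Space.preserves (S : Space D Q) {M : Matrix (Fin n → Fin k) (Fin n → Fin k) F} (hM : adjV D M * M = 1)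
    (h : ∀ ξ, Q (M *ᵥ pvec ξ) = 0) (x : (Fin n → Fin k) → F) : Q (M *ᵥ x) = Q x := by
  refine sub_eq_zero.1 (eq_zero_of_basis (fun a => Q (M *ᵥ a) - Q a) (fun a b => ?_) (fun c a => ?_) (fun i => ?_) x)
  · simp only [Matrix.mulVec_add]
    rw [apply_add, apply_add, S.polar_eq, S.polar_eq a b, gram_mulVec, gram_of_adjV hM]
    ring
  · simp only [Matrix.mulVec_smul, apply_smul]
    ring
  · simp only [single_eq_pvec, h, S.pure, sub_zero]

theorem Space.adjV_eq_one (S : Space D Q) {M : Matrix (Fin n → Fin k) (Fin n → Fin k) F}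
    (hM : ∀ x, Q (M *ᵥ x) = Q x) : adjV D M * M = 1 := by
  have h : ∀ x y, polar Q (M *ᵥ x) (M *ᵥ y) = polar Q x y := fun x y => by
    simp only [QuadraticMap.polar, ← Matrix.mulVec_add, hM]
  have h1 : Mᵀ * (outerT D n).G * M = (outerT D n).G := Matrix.ext_of_mulVec_single fun q =>
    dotProduct_eq _ _ fun u => by rw [dotProduct_comm, dotProduct_comm _ u, ← gram_mulVec, ← S.polar_eq, h, S.polar_eq]
  show (outerT D n).Gi * Mᵀ * (outerT D n).G * M = 1
  rw [Matrix.mul_assoc ((outerT D n).Gi * Mᵀ), Matrix.mul_assoc _ Mᵀ, ← Matrix.mul_assoc Mᵀ, h1]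
  exact (outerT D n).inv_mul

theorem mem_isometryGroup_iff {g : GL (Fin n → Fin k) F} :
    g ∈ Cfsg.isometryGroup F (⇑Q) ↔ ∀ x, Q ((g : Matrix (Fin n → Fin k) (Fin n → Fin k) F) *ᵥ x) = Q x :=
  ⟨fun h x => h x x, fun h u _ => h u⟩

theorem Space.adjV_of_mem (S : Space D Q) {g : GL (Fin n → Fin k) F} (hg : g ∈ Cfsg.isometryGroup F (⇑Q)) :
    adjV D (g : Matrix (Fin n → Fin k) (Fin n → Fin k) F) * (g : Matrix (Fin n → Fin k) (Fin n → Fin k) F) = 1 :=
  S.adjV_eq_one (mem_isometryGroup_iff.1 hg)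

/-- The image of a perfect group of isometries lies in `Ω`. -/
theorem mem_omega_of_perfect {G : Type*} [Group G] (hG : commutator G = ⊤) (φ : G →* GL (Fin n → Fin k) F)
    (h : ∀ g, φ g ∈ Cfsg.isometryGroup F (⇑Q)) (g : G) : φ g ∈ Cfsg.Geo.omegaGL (⇑Q) := by
  let φ' : G →* Cfsg.isometryGroup F (⇑Q) := φ.codRestrict _ h
  have h1 : φ' g ∈ commutator (Cfsg.isometryGroup F (⇑Q)) := by
    have h2 : (commutator G).map φ' ≤ commutator (Cfsg.isometryGroup F (⇑Q)) := by
      rw [commutator_def, Subgroup.map_commutator, commutator_def]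
      exact Subgroup.commutator_mono le_top le_top
    exact h2 ⟨g, by rw [hG]; exact Subgroup.mem_top g, rfl⟩
  exact ⟨φ' g, h1, rfl⟩

/-- The isometries of an alternating Gram matrix form a perfect group, which maps into `Ω`. -/
theorem mem_omega_of_sp {β : Type} [Fintype β] [DecidableEq β] (J Ji : Matrix β β F) (hJ : J * Ji = 1)
    (halt : ∀ v : β → F, v ⬝ᵥ (J *ᵥ v) = 0)
    (hperf : (4 ≤ Fintype.card β ∧ (2 : F) ≠ 0) ∨ 6 ≤ Fintype.card β ∨ ∃ a : F, a ≠ 0 ∧ a ^ 2 ≠ 1)
    (θ : GL β F →* GL (Fin n → Fin k) F)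
    (hθ : ∀ u : GL β F, (u : Matrix β β F)ᵀ * J * (u : Matrix β β F) = J → θ u ∈ Cfsg.isometryGroup F (⇑Q))
    {u : GL β F} (hu : (u : Matrix β β F)ᵀ * J * (u : Matrix β β F) = J) : θ u ∈ Cfsg.Geo.omegaGL (⇑Q) := by
  classical
  set B : LinearMap.BilinForm F (β → F) := Matrix.toBilin' J
  have hBv : ∀ x y, B x y = x ⬝ᵥ (J *ᵥ y) := fun x y => Matrix.toBilin'_apply' _ _ _
  have hA : B.IsAlt := fun v => by rw [hBv]; exact halt v
  have hB : B.Nondegenerate := by
    refine LinearMap.BilinForm.nondegenerate_toBilin'_of_det_ne_zero' _ fun h0 => ?_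
    have := congrArg Matrix.det hJ
    rw [Matrix.det_mul, h0, zero_mul, Matrix.det_one] at this
    exact zero_ne_one this
  have htop := CfsgLib.Classical.Symp.commutator_eq_top hA hB (by rwa [Module.finrank_pi])
  let ι : CfsgLib.Classical.Symp.Sp B →* GL β F := (equivGL (F := F)).comp (CfsgLib.Classical.Symp.Sp B).subtype
  have hι : ∀ g, ((ι g : GL β F) : Matrix β β F)ᵀ * J * (ι g : GL β F) = J := fun g => by
    refine Matrix.ext_of_mulVec_single fun q => dotProduct_eq _ _ fun x => ?_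
    rw [dotProduct_comm, dotProduct_comm _ x, ← hBv x,
      ← show B ((g : (β → F) ≃ₗ[F] (β → F)) x) ((g : (β → F) ≃ₗ[F] (β → F)) (Pi.single q 1)) = B x (Pi.single q 1) from
        g.2 x (Pi.single q 1), hBv,
      ← Matrix.mulVec_mulVec, ← Matrix.mulVec_mulVec, Matrix.dotProduct_mulVec x _ (J *ᵥ _), Matrix.vecMul_transpose]
    simp only [ι, MonoidHom.comp_apply, Subgroup.coe_subtype, equivGL_mulVec]
  have h := mem_omega_of_perfect (Q := Q) htop (θ.comp ι) (fun g => hθ _ (hι g))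
  obtain ⟨g, hg⟩ : ∃ g : CfsgLib.Classical.Symp.Sp B, ι g = u := by
    refine ⟨⟨LinearEquiv.ofLinear (Matrix.toLin' (u : Matrix β β F)) (Matrix.toLin' ((u⁻¹ : GL β F) : Matrix β β F))
      (by rw [← Matrix.toLin'_mul, Units.mul_inv, Matrix.toLin'_one])
      (by rw [← Matrix.toLin'_mul, Units.inv_mul, Matrix.toLin'_one]), fun x y => ?_⟩,
      Units.ext (LinearMap.toMatrix'_toLin' (u : Matrix β β F))⟩
    show B ((u : Matrix β β F) *ᵥ x) ((u : Matrix β β F) *ᵥ y) = B x y
    rw [hBv, hBv, ← Matrix.vecMul_transpose, ← Matrix.dotProduct_mulVec, Matrix.mulVec_mulVec, Matrix.mulVec_mulVec,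
      hu]
  rw [← hg]
  exact h g

/-- The isometries of one factor are in `Ω`. -/
theorem Space.base_mem (S : Space D Q)
    (hperf : (4 ≤ k ∧ (2 : F) ≠ 0) ∨ 6 ≤ k ∨ ∃ a : F, a ≠ 0 ∧ a ^ 2 ≠ 1)
    (i : Fin n) {B : Matrix (Fin k) (Fin k) F} (hB : D.Iso B) :
    Mem (Cfsg.Geo.omegaGL (⇑Q)) (SpinTensor.emb i B) := by
  refine ⟨fac i ⟨B, D.adj B, hB.mul_adj, hB⟩, ?_, by rw [val_fac]⟩
  refine mem_omega_of_sp D.J D.Ji D.mul_inv (fun v => by rw [Matrix.dotProduct_mulVec]; exact D.alt v)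
    (by rwa [Fintype.card_fin]) (fac i) (fun u hu => ?_) (u := ⟨B, D.adj B, hB.mul_adj, hB⟩) ?_
  · refine mem_isometryGroup_iff.2 (S.preserves ?_ fun ξ => ?_)
    · rw [val_fac, adjV_emb, emb_mul_emb, show D.adj (u : Matrix (Fin k) (Fin k) F) * (u : Matrix (Fin k) (Fin k) F) = 1 by
        show D.Ji * _ * D.J * _ = 1
        rw [Matrix.mul_assoc (D.Ji * _), Matrix.mul_assoc D.Ji, ← Matrix.mul_assoc _ D.J, hu, D.inv_mul], emb_one]
    · rw [val_fac, show SpinTensor.emb i (u : Matrix (Fin k) (Fin k) F) = SpinTensor.pure _ from rfl, pure_mulVec]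
      exact S.pure _
  · show Bᵀ * D.J * B = D.J
    have h := congrArg (D.J * ·) (show D.adj B * B = 1 from hB)
    simpa [Factor.adj, ← Matrix.mul_assoc, D.mul_inv] using h

/-- A vector of the other factors with a vector of one factor. -/
def ins (i : Fin (t + 1)) (z : Fin k → F) : ((Fin t → Fin k) → F) →ₗ[F] ((Fin (t + 1) → Fin k) → F) where
  toFun a c := a ((sp i).symm c).1 * z ((sp i).symm c).2
  map_add' a b := funext fun c => add_mul _ _ _
  map_smul' s a := funext fun c => mul_assoc _ _ _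

theorem ins_pvec (i : Fin (t + 1)) (z : Fin k → F) (η : Fin t → Fin k → F) :
    ins i z (pvec η) = pvec (i.insertNth z η) := by
  funext c
  obtain ⟨p, rfl⟩ := (sp i).surjective c
  show pvec η ((sp i).symm (sp i p)).1 * z ((sp i).symm (sp i p)).2 = _
  rw [Equiv.symm_apply_apply, pvec, pvec, Fin.prod_univ_succAbove _ i, Fin.insertNth_apply_same, sp_self, mul_comm]
  simp only [Fin.insertNth_apply_succAbove, sp_succAbove]

theorem upM_ins (i : Fin (t + 1)) (z : Fin k → F) (A : Matrix (Fin t → Fin k) (Fin t → Fin k) F)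
    (a : (Fin t → Fin k) → F) : upM i A *ᵥ ins i z a = ins i z (A *ᵥ a) := by
  funext c
  obtain ⟨p, rfl⟩ := (sp i).surjective c
  show ∑ d, upM i A (sp i p) d * ins i z a d = (A *ᵥ a) ((sp i).symm (sp i p)).1 * z ((sp i).symm (sp i p)).2
  rw [← (sp (m := k) i).sum_comp, Equiv.symm_apply_apply, Fintype.sum_prod_type, Matrix.mulVec, dotProduct, Finset.sum_mul]
  refine Finset.sum_congr rfl fun d _ => ?_
  have h1 : ∀ q, upM i A (sp i p) (sp i (d, q)) = A p.1 d * (if p.2 = q then 1 else 0) := fun q => by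
    have := congrFun (congrFun (sub_upM i A) p) (d, q)
    rwa [Matrix.submatrix_apply, Matrix.kroneckerMap_apply, Matrix.one_apply] at this
  simp only [h1, ins, LinearMap.coe_mk, AddHom.coe_mk, Equiv.symm_apply_apply]
  rw [Finset.sum_eq_single p.2]
  · simp; ring
  · intro q _ hq; simp [hq.symm]
  · simp

/-- The isometries of the other factors are in `Ω`. -/
theorem Space.up_mem {Q : QuadraticForm F ((Fin (t + 1) → Fin k) → F)} (S : Space D Q)
    (halt : ∀ v, v ⬝ᵥ ((outerT D t).G *ᵥ v) = 0)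
    (hperf : (4 ≤ k ^ t ∧ (2 : F) ≠ 0) ∨ 6 ≤ k ^ t ∨ ∃ a : F, a ≠ 0 ∧ a ^ 2 ≠ 1)
    (i : Fin (t + 1)) {A : GL (Fin t → Fin k) F}
    (hA : adjV D (A : Matrix (Fin t → Fin k) (Fin t → Fin k) F) * (A : Matrix (Fin t → Fin k) (Fin t → Fin k) F) = 1) :
    upGL i A ∈ Cfsg.Geo.omegaGL (⇑Q) := by
  refine mem_omega_of_sp (outerT D t).G (outerT D t).Gi (outerT D t).mul_inv halt
    (by rwa [Fintype.card_fun, Fintype.card_fin, Fintype.card_fin]) (upGL i) (fun u hu => ?_) (gram_of_adjV hA)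
  refine mem_isometryGroup_iff.2 (S.preserves ?_ fun ξ => ?_)
  · rw [upGL_val, adjV_upM, ← map_mul, show adjV D (u : Matrix (Fin t → Fin k) (Fin t → Fin k) F) *
      (u : Matrix (Fin t → Fin k) (Fin t → Fin k) F) = 1 by
        show (outerT D t).Gi * _ * (outerT D t).G * _ = 1
        rw [Matrix.mul_assoc ((outerT D t).Gi * _), Matrix.mul_assoc (outerT D t).Gi, ← Matrix.mul_assoc _ (outerT D t).G,
          hu]
        exact (outerT D t).inv_mul, map_one]
  · rw [upGL_val, show ξ = i.insertNth (ξ i) (fun j => ξ (i.succAbove j)) from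
        (Fin.insertNth_self_removeNth i ξ).symm, ← ins_pvec, upM_ins]
    refine eq_zero_of_basis (fun a => Q (ins i (ξ i) a)) (fun a b => ?_) (fun c a => ?_) (fun c => ?_) _
    · simp only [map_add, apply_add, add_eq_left]
      have hR : ∀ x y : (Fin t → Fin k) → F, polar Q (ins i (ξ i) x) (ins i (ξ i) y) = 0 := by
        intro x y
        rw [pi_eq_sum_univ' x, pi_eq_sum_univ' y, map_sum, map_sum]
        show polarBilin Q _ _ = 0
        rw [LinearMap.BilinForm.sum_left]
        refine Finset.sum_eq_zero fun c _ => ?_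
        rw [LinearMap.BilinForm.sum_right]
        refine Finset.sum_eq_zero fun d _ => ?_
        rw [map_smul, map_smul, map_smul, LinearMap.smul_apply, map_smul, single_eq_pvec, single_eq_pvec, ins_pvec,
          ins_pvec, QuadraticMap.polarBilin_apply_apply, S.polar_zero i (by simp [D.f_self]), smul_zero, smul_zero]
      exact hR a b
    · simp only [map_smul, apply_smul]
    · simp only [single_eq_pvec, ins_pvec, S.pure]

/-! ### Membership -/

/-- The group of automorphisms given by a group of matrices. -/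
noncomputable def kOf (Q : QuadraticForm F ((Fin n → Fin k) → F)) (X : Subgroup (GL (Fin n → Fin k) F)) :
    Subgroup (OQ Q) :=
  (X.subgroupOf (Cfsg.isometryGroup F (⇑Q))).map (oEquiv Q).toMonoidHom

theorem has_of_mem (S : Space D Q) {X : Subgroup (GL (Fin n → Fin k) F)}
    (hX : X ≤ Cfsg.isometryGroup F (⇑Q)) {u a : (Fin n → Fin k) → F} (hu : Q u = 0) (ha : polar Q u a = 0)
    {M : Matrix (Fin n → Fin k) (Fin n → Fin k) F} (hM : Mem X M)
    (h : ∀ x, M *ᵥ x = x + (polar Q x a - Q a * polar Q x u) • u + (-polar Q x u) • a) :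
    eich S.nondeg hu ha ∈ kOf Q X := by
  obtain ⟨g, hg, rfl⟩ := hM
  refine ⟨⟨g, hX hg⟩, hg, Subtype.ext (LinearEquiv.ext fun x => ?_)⟩
  rw [eich_apply, ← h, MulEquiv.coe_toMonoidHom, oEquiv_apply]

theorem omega_le_of_kOf [Finite F] (S : Space D Q) {X : Subgroup (GL (Fin n → Fin k) F)}
    (h : eichGroup S.nondeg ≤ kOf Q X) : Cfsg.Geo.omegaGL (⇑Q) ≤ X := by
  rintro _ ⟨g, hg, rfl⟩
  have h1 : oEquiv Q g ∈ eichGroup S.nondeg := by
    rw [eichGroup_eq_commutator S.nondeg S.five]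
    have h2 : (commutator ↥(Cfsg.isometryGroup F (⇑Q))).map (oEquiv Q).toMonoidHom ≤ commutator (OQ Q) := by
      rw [commutator_def, commutator_def, Subgroup.map_commutator]
      exact Subgroup.commutator_mono le_top le_top
    exact h2 ⟨g, hg, rfl⟩
  obtain ⟨g', hg', e⟩ := h h1
  rw [← (oEquiv Q).injective e]
  exact hg'

theorem pureR_mulVec (ξ η : Fin n → Fin k → F) (x : (Fin n → Fin k) → F) :
    SpinTensor.pure (fun l => D.R (ξ l) (η l)) *ᵥ x = (pvec η ⬝ᵥ ((outerT D n).G *ᵥ x)) • pvec ξ := by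
  have h1 : SpinTensor.pure (fun l => D.R (ξ l) (η l)) = Matrix.vecMulVec (pvec ξ) (pvec η ᵥ* (outerT D n).G) := by
    ext c c'
    rw [Matrix.vecMulVec_apply, pure_apply]
    simp only [Factor.R, Matrix.vecMulVec_apply, Finset.prod_mul_distrib]
    congr 1
    show _ = ∑ d, pvec η d * SpinTensor.pure _ d c'
    simp only [pvec, pure_apply, ← Finset.prod_mul_distrib, Matrix.vecMul, dotProduct]
    exact Fintype.prod_sum fun l p => η l p * D.J p (c' l)
  rw [h1, Matrix.vecMulVec_mulVec, op_smul_eq_smul, ← Matrix.dotProduct_mulVec]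

/-- **A pair from a member of the group.** -/
theorem pair_of_mem (S : Space D Q) {X : Subgroup (GL (Fin n → Fin k) F)}
    (hX : X ≤ Cfsg.isometryGroup F (⇑Q)) {ξ η : Fin n → Fin k → F}
    (horth : polar Q (pvec ξ) (pvec η) = 0)
    (h : ∀ c : F, Mem X (1 + c • (SpinTensor.pure (fun l => D.R (ξ l) (η l)) -
      SpinTensor.pure fun l => D.R (η l) (ξ l)))) : Pair S (kOf Q X) ξ η := by
  refine ⟨horth, fun c hu ha => has_of_mem S hX hu ha (h c) fun x => ?_⟩
  rw [apply_smul, S.pure, mul_zero, zero_mul, sub_zero, polar_smul_right', Matrix.add_mulVec, Matrix.one_mulVec,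
    Matrix.smul_mulVec, Matrix.sub_mulVec, pureR_mulVec, pureR_mulVec, ← S.polar_eq, ← S.polar_eq,
    QuadraticMap.polar_comm Q (pvec η) x, QuadraticMap.polar_comm Q (pvec ξ) x]
  module

/-- Some Eichler transformation is not standard. -/
theorem exists_not_isStd [Finite F] (S : Space D Q) (hk : 2 ≤ k) (hn : 2 ≤ n) (hkn : k = 2 → 3 ≤ n) :
    ∃ x ∈ Cfsg.Geo.omegaGL (⇑Q), ¬ IsStd x := by
  classical
  obtain ⟨a, b, hab⟩ : ∃ a b : Fin n, a ≠ b := ⟨⟨0, by omega⟩, ⟨1, by omega⟩, by simp [Fin.ext_iff]⟩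
  obtain ⟨e, he⟩ : ∃ e : Fin k → F, e ≠ 0 :=
    ⟨Pi.single ⟨0, by omega⟩ 1, Function.ne_iff.2 ⟨⟨0, by omega⟩, by simp⟩⟩
  obtain ⟨f, hf⟩ := D.nondeg he
  have hf0 : f ≠ 0 := fun h0 => by rw [h0, D.f_zero_right] at hf; exact zero_ne_one hf
  have hfe : D.f f e = -1 := by rw [D.f_swap e f, hf]
  obtain ⟨g, hgs, hgz⟩ : ∃ g, g ∉ Submodule.span F {f} ∧ (D.f g f = 0 ∨ ∃ c : Fin n, c ≠ a ∧ c ≠ b) := by
    rcases Nat.lt_or_ge k 3 with hk3 | hk3
    · obtain ⟨c, -, hc⟩ := Finset.exists_mem_notMem_of_card_lt_card (s := ({a, b} : Finset (Fin n)))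
        (t := Finset.univ) (lt_of_le_of_lt Finset.card_le_two (by
          rw [Finset.card_univ, Fintype.card_fin]; have := hkn (by omega); omega))
      simp only [Finset.mem_insert, Finset.mem_singleton, not_or] at hc
      exact ⟨e, D.notMem_span_of_f (z := f) (D.f_self f) (by rw [hf]; exact one_ne_zero), Or.inr ⟨c, hc⟩⟩
    · obtain ⟨g, hg, hgs⟩ := exists_perp_notMem (D := D) hk3 f
      exact ⟨g, hgs, Or.inl (by rw [D.f_swap f g, hg, neg_zero])⟩
  obtain ⟨z₁, hz₁f, hz₁g⟩ := D.exists_partner hgs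
  set ξ : Fin n → Fin k → F := fun _ => e
  set η : Fin n → Fin k → F := Function.update (Function.update (fun _ => f) b g) a e
  set x : Fin n → Fin k → F := fun _ => f
  have huv : polar Q (pvec ξ) (pvec η) = 0 := S.polar_zero a (by simp [ξ, η, D.f_self])
  have hux : polar Q (pvec ξ) (pvec x) = 1 := S.polar_one fun l => hf
  have hvx : polar Q (pvec η) (pvec x) = 0 := by
    rcases hgz with h | ⟨c, hca, hcb⟩
    · exact S.polar_zero b (by simp [η, x, Function.update_of_ne hab.symm, h])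
    · exact S.polar_zero c (by simp [η, x, Function.update_of_ne hca, Function.update_of_ne hcb, D.f_self])
  set E := eich S.nondeg (S.pure ξ) huv
  refine ⟨((oEquiv Q).symm E : Cfsg.isometryGroup F (⇑Q)), ⟨(oEquiv Q).symm E, ?_, rfl⟩, fun ⟨gs, π, hg⟩ => ?_⟩
  · have h1 : E ∈ (commutator ↥(Cfsg.isometryGroup F (⇑Q))).map (oEquiv Q).toMonoidHom := by
      rw [commutator_def, Subgroup.map_commutator, Subgroup.map_top_of_surjective _ (oEquiv Q).surjective,
        ← commutator_def, ← eichGroup_eq_commutator S.nondeg S.five]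
      exact eich_mem _ S.five _ _
    rwa [Subgroup.mem_map_equiv] at h1
  have himg := isStd_mulVec hg x
  rw [← oEquiv_apply, MulEquiv.apply_symm_apply, eich_apply, S.pure, zero_mul, sub_zero,
    QuadraticMap.polar_comm Q (pvec x) (pvec η), hvx, zero_smul, add_zero, QuadraticMap.polar_comm Q (pvec x) (pvec ξ),
    hux, neg_one_smul] at himg
  set η' : Fin n → Fin k → F := fun l => (gs l : Matrix (Fin k) (Fin k) F) *ᵥ x (π⁻¹ l)
  have hprod : ∀ ζ : Fin n → Fin k → F,
      ∏ l, D.f (ζ l) (η' l) = ∏ l, D.f (ζ l) f - ∏ l, D.f (ζ l) (η l) := by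
    intro ζ
    rw [← pvec_form, ← himg, Matrix.mulVec_add, Matrix.mulVec_neg, dotProduct_add, dotProduct_neg, pvec_form,
      pvec_form, sub_eq_add_neg]
  have hrest : ∀ ζ : Fin n → Fin k → F, ∀ l, l ≠ a → l ≠ b → ζ l = e → D.f (ζ l) (η l) = 1 := fun ζ l h1 h2 h3 => by
    rw [h3]; simpa [η, Function.update_of_ne h1, Function.update_of_ne h2] using hf
  have hsplit : ∀ φ : Fin n → F, (∀ l, l ≠ a → l ≠ b → φ l = 1) → ∏ l, φ l = φ a * φ b := fun φ hφ => by
    rw [← Finset.prod_pair hab]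
    refine (Finset.prod_subset (Finset.subset_univ _) fun l _ hl => ?_).symm
    simp only [Finset.mem_insert, Finset.mem_singleton, not_or] at hl
    exact hφ l hl.1 hl.2
  -- three evaluations
  have h1 := hprod fun _ => e
  rw [Finset.prod_eq_one (fun l _ => hf), Finset.prod_eq_zero (f := fun l => D.f e (η l)) (Finset.mem_univ a) (by simp [η, D.f_self]), sub_zero] at h1
  set ζ₂ : Fin n → Fin k → F := Function.update (fun _ => e) b z₁
  have hz : D.f z₁ f = 0 := by rw [D.f_swap f z₁, hz₁f, neg_zero]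
  have h2 := hprod ζ₂
  rw [Finset.prod_eq_zero (f := fun l => D.f (ζ₂ l) f) (Finset.mem_univ b) (by simp [ζ₂, hz]),
    Finset.prod_eq_zero (f := fun l => D.f (ζ₂ l) (η l)) (Finset.mem_univ a)
      (by simp [ζ₂, η, Function.update_of_ne hab, D.f_self]), sub_zero] at h2
  obtain ⟨l, -, hl⟩ := Finset.prod_eq_zero_iff.1 h2
  have hlb : l = b := by
    by_contra hlb
    simp only [ζ₂, Function.update_of_ne hlb] at hl
    rw [Finset.prod_eq_zero (Finset.mem_univ l) hl] at h1
    exact zero_ne_one h1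
  subst hlb
  simp only [ζ₂, Function.update_self] at hl
  set ζ₃ : Fin n → Fin k → F := Function.update (Function.update (fun _ => e) l z₁) a f
  have h3 := hprod ζ₃
  rw [Finset.prod_eq_zero (f := fun j => D.f (ζ₃ j) (η' j)) (Finset.mem_univ l)
      (by simp [ζ₃, Function.update_of_ne hab.symm, hl]),
    Finset.prod_eq_zero (f := fun j => D.f (ζ₃ j) f) (Finset.mem_univ a) (by simp [ζ₃, D.f_self]), zero_sub,
    hsplit (fun j => D.f (ζ₃ j) (η j)) (fun j hja hjb => hrest ζ₃ j hja hjb (by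
      simp [ζ₃, Function.update_of_ne hja, Function.update_of_ne hjb])),
    show ζ₃ a = f by simp [ζ₃], show η a = e by simp [η], show ζ₃ l = z₁ by simp [ζ₃, Function.update_of_ne hab.symm],
    show η l = g by simp [η, Function.update_of_ne hab.symm], hfe, D.f_swap g z₁, hz₁g] at h3
  norm_num at h3

end CfsgLib.HallGen.SympPlus
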