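/-
Isometries of one factor move pairs: one pair differing in a factor gives all of them.
-/
import Cfsg.Agent.Lib.HallGen.SympPlus.Space

set_option autoImplicit false
set_option linter.unusedSectionVars false
set_option maxHeartbeats 400000

namespace CfsgLib.HallGen.SympPlus

open Matrix CfsgLib.HallGen.SympWreath CfsgLib.Geo CfsgLib.Geo.SpinTensor CfsgLib.Geo.TensorWreath
open CfsgLib.Classical.Quad CfsgLib.Geo.OrthMax
open QuadraticMap (polar polarBilin)

variable {F : Type*} [Field F] {k n : ℕ} {D : Factor F k} {Q : QuadraticForm F ((Fin n → Fin k) → F)}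

/-- An isometry fixing a vector and carrying one orthogonal vector to another. -/
theorem exists_iso_fix {x y y' : Fin k → F} (hy : D.f x y = 0) (hy' : D.f x y' = 0)
    (hys : y ∉ Submodule.span F {x}) (hys' : y' ∉ Submodule.span F {x}) :
    ∃ B, D.Iso B ∧ B *ᵥ x = x ∧ B *ᵥ y = y' := by
  have step : ∀ {a b : Fin k → F}, D.f x a = 0 → D.f x b = 0 → D.f a b ≠ 0 →
      ∃ B, D.Iso B ∧ B *ᵥ x = x ∧ B *ᵥ a = b := by
    intro a b ha hb hab
    refine ⟨1 + (D.f b a)⁻¹ • D.R (b - a) (b - a), D.iso_transv _ _, ?_, ?_⟩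
    · rw [D.transv_mulVec, D.f_sub_left, D.f_swap x b, D.f_swap x a, ha, hb]
      simp
    · rw [D.transv_mulVec, D.f_sub_left, D.f_self, sub_zero, inv_mul_cancel₀, one_smul, add_sub_cancel]
      rw [D.f_swap a b]; exact neg_ne_zero.2 hab
  by_cases hf : D.f y y' = 0
  swap
  · exact step hy hy' hf
  obtain ⟨z₁, h1, h1'⟩ := D.exists_partner hys
  obtain ⟨z₂, h2, h2'⟩ := D.exists_partner hys'
  obtain ⟨z, hz, hz1, hz2⟩ : ∃ z, D.f x z = 0 ∧ D.f y z ≠ 0 ∧ D.f y' z ≠ 0 := by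
    by_cases ha : D.f y' z₁ = 0
    · by_cases hb : D.f y z₂ = 0
      · exact ⟨z₁ + z₂, by rw [D.f_add_right, h1, h2, add_zero], by rw [D.f_add_right, h1', hb, add_zero]; exact one_ne_zero,
          by rw [D.f_add_right, ha, h2', zero_add]; exact one_ne_zero⟩
      · exact ⟨z₂, h2, hb, by rw [h2']; exact one_ne_zero⟩
    · exact ⟨z₁, h1, by rw [h1']; exact one_ne_zero, ha⟩
  obtain ⟨B₁, hB₁, e₁, e₁'⟩ := step hy hz hz1
  obtain ⟨B₂, hB₂, e₂, e₂'⟩ := step hz hy' (by rw [D.f_swap y' z]; exact neg_ne_zero.2 hz2)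
  exact ⟨B₂ * B₁, hB₂.mul hB₁, by rw [← Matrix.mulVec_mulVec, e₁, e₂], by rw [← Matrix.mulVec_mulVec, e₁', e₂']⟩

/-- An isometry carrying one orthogonal pair to another. -/
theorem exists_iso_pair {x y x' y' : Fin k → F} (hx : x ≠ 0) (hx' : x' ≠ 0) (hy : D.f x y = 0)
    (hy' : D.f x' y' = 0) (hys : y ∉ Submodule.span F {x}) (hys' : y' ∉ Submodule.span F {x'}) :
    ∃ B, D.Iso B ∧ B *ᵥ x = x' ∧ B *ᵥ y = y' := by
  obtain ⟨B₁, hB₁, rfl⟩ := D.exists_iso hx hx'
  have h1 : D.f (B₁ *ᵥ x) (B₁ *ᵥ y) = 0 := by rw [hB₁.map]; exact hy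
  have h2 : B₁ *ᵥ y ∉ Submodule.span F {B₁ *ᵥ x} := fun hm => by
    obtain ⟨c, hc⟩ := Submodule.mem_span_singleton.1 hm
    refine hys (Submodule.mem_span_singleton.2 ⟨c, ?_⟩)
    have h3 := congrArg (D.adj B₁ *ᵥ ·) hc
    simpa [Matrix.mulVec_smul, Matrix.mulVec_mulVec, show D.adj B₁ * B₁ = 1 from hB₁] using h3
  obtain ⟨B₂, hB₂, e₂, e₂'⟩ := exists_iso_fix h1 hy' h2 hys'
  exact ⟨B₂ * B₁, hB₂.mul hB₁, by rw [← Matrix.mulVec_mulVec, e₂], by rw [← Matrix.mulVec_mulVec, e₂']⟩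

variable (S : Space D Q) {X : Subgroup (GL (Fin n → Fin k) F)} (hX : X ≤ Cfsg.isometryGroup F (⇑Q))
  (base : ∀ (i : Fin n) (B : Matrix (Fin k) (Fin k) F), D.Iso B → Mem X (SpinTensor.emb i B))
include hX base

/-- Pairs move with the isometries of a factor. -/
theorem pair_conj (i : Fin n) {B : Matrix (Fin k) (Fin k) F} (hB : D.Iso B) {ξ η : Fin n → Fin k → F}
    (h : Pair S (kOf Q X) ξ η) :
    Pair S (kOf Q X) (Function.update ξ i (B *ᵥ ξ i)) (Function.update η i (B *ᵥ η i)) := by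
  obtain ⟨g, hg, eg⟩ := base i B hB
  set g' : OQ Q := oEquiv Q ⟨g, hX hg⟩
  have hg' : g' ∈ kOf Q X := ⟨⟨g, hX hg⟩, hg, rfl⟩
  have hact : ∀ ζ : Fin n → Fin k → F, (g' : ((Fin n → Fin k) → F) ≃ₗ[F] _) (pvec ζ) =
      pvec (Function.update ζ i (B *ᵥ ζ i)) := fun ζ => by
    rw [oEquiv_apply, show ((⟨g, hX hg⟩ : Cfsg.isometryGroup F (⇑Q)) : GL (Fin n → Fin k) F) = g from rfl, eg,
      show SpinTensor.emb i B = SpinTensor.pure _ from rfl, pure_mulVec]
    congr 1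
    funext l
    by_cases hl : l = i
    · subst hl; simp
    · simp [Function.update_of_ne hl]
  refine ⟨by rw [← hact, ← hact, OQ.map_polar]; exact h.1, fun c => ?_⟩
  have h1 := (h.2 c).conj S.nondeg hg'
  rwa [map_smul, hact, hact] at h1

theorem pair_move {ξ η ξ' η' : Fin n → Fin k → F}
    (hB : ∀ l, ∃ B, D.Iso B ∧ B *ᵥ ξ l = ξ' l ∧ B *ᵥ η l = η' l)
    (h : Pair S (kOf Q X) ξ η) : Pair S (kOf Q X) ξ' η' := by
  classical
  suffices ∀ s : Finset (Fin n), Pair S (kOf Q X) (s.piecewise ξ' ξ) (s.piecewise η' η) by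
    have h1 := this Finset.univ
    rwa [Finset.piecewise_univ, Finset.piecewise_univ] at h1
  intro s
  induction s using Finset.induction with
  | empty => rwa [Finset.piecewise_empty, Finset.piecewise_empty]
  | @insert a s ha ih =>
    obtain ⟨B, hBi, e, e'⟩ := hB a
    have h1 := pair_conj S hX base a hBi ih
    rwa [Finset.piecewise_eq_of_notMem _ _ _ ha, Finset.piecewise_eq_of_notMem _ _ _ ha, e, e',
      ← Finset.piecewise_insert, ← Finset.piecewise_insert] at h1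

/-- **One pair differing in a factor gives all.** -/
theorem oneSlot_of_pair (hk : 3 ≤ k) {q : Fin n} {ξ : Fin n → Fin k → F} {y : Fin k → F} (hξ : ∀ l, ξ l ≠ 0)
    (hy : D.f (ξ q) y = 0) (hys : y ∉ Submodule.span F {ξ q})
    (h : Pair S (kOf Q X) ξ (Function.update ξ q y)) : OneSlot S (kOf Q X) q := by
  intro ξ' y' hy'
  by_cases hξ' : ∀ l, ξ' l ≠ 0
  swap
  · push Not at hξ'; obtain ⟨l, hl⟩ := hξ'; exact pair_of_zero l hl
  have key : ∀ z, D.f (ξ' q) z = 0 → z ∉ Submodule.span F {ξ' q} →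
      Pair S (kOf Q X) ξ' (Function.update ξ' q z) := fun z hz hzs => by
    refine pair_move S hX base (fun l => ?_) h
    by_cases hl : l = q
    · subst hl
      rw [Function.update_self, Function.update_self]
      exact exists_iso_pair (hξ l) (hξ' l) hy hz hys hzs
    · obtain ⟨B, hB, e⟩ := D.exists_iso (hξ l) (hξ' l)
      exact ⟨B, hB, e, by rw [Function.update_of_ne hl, Function.update_of_ne hl, e]⟩
  have h2 : Submodule.span F {z | D.f (ξ' q) z = 0 ∧ z ∉ Submodule.span F {ξ' q}} ≤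
      (HasLin S (kOf Q X) (pvec ξ')).comap (plin ξ' q) :=
    Submodule.span_le.2 fun z hz => key z hz.1 hz.2
  exact h2 (mem_span_perp_notMem hk _ hy')

end CfsgLib.HallGen.SympPlus
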