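/-
Characteristic two: overgroups whose short root coefficients are scalars, and their elements sending a line to a line.
-/
import Cfsg.Agent.Lib.HallGen.SympPlus.Move
import Cfsg.Agent.Lib.HallGen.SympWreath.Line

set_option autoImplicit false
set_option linter.unusedSectionVars false
set_option maxHeartbeats 400000

namespace CfsgLib.HallGen.SympPlus

open Matrix CfsgLib.HallGen.SympWreath
open scoped Kronecker

variable {F : Type*} [Field F] {k : ℕ} {α : Type} [Fintype α] [DecidableEq α]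

/-- Matrices in characteristic two. -/
theorem mat_add_self [CharP F 2] {m n : Type} (M : Matrix m n F) : M + M = 0 := by
  ext a b; exact CharTwo.add_self_eq_zero _

theorem mat_neg [CharP F 2] {m n : Type} (M : Matrix m n F) : -M = M :=
  neg_eq_of_add_eq_zero_right (mat_add_self M)

variable (D : Factor F k) (O : Outer F α)

/-- An overgroup of the symplectic factor with scalar short root coefficients. -/
structure Flat (X : Subgroup (GL (α × Fin k) F)) : Prop where
  big : 5 ≤ k
  iso : ∀ x ∈ X, adjP D O (x : Matrix (α × Fin k) (α × Fin k) F) * (x : Matrix (α × Fin k) (α × Fin k) F) = 1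
  base : ∀ B, D.Iso B → Mem X ((1 : Matrix α α F) ⊗ₖ B)
  short : ∀ (a b : Fin k → F) (θ : Matrix α α F), a ≠ 0 → D.f a b = 0 → b ∉ Submodule.span F {a} →
    Mem X (1 + SH D O a b θ) → ∃ c : F, θ = c • 1

variable {D O} {X : Subgroup (GL (α × Fin k) F)} {M : Matrix (α × Fin k) (α × Fin k) F}

/-- A vector orthogonal to an orthogonal pair, outside their span. -/
theorem exists_perp_pair (hk : 5 ≤ k) {a b : Fin k → F} (ha : a ≠ 0) (hb : b ∉ Submodule.span F {a}) :
    ∃ s, D.f a s = 0 ∧ D.f b s = 0 ∧ s ∉ Submodule.span F {a} ∧ b + s ∉ Submodule.span F {a} := by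
  obtain ⟨a', hba', haa'⟩ := D.exists_partner (a := b) (b := a) fun hm => by
    obtain ⟨c, rfl⟩ := Submodule.mem_span_singleton.1 hm
    have hc : c ≠ 0 := fun h0 => ha (by rw [h0, zero_smul])
    exact hb (Submodule.mem_span_singleton.2 ⟨c⁻¹, by rw [smul_smul, inv_mul_cancel₀ hc, one_smul]⟩)
  obtain ⟨b', hab', hbb'⟩ := D.exists_partner hb
  obtain ⟨s, hs0, hs⟩ := CfsgLib.Geo.TensorLinear.exists_perp ![a ᵥ* D.J, b ᵥ* D.J, a' ᵥ* D.J, b' ᵥ* D.J]
    (show 4 < Fintype.card (Fin k) by rw [Fintype.card_fin]; omega)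
  have h : ∀ x ∈ [a, b, a', b'], D.f x s = 0 := by
    intro x hx
    rw [Factor.f, dotProduct_comm]
    simp only [List.mem_cons, List.not_mem_nil, or_false] at hx
    rcases hx with rfl | rfl | rfl | rfl
    · exact hs 0
    · exact hs 1
    · exact hs 2
    · exact hs 3
  refine ⟨s, h a (by simp), h b (by simp), fun hm => ?_, fun hm => ?_⟩
  · obtain ⟨c, rfl⟩ := Submodule.mem_span_singleton.1 hm
    have h1 := h a' (by simp)
    rw [D.f_smul_right, D.f_swap a a', haa', mul_neg, mul_one, neg_eq_zero] at h1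
    exact hs0 (by rw [h1, zero_smul])
  · obtain ⟨c, hc⟩ := Submodule.mem_span_singleton.1 hm
    have h1 := congrArg (D.f b') hc
    rw [D.f_add_right, D.f_smul_right, D.f_swap b b', D.f_swap a b', hbb', hab', h b' (by simp), neg_zero, mul_zero,
      add_zero] at h1
    exact one_ne_zero (neg_eq_zero.1 h1.symm)

namespace Flat

variable (C : Flat D O X)
include C

theorem mem_inv (hM : Mem X M) : adjP D O M * M = 1 := by
  obtain ⟨x, hx, rfl⟩ := hM
  exact C.iso x hx

theorem conj {N : Matrix (α × Fin k) (α × Fin k) F} (hM : Mem X M) (hN : Mem X (1 + N)) :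
    Mem X (1 + M * N * adjP D O M) := by
  have h := (hM.mul hN).mul (hM.left_inv (C.mem_inv hM))
  rw [mul_add, mul_one, add_mul, show M * adjP D O M = 1 from mul_eq_one_comm.1 (C.mem_inv hM)] at h
  exact h

/-- The scalar central maps are in the group. -/
theorem base_centre (a : Fin k → F) (c : F) : Mem X (1 + (c • (1 : Matrix α α F)) ⊗ₖ D.R a a) := by
  have h := C.base _ (D.iso_transv a c)
  rwa [Matrix.kronecker_add, Matrix.one_kronecker_one, Matrix.kronecker_smul, ← Matrix.smul_kronecker] at h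

/-- The scalar short root blocks are in the group. -/
theorem base_short {a b : Fin k → F} (hab : D.f a b = 0) (c : F) :
    Mem X (1 + SH D O a b (c • (1 : Matrix α α F))) := by
  have hI : D.Iso (1 + c • D.R a b + c • D.R b a) := by
    rw [Factor.Iso, D.adj_add, D.adj_add, D.adj_one, D.adj_smul, D.adj_smul, D.adj_R, D.adj_R]
    simp [add_mul, mul_add, D.R_mul, D.f_self, hab, D.f_swap a b]
  have h := C.base _ hI
  rw [Matrix.kronecker_add, Matrix.kronecker_add, Matrix.one_kronecker_one, Matrix.kronecker_smul,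
    Matrix.kronecker_smul, add_assoc] at h
  simpa [SH, O.adj_smul, O.adj_one, Matrix.smul_kronecker] using h

variable [CharP F 2]

/-- **A short root block with a central map has a scalar coefficient.** -/
theorem short_scalar {a b b' : Fin k → F} (ha : a ≠ 0) (hab : D.f a b = 0)
    (hab' : D.f a b' = 0) (hbb' : D.f b b' = 1) {θ φ : Matrix α α F}
    (h : Mem X (1 + (SH D O a b θ + φ ⊗ₖ D.R a a))) : ∃ c : F, θ = c • 1 := by
  have hbs : b ∉ Submodule.span F {a} := D.notMem_span_of_f hab' (by rw [hbb']; exact one_ne_zero)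
  obtain ⟨s, has, hbs', hs, hbss⟩ := exists_perp_pair C.big ha hbs
  obtain ⟨B, hB, hBa, hBb⟩ := exists_iso_fix hab (by rw [D.f_add_right, hab, has, add_zero]) hbs hbss
  have h1 := h.mul (C.conj (C.base B hB) h)
  refine C.short a s θ ha has hs ?_
  convert h1 using 1
  rw [mul_add ((1 : Matrix α α F) ⊗ₖ B), add_mul _ _ (adjP D O _), SH, SH, mul_add ((1 : Matrix α α F) ⊗ₖ B),
    add_mul _ _ (adjP D O _), conj_kronecker hB, conj_kronecker hB, conj_kronecker hB, hBa, hBb, O.adj_one]
  simp only [Matrix.one_mul, Matrix.mul_one, add_mul, mul_add, D.R_add_left, D.R_add_right, Matrix.kronecker_add,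
    kr_mul, D.f_self, hab, has, hbs', D.f_swap a b, D.f_swap a s, D.f_swap b s, neg_zero, zero_smul, add_zero]
  calc _ = 1 + (θ ⊗ₖ D.R a s + O.adj θ ⊗ₖ D.R s a) + (θ ⊗ₖ D.R a b + θ ⊗ₖ D.R a b) +
        (O.adj θ ⊗ₖ D.R b a + O.adj θ ⊗ₖ D.R b a) + (φ ⊗ₖ D.R a a + φ ⊗ₖ D.R a a) := by
        rw [mat_add_self, mat_add_self, mat_add_self]; abel
    _ = _ := by abel

/-- The central maps are scalars. -/
theorem ng (e : Fin k → F) (φ : Matrix α α F) (he : e ≠ 0) (h : Mem X (1 + φ ⊗ₖ D.R e e)) :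
    ∃ c : F, φ = c • 1 := by
  have hadj : O.adj φ = φ := by
    have h1 := C.mem_inv h
    have ha : adjP D O (1 + φ ⊗ₖ D.R e e) = 1 + O.adj φ ⊗ₖ D.R e e := by
      rw [show adjP D O (1 + φ ⊗ₖ D.R e e) = adjP D O 1 + adjP D O (φ ⊗ₖ D.R e e) by
          simp [adjP, Matrix.mul_add, Matrix.add_mul], adjP_kronecker, D.adj_R, mat_neg,
        ← Matrix.one_kronecker_one, adjP_kronecker, O.adj_one, D.adj_one]
    rw [ha, add_mul, one_mul, mul_add, mul_one, kr_mul, D.f_self, zero_smul, add_zero, add_assoc, add_eq_left] at h1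
    exact coeff_injective he he (by rw [← sub_eq_zero, sub_eq_add_neg, mat_neg, add_comm]; exact h1)
  obtain ⟨e', he'⟩ := D.nondeg he
  obtain ⟨s, hs0, hes, he's⟩ := exists_perp_two (D := D) (by have := C.big; omega) e e'
  have hse : D.f s e = 0 := by rw [D.f_swap e s, hes, neg_zero]
  have hse' : D.f s e' = 0 := by rw [D.f_swap e' s, he's, neg_zero]
  have he'e : D.f e' e = 1 := by rw [D.f_swap e e', he']; exact CharTwo.neg_eq _
  have h1 := h.comm_sq (C.base_short (a := e') (b := s) he's 1) (by rw [kr_mul, D.f_self, zero_smul])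
    (SH_mul_SH he's _ _)
  refine C.short_scalar (a := s) (b := e) (b' := e') (θ := φ) (φ := φ) hs0 hse hse' he' ?_
  convert h1 using 1
  simp only [SH, one_smul, O.adj_one, mul_add, add_mul, kr_mul, D.f_self, hes, hse, he', he'e, he's, hse', hadj,
    Matrix.one_mul, Matrix.mul_one, zero_smul, one_smul, add_zero, zero_add, sub_eq_add_neg, mat_neg,
    Matrix.zero_mul, Matrix.mul_zero, smul_zero]
  abel

theorem mov_of_mem (hM : Mem X M) : Mov D O X M :=
  ⟨C.mem_inv hM, fun B hB => (hM.mul (C.base B hB)).mul (hM.left_inv (C.mem_inv hM))⟩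

theorem mov_base_mul (hM : Mov D O X M) {B : Matrix (Fin k) (Fin k) F} (hB : D.Iso B) :
    Mov D O X (((1 : Matrix α α F) ⊗ₖ B) * M) := by
  refine ⟨?_, fun B' hB' => ?_⟩
  · rw [adjP_mul, Matrix.mul_assoc, ← Matrix.mul_assoc (adjP D O ((1 : Matrix α α F) ⊗ₖ B)),
      C.mem_inv (C.base B hB), Matrix.one_mul, hM.1]
  · have h := ((C.base B hB).mul (hM.2 B' hB')).mul ((C.base B hB).left_inv (C.mem_inv (C.base B hB)))
    rw [adjP_mul]
    simpa only [Matrix.mul_assoc] using h

/-- The image of a line is similar to the line. -/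
theorem similitude [Nonempty α] (hM : Mov D O X M) {e : Fin k → F} (he : e ≠ 0) {A : Matrix α α F}
    (hA : M * inc α e = inc α e * A) :
    ∃ μ : F, μ ≠ 0 ∧ A * O.adj A = μ • 1 ∧ A * (μ⁻¹ • O.adj A) = 1 ∧ (μ⁻¹ • O.adj A) * A = 1 := by
  have h := hM.2 _ (D.iso_transv e 1)
  rw [one_smul, Matrix.kronecker_add, Matrix.one_kronecker_one, mul_add, mul_one, add_mul, move_kr, hA,
    Matrix.mul_one, adjR_inc_mul, ← Matrix.mul_assoc, Matrix.mul_assoc (inc α e) A, inc_out,
    mul_eq_one_comm.1 hM.1] at h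
  obtain ⟨μ, hμ⟩ := C.ng e _ he h
  have hμ0 : μ ≠ 0 := fun h0 => by
    have h1 : M * ((1 : Matrix α α F) ⊗ₖ D.R e e) * adjP D O M = 0 := by
      rw [move_kr, hA, Matrix.mul_one, adjR_inc_mul, ← Matrix.mul_assoc, Matrix.mul_assoc (inc α e) A, inc_out,
        hμ, h0, zero_smul, Matrix.zero_kronecker]
    have h2 : adjP D O M * (M * ((1 : Matrix α α F) ⊗ₖ D.R e e) * adjP D O M) * M = 0 := by
      rw [h1, Matrix.mul_zero, Matrix.zero_mul]
    rw [show adjP D O M * (M * ((1 : Matrix α α F) ⊗ₖ D.R e e) * adjP D O M) * M =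
      (adjP D O M * M) * ((1 : Matrix α α F) ⊗ₖ D.R e e) * (adjP D O M * M) by simp only [Matrix.mul_assoc],
      hM.1, Matrix.one_mul, Matrix.mul_one, ← Matrix.zero_kronecker (l := α) (m := α) (D.R e e)] at h2
    exact one_ne_zero (coeff_injective he he h2)
  have h1 : A * (μ⁻¹ • O.adj A) = 1 := by rw [Matrix.mul_smul, hμ, smul_smul, inv_mul_cancel₀ hμ0, one_smul]
  exact ⟨μ, hμ0, hμ, h1, mul_eq_one_comm.1 h1⟩

/-- The contractions of the image of a line orthogonal to a fixed line. -/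
theorem contract [Nonempty α] (hM : Mov D O X M) {e w z : Fin k → F} (he : e ≠ 0)
    {A : Matrix α α F} (hA : M * inc α e = inc α e * A) (hw : D.f e w = 0) (hz : D.f e z = 0) :
    ∃ c : F, out D α z * (M * inc α w) = c • A := by
  obtain ⟨μ, hμ, hAA, hAi, hiA⟩ := C.similitude hM he hA
  set Λ := M * inc α w
  have h0 : out D α e * Λ = 0 := by
    have h1 := gram hM.1 e w
    rw [hA, adjR_inc_mul, hw, zero_smul, Matrix.mul_assoc] at h1
    have h2 := congrArg (fun N => A * (μ⁻¹ • N)) h1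
    simp only [smul_zero, Matrix.mul_zero, ← Matrix.smul_mul, ← Matrix.mul_assoc, hAi, Matrix.one_mul] at h2
    rw [← Matrix.mul_assoc]
    exact h2
  by_cases hzs : z ∈ Submodule.span F {e}
  · obtain ⟨c, rfl⟩ := Submodule.mem_span_singleton.1 hzs
    exact ⟨0, by rw [out_smul, Matrix.smul_mul, h0, smul_zero, zero_smul]⟩
  obtain ⟨z', hez', hzz'⟩ := D.exists_partner hzs
  have hze : D.f z e = 0 := by rw [D.f_swap e z, hz, neg_zero]
  set P := out D α z * Λ
  set N := M * SH D O e w 1 * adjP D O M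
  have hX : N = inc α e * A * adjR D O Λ + Λ * O.adj A * out D α e := by
    simp only [N, SH, O.adj_one, mul_add, add_mul, move_kr, hA, Matrix.mul_one, adjR_inc_mul]
    simp only [Λ, Matrix.mul_assoc]
  have hXm : Mem X (1 + N) := by
    have h := C.base_short hw (1 : F)
    rw [one_smul] at h
    have hI : ∃ B, D.Iso B ∧ ((1 : Matrix α α F) ⊗ₖ B) = 1 + SH D O e w 1 := by
      refine ⟨1 + D.R e w + D.R w e, ?_, ?_⟩
      · rw [Factor.Iso, D.adj_add, D.adj_add, D.adj_one, D.adj_R, D.adj_R]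
        simp [add_mul, mul_add, D.R_mul, D.f_self, hw, D.f_swap e w]
      · rw [SH, O.adj_one, Matrix.kronecker_add, Matrix.kronecker_add, Matrix.one_kronecker_one, add_assoc]
    obtain ⟨B, hB, eB⟩ := hI
    have h2 := hM.2 B hB
    rwa [eB, mul_add, mul_one, add_mul, mul_eq_one_comm.1 hM.1] at h2
  set Y : Matrix (α × Fin k) (α × Fin k) F := inc α z * (1 : Matrix α α F) * out D α z
  have hY : Mem X (1 + Y) := by
    have h := C.base_centre z (1 : F)
    rw [one_smul] at h
    simpa only [Y, inc_out] using h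
  have hYY : Y * Y = 0 := by rw [kr_inc_out, D.f_self, zero_smul]
  have h := hXm.comm_sq hY (sq_move hM.1 (SH_mul_SH hw _ _)) hYY
  have eXY : N * Y = -(inc α e * (A * O.adj P) * out D α z) := by
    have e1 : out D α e * Y = 0 := by
      simp only [Y, Matrix.mul_one, ← Matrix.mul_assoc, out_inc, hz, zero_smul, Matrix.zero_mul]
    have e2 : adjR D O Λ * Y = -(O.adj P * out D α z) := by
      simp only [Y, Matrix.mul_one, ← Matrix.mul_assoc, adjR_mul_inc, Matrix.neg_mul, P]
    rw [hX, add_mul, Matrix.mul_assoc _ (out D α e) Y, e1, Matrix.mul_zero, add_zero, Matrix.mul_assoc, e2,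
      Matrix.mul_neg]
    simp only [Matrix.mul_assoc]
  have eYX : Y * N = inc α z * (P * O.adj A) * out D α e := by
    have e1 : out D α z * (inc α e * A * adjR D O Λ) = 0 := by
      simp only [← Matrix.mul_assoc, out_inc, hze, zero_smul, Matrix.zero_mul]
    rw [hX, mul_add]
    simp only [Y, Matrix.mul_one, Matrix.mul_assoc (inc α z) (out D α z), e1, Matrix.mul_zero, zero_add]
    simp only [P, Matrix.mul_assoc]
  have eXYX : N * Y * N = -((A * O.adj P * P * O.adj A) ⊗ₖ D.R e e) := by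
    have e1 : out D α z * N = P * O.adj A * out D α e := by
      rw [hX, Matrix.mul_add]
      simp only [← Matrix.mul_assoc, out_inc, hze, zero_smul, Matrix.zero_mul, zero_add, P]
    rw [eXY, Matrix.neg_mul, Matrix.mul_assoc _ (out D α z) N, e1, ← inc_out]
    simp only [Matrix.mul_assoc]
  have eYXY : Y * N * Y = 0 := by rw [eYX, kr_inc_out, hz, zero_smul]
  have e4 : N * Y * N * Y = 0 := by
    rw [eXYX]
    simp only [Y, inc_out, neg_mul, kr_mul, hz, zero_smul, neg_zero]
  rw [e4, eYXY, eXYX, eXY, eYX, inc_out, inc_out, add_zero, add_zero] at h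
  obtain ⟨c, hc⟩ := C.short_scalar he hz hez' hzz' (θ := -(A * O.adj P))
    (φ := A * O.adj P * P * O.adj A) (by
      convert h using 1
      rw [SH, O.adj_neg, O.adj_mul, O.adj_adj, neg_kronecker', neg_kronecker', sub_neg_eq_add]
      abel)
  refine ⟨-(c / μ), ?_⟩
  have h1 : O.adj P = -(c / μ) • O.adj A := by
    have h2 := congrArg (fun N => (μ⁻¹ • O.adj A) * N) hc
    simp only [Matrix.mul_neg, ← Matrix.mul_assoc, hiA, Matrix.one_mul, Matrix.mul_smul, Matrix.mul_one,
      smul_smul] at h2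
    rw [← neg_neg (O.adj P), h2, neg_smul, div_eq_mul_inv]
  rw [← O.adj_adj P, h1, O.adj_smul, O.adj_adj]

/-- Lines orthogonal to a line going to a line go to lines. -/
theorem line_step [Nonempty α] (hM : Mov D O X M) {e e' : Fin k → F} (he : e ≠ 0)
    {A : Matrix α α F} (hA : M * inc α e = inc α e' * A) {w : Fin k → F} (hw : D.f e w = 0) :
    ∃ v : Fin k → F, M * inc α w = inc α v * A := by
  have he' : e' ≠ 0 := fun h0 => by
    have h1 := congrArg (adjP D O M * ·) hA
    simp only [← Matrix.mul_assoc, hM.1, Matrix.one_mul, h0] at h1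
    have h2 : (inc α (0 : Fin k → F) : Matrix (α × Fin k) α F) = 0 := by
      rw [← zero_smul F (0 : Fin k → F), inc_smul, zero_smul]
    rw [Matrix.mul_assoc, h2, Matrix.zero_mul, Matrix.mul_zero, ← h2] at h1
    exact he (inc_left_injective h1)
  obtain ⟨B, hB, hBe⟩ := D.exists_iso he' he
  set M' := ((1 : Matrix α α F) ⊗ₖ B) * M
  have hM' : Mov D O X M' := C.mov_base_mul hM hB
  have hA' : M' * inc α e = inc α e * A := by
    rw [Matrix.mul_assoc, hA, ← Matrix.mul_assoc, kronecker_inc, hBe, Matrix.mul_one]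
  suffices ∃ v : Fin k → F, M' * inc α w = inc α v * A by
    obtain ⟨v, hv⟩ := this
    refine ⟨D.adj B *ᵥ v, ?_⟩
    have h1 := congrArg (((1 : Matrix α α F) ⊗ₖ D.adj B) * ·) hv
    simp only [M', ← Matrix.mul_assoc, ← Matrix.mul_kronecker_mul, Matrix.mul_one,
      show D.adj B * B = 1 from hB, Matrix.one_kronecker_one, Matrix.one_mul] at h1
    rwa [kronecker_inc, Matrix.mul_one] at h1
  clear_value M'
  by_cases hws : w ∈ Submodule.span F {e}
  · obtain ⟨c, rfl⟩ := Submodule.mem_span_singleton.1 hws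
    exact ⟨c • e, by rw [inc_smul, Matrix.mul_smul, hA', Matrix.smul_mul]⟩
  obtain ⟨μ, hμ, hAA, hAi, hiA⟩ := C.similitude hM' he hA'
  obtain ⟨e₁, he₁⟩ := D.nondeg he
  obtain ⟨v, N, hΛ⟩ := exists_eq_inc_perp D he₁ fun z hz => C.contract hM' he hA' hw hz
  obtain ⟨w', hew', hww'⟩ := D.exists_partner hws
  have hA0 : A ≠ 0 := fun h0 => by rw [h0, Matrix.zero_mul] at hAi; exact zero_ne_one hAi
  have hev : D.f e v = 0 := by
    have h1 := gram hM'.1 e w
    rw [hA', adjR_inc_mul, hw, zero_smul, hΛ, Matrix.mul_assoc, Matrix.mul_add, ← Matrix.mul_assoc,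
      ← Matrix.mul_assoc, out_inc, out_inc, D.f_self, zero_smul, Matrix.zero_mul, add_zero, Matrix.smul_mul,
      Matrix.one_mul, Matrix.mul_smul] at h1
    have h2 := congrArg (A * ·) h1
    simp only [Matrix.mul_zero, Matrix.mul_smul, ← Matrix.mul_assoc, hAA, Matrix.smul_mul, Matrix.one_mul,
      smul_smul] at h2
    exact (mul_eq_zero.1 ((smul_eq_zero.1 h2).resolve_right hA0)).resolve_right hμ
  have hvs : v ∉ Submodule.span F {e} := fun hm => by
    obtain ⟨c, rfl⟩ := Submodule.mem_span_singleton.1 hm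
    have h1 : M' * inc α w = M' * (inc α e * ((μ⁻¹ • O.adj A) * (c • A + N))) := by
      rw [hΛ, ← Matrix.mul_assoc M', hA', Matrix.mul_assoc (inc α e), ← Matrix.mul_assoc A, hAi, Matrix.one_mul,
        Matrix.mul_add, inc_smul_mul]
    have h2 := congrArg (adjP D O M' * ·) h1
    simp only [← Matrix.mul_assoc, hM'.1, Matrix.one_mul] at h2
    have h3 := congrArg (out D α w' * ·) h2
    simp only [← Matrix.mul_assoc, out_inc, D.f_swap w w', hww', D.f_swap e w', hew', neg_zero, zero_smul,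
      Matrix.zero_mul] at h3
    rw [neg_one_smul, neg_eq_zero] at h3
    exact one_ne_zero h3
  obtain ⟨v', hev', hvv'⟩ := D.exists_partner hvs
  have h := hM'.2 _ (D.iso_transv w 1)
  rw [one_smul, Matrix.kronecker_add, Matrix.one_kronecker_one, mul_add, mul_one, add_mul, move_kr, hΛ,
    Matrix.mul_one, adjR_add, adjR_inc_mul, adjR_inc_mul, mul_eq_one_comm.1 hM'.1] at h
  have hve : D.f v e = 0 := by rw [D.f_swap e v, hev, neg_zero]
  have h1 := h.mul (C.base_centre v (-μ))
  have e1 : (inc α v * A + inc α e * N) * (O.adj A * out D α v + O.adj N * out D α e) =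
      (μ • (1 : Matrix α α F)) ⊗ₖ D.R v v + (SH D O e v (N * O.adj A) + (N * O.adj N) ⊗ₖ D.R e e) := by
    rw [← hAA, SH, O.adj_mul, O.adj_adj, ← inc_out, ← inc_out, ← inc_out, ← inc_out]
    simp only [Matrix.mul_add, Matrix.add_mul, Matrix.mul_assoc]
    abel
  rw [e1] at h1
  obtain ⟨c, hc⟩ := C.short_scalar he hev hev' hvv' (θ := N * O.adj A) (φ := N * O.adj N) (by
    convert h1 using 1
    simp only [SH, mul_add, add_mul, mul_one, one_mul, neg_smul, neg_kronecker', mul_neg,
      kr_mul, D.f_self, hev, zero_smul, neg_zero, add_zero]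
    abel)
  refine ⟨v + (c / μ) • e, ?_⟩
  have hN : N = (c / μ) • A := by
    have h2 := congrArg (· * (μ⁻¹ • A)) hc
    simp only [Matrix.mul_assoc, Matrix.mul_smul, Matrix.smul_mul, Matrix.one_mul] at h2
    have h3 : μ⁻¹ • (O.adj A * A) = 1 := by rw [← Matrix.smul_mul]; exact hiA
    rwa [← Matrix.mul_smul, h3, Matrix.mul_one, smul_smul, ← div_eq_inv_mul] at h2
  rw [hΛ, hN, inc_smul_mul, inc_add, Matrix.add_mul]

/-- Lines everywhere give a Kronecker product. -/
theorem kronecker_of_all {A : Matrix α α F}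
    (h : ∀ w : Fin k → F, ∃ v : Fin k → F, M * inc α w = inc α v * A) : ∃ B, M = A ⊗ₖ B := by
  choose v hv using fun q : Fin k => h (Pi.single q (1 : F))
  refine ⟨Matrix.of fun r q => v q r, ext_inc fun q => ?_⟩
  rw [hv, kronecker_inc]
  congr 2
  funext r
  simp

/-- **An element sending a line to a line is a Kronecker product.** -/
theorem kronecker_big [Nonempty α] (hM : Mov D O X M) (hk : 3 ≤ k) {e e' : Fin k → F}
    (he : e ≠ 0) {A : Matrix α α F} (hA : M * inc α e = inc α e' * A) : ∃ B, M = A ⊗ₖ B := by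
  refine C.kronecker_of_all fun w => ?_
  obtain ⟨χ, hχ⟩ := CfsgLib.Geo.TensorLinear.exists_dual he
  obtain ⟨c, hc0, hc⟩ := CfsgLib.Geo.TensorLinear.exists_perp ![e ᵥ* D.J, χ]
    (show 2 < Fintype.card (Fin k) by rw [Fintype.card_fin]; omega)
  have hec : D.f e c = 0 := by rw [Factor.f, dotProduct_comm]; exact hc 0
  have hcs : e ∉ Submodule.span F {c} := fun hm => by
    obtain ⟨d, hd⟩ := Submodule.mem_span_singleton.1 hm
    have h1 : χ ⬝ᵥ c = 0 := by rw [dotProduct_comm]; exact hc 1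
    rw [← hd, dotProduct_smul, h1, smul_zero] at hχ
    exact zero_ne_one hχ
  obtain ⟨e₂, hce₂, hee₂⟩ := D.exists_partner hcs
  obtain ⟨c', hc'⟩ := C.line_step hM he hA hec
  obtain ⟨v₁, hv₁⟩ := C.line_step hM he hA (w := w - D.f e w • e₂)
    (by rw [D.f_sub_right, D.f_smul_right, hee₂, mul_one, sub_self])
  obtain ⟨v₂, hv₂⟩ := C.line_step hM hc0 hc' hce₂
  refine ⟨v₁ + D.f e w • v₂, ?_⟩
  rw [inc_add, inc_smul, Matrix.add_mul, Matrix.smul_mul, ← hv₁, ← hv₂, inc_sub, inc_smul, Matrix.mul_sub,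
    Matrix.mul_smul, sub_add_cancel]

/-- A contraction vanishing gives a Kronecker product. -/
theorem kronecker_of_contract [Nonempty α] (hM : Mem X M) {w v : Fin k → F} (hw : w ≠ 0) (hv : v ≠ 0)
    (h : out D α w * (M * inc α v) = 0) : ∃ A B, M = A ⊗ₖ B := by
  have hM' := C.mov_of_mem hM
  set Λ := M * inc α v
  set y := M * (1 + (1 : Matrix α α F) ⊗ₖ D.R v v) * adjP D O M with hy
  have hym : Mem X y := by
    have h1 := C.conj hM (C.base_centre v 1)
    rw [one_smul] at h1
    rw [hy, mul_add, mul_one, add_mul, mul_eq_one_comm.1 hM'.1]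
    exact h1
  have hy' : y = 1 + Λ * adjR D O Λ := by
    rw [hy, mul_add, mul_one, add_mul, mul_eq_one_comm.1 hM'.1, move_kr, Matrix.mul_one]
  have hyw : y * inc α w = inc α w * (1 : Matrix α α F) := by
    rw [hy', Matrix.add_mul, Matrix.one_mul, Matrix.mul_assoc Λ, adjR_mul_inc, h, O.adj_zero, neg_zero,
      Matrix.mul_zero, add_zero, Matrix.mul_one]
  obtain ⟨B, hB⟩ := C.kronecker_big (C.mov_of_mem hym) (by have := C.big; omega) hw hyw
  set N := B - 1
  have hN : Λ * adjR D O Λ = (1 : Matrix α α F) ⊗ₖ N := by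
    rw [show N = B + (-1) from sub_eq_add_neg B 1, Matrix.kronecker_add, ← hB, kronecker_neg',
      Matrix.one_kronecker_one, hy']
    abel
  obtain ⟨v', hv'⟩ := D.nondeg hv
  have hone : adjR D O Λ * (M * inc α v') = 1 := by rw [gram hM'.1, hv', one_smul]
  set Z := M * inc α v'
  have hΛ : Λ = ((1 : Matrix α α F) ⊗ₖ N) * Z := by rw [← hN, Matrix.mul_assoc, hone, Matrix.mul_one]
  have hN0 : N ≠ 0 := fun h0 => by
    rw [h0, Matrix.kronecker_zero, Matrix.zero_mul] at hΛ
    have h1 := congrArg (adjP D O M * ·) hΛ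
    simp only [Λ, ← Matrix.mul_assoc, hM'.1, Matrix.one_mul, Matrix.mul_zero] at h1
    have h2 := congrArg (out D α v' * ·) h1
    simp only [out_inc, Matrix.mul_zero, D.f_swap v v', hv', neg_smul, one_smul, neg_eq_zero] at h2
    exact one_ne_zero h2
  obtain ⟨q, hq⟩ : ∃ q, N *ᵥ Pi.single q (1 : F) ≠ 0 := by
    by_contra! h0
    refine hN0 (Matrix.ext fun a b => ?_)
    have := congrFun (h0 b) a
    rwa [Matrix.mulVec_single_one] at this
  set u := N *ᵥ Pi.single q (1 : F)
  have hcol : ∀ p, ∃ c : F, N *ᵥ Pi.single p (1 : F) = c • u := by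
    intro p
    by_contra! h0
    have h3 := CfsgLib.Geo.TensorWreath.two_mul_card_le_rank (α := α) (F := F) hq h0
    have h4 : ((1 : Matrix α α F) ⊗ₖ N).rank ≤ Fintype.card α := by
      rw [← hN]; exact le_trans (Matrix.rank_mul_le_left _ _) (Matrix.rank_le_card_width _)
    have : 0 < Fintype.card α := Fintype.card_pos
    omega
  choose φ hφ using hcol
  have hNu : N = D.R u (φ ᵥ* D.Ji) := Matrix.ext fun a b => by
    have h1 := congrFun (hφ b) a
    rw [Matrix.mulVec_single_one] at h1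
    rw [Factor.R, Matrix.vecMul_vecMul, D.inv_mul, Matrix.vecMul_one, Matrix.vecMulVec_apply, mul_comm]
    exact h1
  obtain ⟨B', hB'⟩ := C.kronecker_big hM' (by have := C.big; omega) hv (e' := u)
    (A := out D α (φ ᵥ* D.Ji) * Z) (by
      show Λ = _
      rw [hΛ, hNu, ← inc_out, Matrix.mul_one, Matrix.mul_assoc])
  exact ⟨_, B', hB'⟩

/-- The centraliser of an involution of the factor consists of Kronecker products. -/
theorem kronecker_of_commute [Nonempty α] (hM : Mem X M) {B : Matrix (Fin k) (Fin k) F} (hBB : B * B = 1)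
    (hB1 : B ≠ 1) (hc : Commute M ((1 : Matrix α α F) ⊗ₖ B)) : ∃ A B', M = A ⊗ₖ B' := by
  set N := B - 1
  have hN0 : N ≠ 0 := sub_ne_zero.2 hB1
  have hNN : N * N = 0 := by
    rw [show N = B + 1 by rw [← mat_neg (1 : Matrix (Fin k) (Fin k) F), ← sub_eq_add_neg], mul_add, mul_one, add_mul,
      one_mul, hBB, add_comm B 1, mat_add_self]
  obtain ⟨q, hq⟩ : ∃ q, N *ᵥ Pi.single q (1 : F) ≠ 0 := by
    by_contra! h0
    refine hN0 (Matrix.ext fun a b => ?_)
    have := congrFun (h0 b) a
    rwa [Matrix.mulVec_single_one] at this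
  set v := N *ᵥ Pi.single q (1 : F)
  obtain ⟨r, hr⟩ := Function.ne_iff.1 hq
  set χ : Fin k → F := fun b => N r b
  set w := χ ᵥ* D.Ji
  have hwJ : w ᵥ* D.J = χ := by rw [Matrix.vecMul_vecMul, D.inv_mul, Matrix.vecMul_one]
  have hw : w ≠ 0 := fun h0 => hr (by
    rw [h0, Matrix.zero_vecMul] at hwJ
    show (N *ᵥ Pi.single q (1 : F)) r = 0
    rw [Matrix.mulVec_single_one]
    exact (congrFun hwJ q).symm)
  refine C.kronecker_of_contract hM hw hq ?_
  have hout : out D α w = out D α (Pi.single r (1 : F) ᵥ* D.Ji) * ((1 : Matrix α α F) ⊗ₖ N) := by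
    rw [out, out, hwJ, Matrix.vecMul_vecMul, D.inv_mul, Matrix.vecMul_one,
      CfsgLib.Geo.TensorLinear.con_mul_kronecker, Matrix.one_mul, Matrix.single_vecMul]
    simp [χ]
    rfl
  have hcN : M * ((1 : Matrix α α F) ⊗ₖ N) = ((1 : Matrix α α F) ⊗ₖ N) * M := by
    rw [show N = B + (-1) from sub_eq_add_neg B 1, Matrix.kronecker_add, kronecker_neg', Matrix.one_kronecker_one,
      mul_add, add_mul, hc.eq, mul_neg, neg_mul, mul_one, one_mul]
  rw [hout, Matrix.mul_assoc, ← Matrix.mul_assoc _ M, ← hcN, Matrix.mul_assoc, kronecker_inc, show N *ᵥ v = 0 by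
      rw [Matrix.mulVec_mulVec, hNN, Matrix.zero_mulVec], show (inc α (0 : Fin k → F) : Matrix (α × Fin k) α F) = 0 by
      rw [← zero_smul F (0 : Fin k → F), inc_smul, zero_smul], Matrix.zero_mul, Matrix.mul_zero, Matrix.mul_zero]

end Flat

end CfsgLib.HallGen.SympPlus
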