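/-
Characteristic two: a non-scalar invariant space of matrices contains a pure tensor of short root maps.
-/
import Cfsg.Agent.Lib.HallGen.SympPlus.Flat
import Cfsg.Agent.Lib.HallGen.SympWreath.Extract

set_option autoImplicit false
set_option linter.unusedSectionVars false
set_option maxHeartbeats 400000

namespace CfsgLib.HallGen.SympPlus

open Matrix CfsgLib.HallGen.SympWreath CfsgLib.Geo CfsgLib.Geo.SpinTensor CfsgLib.Geo.TensorWreath
open scoped Kronecker

variable {F : Type*} [Field F] [CharP F 2] {k t : ℕ} {D : Factor F k}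

theorem f_comm (a b : Fin k → F) : D.f a b = D.f b a := by rw [D.f_swap b a]; exact CharTwo.neg_eq _

variable (D) in
/-- A short root map of one factor. -/
def IsC (C : Matrix (Fin k) (Fin k) F) : Prop :=
  ∃ x y, x ≠ 0 ∧ y ∉ Submodule.span F {x} ∧ D.f x y = 0 ∧ C = D.R x y + D.R y x

theorem IsC.ne_one {C : Matrix (Fin k) (Fin k) F} (h : IsC D C) : C ≠ 1 := by
  obtain ⟨x, y, hx, -, hxy, rfl⟩ := h
  intro h1
  have h2 := congrArg (· *ᵥ x) h1
  simp only [Matrix.add_mulVec, Matrix.one_mulVec, D.R_mulVec, D.f_self, f_comm (D := D) y x, hxy, zero_smul,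
    add_zero] at h2
  exact hx h2.symm

variable (D) in
/-- A totally isotropic space equal to its orthogonal. -/
theorem exists_lagrangian : ∃ L : Submodule F (Fin k → F), (∀ x ∈ L, ∀ y ∈ L, D.f x y = 0) ∧
    (∀ v, (∀ x ∈ L, D.f x v = 0) → v ∈ L) ∧ k ≤ 2 * Module.finrank F L := by
  classical
  have hb : Module.finrank F (Fin k → F) = k := by simp
  obtain ⟨d, hd, hmax⟩ : ∃ d, (∃ L : Submodule F (Fin k → F), (∀ x ∈ L, ∀ y ∈ L, D.f x y = 0) ∧
      Module.finrank F L = d) ∧ ∀ L : Submodule F (Fin k → F), (∀ x ∈ L, ∀ y ∈ L, D.f x y = 0) →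
      Module.finrank F L ≤ d := by
    have hs : ∀ L : Submodule F (Fin k → F), Module.finrank F L ≤ k := fun L => (Submodule.finrank_le L).trans_eq hb
    let P : ℕ → Prop := fun d => ∃ L : Submodule F (Fin k → F), (∀ x ∈ L, ∀ y ∈ L, D.f x y = 0) ∧
      Module.finrank F L = d
    refine ⟨Nat.findGreatest P k, Nat.findGreatest_spec (P := P) (m := 0) (Nat.zero_le k)
      ⟨⊥, fun x hx y hy => by rw [(Submodule.mem_bot F).1 hx, D.f_zero_left], finrank_bot F _⟩,
      fun L hL => Nat.le_findGreatest (hs L) ⟨L, hL, rfl⟩⟩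
  obtain ⟨L, hL, rfl⟩ := hd
  have hperp : ∀ v, (∀ x ∈ L, D.f x v = 0) → v ∈ L := by
    intro v hv
    by_contra hvL
    have hlt : L < L ⊔ Submodule.span F {v} := lt_of_le_of_ne le_sup_left fun e => hvL (by
      rw [e]; exact le_sup_right (α := Submodule F (Fin k → F)) (Submodule.mem_span_singleton_self v))
    refine absurd (hmax _ fun x hx y hy => ?_) (not_le.2 (Submodule.finrank_lt_finrank_of_lt hlt))
    obtain ⟨x₀, hx₀, x₁, hx₁, rfl⟩ := Submodule.mem_sup.1 hx
    obtain ⟨y₀, hy₀, y₁, hy₁, rfl⟩ := Submodule.mem_sup.1 hy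
    obtain ⟨a, rfl⟩ := Submodule.mem_span_singleton.1 hx₁
    obtain ⟨b, rfl⟩ := Submodule.mem_span_singleton.1 hy₁
    simp only [D.f_add_left, D.f_add_right, D.f_smul_left, D.f_smul_right, hL _ hx₀ _ hy₀, hv _ hx₀, D.f_self,
      f_comm (D := D) v y₀, hv _ hy₀, mul_zero, add_zero]
  refine ⟨L, hL, hperp, ?_⟩
  let bs := Module.finBasis F L
  let g : (Fin k → F) →ₗ[F] (Fin (Module.finrank F L) → F) :=
    { toFun := fun v i => D.f (bs i : Fin k → F) v
      map_add' := fun a b => funext fun i => D.f_add_right _ _ _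
      map_smul' := fun c a => funext fun i => D.f_smul_right c _ _ }
  have hker : LinearMap.ker g ≤ L := fun v hv => hperp v fun x hx => by
    have h1 : (⟨x, hx⟩ : L) = ∑ i, bs.repr ⟨x, hx⟩ i • bs i := (bs.sum_repr _).symm
    have h2 := congrArg (Subtype.val) h1
    simp only [Submodule.coe_sum, Submodule.coe_smul] at h2
    rw [h2]
    simp only [Factor.f, Matrix.sum_vecMul, Matrix.smul_vecMul, sum_dotProduct, smul_dotProduct]
    exact Finset.sum_eq_zero fun i _ => by
      rw [show ((bs i : Fin k → F) ᵥ* D.J) ⬝ᵥ v = g v i from rfl, LinearMap.mem_ker.1 hv, Pi.zero_apply, smul_zero]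
  have h := LinearMap.finrank_range_add_finrank_ker g
  have h1 : Module.finrank F (LinearMap.range g) ≤ Module.finrank F L :=
    (Submodule.finrank_le _).trans_eq (by simp)
  have h2 := Submodule.finrank_mono hker
  omega

/-- Vectors of a large space orthogonal to two given ones. -/
theorem exists_two_perp {L : Submodule F (Fin k → F)} (hL : 3 ≤ Module.finrank F L) (q q' : Fin k → F) :
    ∃ p p', p ∈ L ∧ p' ∈ L ∧ p ≠ 0 ∧ p' ∉ Submodule.span F {p} ∧ D.f p q = 0 ∧ D.f p q' = 0 ∧ D.f p' q' = 0 := by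
  let g₂ : L →ₗ[F] (Fin 2 → F) :=
    { toFun := fun x => ![D.f x q, D.f x q']
      map_add' := fun a b => funext fun i => by fin_cases i <;> simp [D.f_add_left]
      map_smul' := fun c a => funext fun i => by fin_cases i <;> simp [D.f_smul_left] }
  let g₁ : L →ₗ[F] F :=
    { toFun := fun x => D.f x q'
      map_add' := fun a b => D.f_add_left _ _ _
      map_smul' := fun c a => D.f_smul_left c _ _ }
  obtain ⟨p, hp, hp0⟩ := (Submodule.ne_bot_iff _).1 (LinearMap.ker_ne_bot_of_finrank_lt (f := g₂) (by simp; omega))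
  have h1 : 2 ≤ Module.finrank F (LinearMap.ker g₁) := by
    have h := LinearMap.finrank_range_add_finrank_ker g₁
    have h2 : Module.finrank F (LinearMap.range g₁) ≤ 1 := (Submodule.finrank_le _).trans_eq (Module.finrank_self F)
    omega
  obtain ⟨p', hp', hp'p⟩ : ∃ p' ∈ LinearMap.ker g₁, p' ∉ Submodule.span F {p} := by
    by_contra! hc
    have := (Submodule.finrank_mono (show LinearMap.ker g₁ ≤ Submodule.span F {p} from hc)).trans_eq
      (finrank_span_singleton hp0)
    omega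
  have h3 := LinearMap.mem_ker.1 hp
  refine ⟨p, p', p.2, p'.2, fun h => hp0 (Subtype.ext h), fun hm => hp'p ?_, congrFun h3 0, congrFun h3 1,
    LinearMap.mem_ker.1 hp'⟩
  obtain ⟨c, hc⟩ := Submodule.mem_span_singleton.1 hm
  exact Submodule.mem_span_singleton.2 ⟨c, Subtype.ext hc⟩

section Slot

variable (D) in
/-- The contractions at one factor. -/
def ctb (j : Fin (t + 1)) (Φ : Matrix (Fin (t + 1) → Fin k) (Fin (t + 1) → Fin k) F) (u v : Fin k → F) :
    Matrix (Fin t → Fin k) (Fin t → Fin k) F :=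
  out D (Fin t → Fin k) u * Φ.submatrix (sp j) (sp j) * inc (Fin t → Fin k) v

variable {j : Fin (t + 1)} {Φ Ψ : Matrix (Fin (t + 1) → Fin k) (Fin (t + 1) → Fin k) F}

theorem ctb_add_left (u u' v : Fin k → F) : ctb D j Φ (u + u') v = ctb D j Φ u v + ctb D j Φ u' v := by
  simp only [ctb, out_add, Matrix.add_mul]

theorem ctb_add_right (u v v' : Fin k → F) : ctb D j Φ u (v + v') = ctb D j Φ u v + ctb D j Φ u v' := by
  simp only [ctb, inc_add, Matrix.mul_add]

theorem ctb_smul_left (c : F) (u v : Fin k → F) : ctb D j Φ (c • u) v = c • ctb D j Φ u v := by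
  simp only [ctb, out_smul, Matrix.smul_mul]

theorem ctb_smul_right (c : F) (u v : Fin k → F) : ctb D j Φ u (c • v) = c • ctb D j Φ u v := by
  simp only [ctb, inc_smul, Matrix.mul_smul]

theorem ctb_sub (u v : Fin k → F) : ctb D j (Φ - Ψ) u v = ctb D j Φ u v - ctb D j Ψ u v := by
  simp only [ctb, sub_matrix_sub, Matrix.mul_sub, Matrix.sub_mul]

theorem ctb_upM (ψ : Matrix (Fin t → Fin k) (Fin t → Fin k) F) (u v : Fin k → F) :
    ctb D j (upM j ψ) u v = D.f u v • ψ := by
  rw [ctb, sub_upM, Matrix.mul_assoc, kronecker_inc, Matrix.one_mulVec, ← Matrix.mul_assoc, out_inc, Matrix.smul_mul,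
    Matrix.one_mul]

theorem ctb_upM_R (ψ : Matrix (Fin t → Fin k) (Fin t → Fin k) F) (a b u v : Fin k → F) :
    ctb D j (upM j ψ * SpinTensor.emb j (D.R a b)) u v = (D.f u a * D.f b v) • ψ := by
  rw [ctb, sub_upM_mul_emb, ← inc_out, ← Matrix.mul_assoc, ← Matrix.mul_assoc, out_inc, Matrix.mul_assoc, out_inc,
    Matrix.mul_smul, Matrix.mul_one, Matrix.smul_mul, Matrix.one_mul, smul_smul, mul_comm]

theorem ctb_ext (h : ∀ u v, ctb D j Φ u v = ctb D j Ψ u v) : Φ = Ψ :=
  eq_of_sub j (ext_inc fun q => ext_out D fun z => by rw [← Matrix.mul_assoc, ← Matrix.mul_assoc]; exact h z _)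

theorem ctb_conj (B : Matrix (Fin k) (Fin k) F) (u v : Fin k → F) :
    ctb D j (SpinTensor.emb j B * Φ * SpinTensor.emb j (D.adj B)) u v = ctb D j Φ (D.adj B *ᵥ u) (D.adj B *ᵥ v) := by
  rw [ctb, sub_mul_sub, sub_mul_sub, sub_emb, sub_emb, ← Matrix.mul_assoc, ← Matrix.mul_assoc, out_kronecker,
    Matrix.one_mul]
  simp only [ctb, Matrix.mul_assoc, kronecker_inc, Matrix.mul_one]

theorem ctb_commute (i : Fin t) (h : ∀ B, Commute Φ (SpinTensor.emb (j.succAbove i) B)) (u v : Fin k → F)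
    (B : Matrix (Fin k) (Fin k) F) : Commute (ctb D j Φ u v) (SpinTensor.emb i B) := by
  have h1 : Φ.submatrix (sp j) (sp j) * (SpinTensor.emb i B ⊗ₖ (1 : Matrix (Fin k) (Fin k) F)) =
      (SpinTensor.emb i B ⊗ₖ (1 : Matrix (Fin k) (Fin k) F)) * Φ.submatrix (sp j) (sp j) := by
    rw [← sub_emb_succAbove j i B, ← sub_mul_sub, ← sub_mul_sub, (h B).eq]
  have h3 : out D (Fin t → Fin k) u * (SpinTensor.emb i B ⊗ₖ (1 : Matrix (Fin k) (Fin k) F)) =
      SpinTensor.emb i B * out D (Fin t → Fin k) u := by rw [out_kronecker, D.adj_one, Matrix.one_mulVec]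
  have h4 : (SpinTensor.emb i B ⊗ₖ (1 : Matrix (Fin k) (Fin k) F)) * inc (Fin t → Fin k) v =
      inc (Fin t → Fin k) v * SpinTensor.emb i B := by rw [kronecker_inc, Matrix.one_mulVec]
  show out D (Fin t → Fin k) u * Φ.submatrix (sp j) (sp j) * inc (Fin t → Fin k) v * SpinTensor.emb i B =
    SpinTensor.emb i B * (out D (Fin t → Fin k) u * Φ.submatrix (sp j) (sp j) * inc (Fin t → Fin k) v)
  rw [Matrix.mul_assoc _ (inc (Fin t → Fin k) v), ← h4, Matrix.mul_assoc (out D (Fin t → Fin k) u),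
    ← Matrix.mul_assoc (Φ.submatrix _ _), h1, ← Matrix.mul_assoc, ← Matrix.mul_assoc, h3]
  simp only [Matrix.mul_assoc]

theorem ctb_commute_R {x : Fin k → F} (h : Commute Φ (SpinTensor.emb j (D.R x x))) (u v : Fin k → F) :
    D.f u x • ctb D j Φ x v = D.f x v • ctb D j Φ u x := by
  have h1 := congrArg (fun M : Matrix (Fin (t + 1) → Fin k) (Fin (t + 1) → Fin k) F =>
    out D (Fin t → Fin k) u * M.submatrix (sp j) (sp j) * inc (Fin t → Fin k) v) h.eq
  simp only [sub_mul_sub, sub_emb] at h1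
  rw [← inc_out, Matrix.mul_one] at h1
  have e1 : out D (Fin t → Fin k) u * (inc (Fin t → Fin k) x * out D (Fin t → Fin k) x * Φ.submatrix (sp j) (sp j)) *
      inc (Fin t → Fin k) v = D.f u x • ctb D j Φ x v := by
    rw [Matrix.mul_assoc (inc _ x), ← Matrix.mul_assoc _ (inc _ x), out_inc, Matrix.smul_mul, Matrix.smul_mul,
      Matrix.one_mul]
    rfl
  have e2 : out D (Fin t → Fin k) u * (Φ.submatrix (sp j) (sp j) * (inc (Fin t → Fin k) x * out D (Fin t → Fin k) x)) *
      inc (Fin t → Fin k) v = D.f x v • ctb D j Φ u x := by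
    rw [← Matrix.mul_assoc, ← Matrix.mul_assoc, Matrix.mul_assoc _ (out _ _ x), out_inc, Matrix.mul_smul,
      Matrix.mul_one]
    rfl
  rw [← e1, ← e2, h1]

theorem transv_inv (x : Fin k → F) : D.adj (1 + (1 : F) • D.R x x) = 1 + (1 : F) • D.R x x := by
  rw [D.adj_add, D.adj_one, D.adj_smul, D.adj_R, mat_neg]

theorem transv_sq (x : Fin k → F) : (1 + (1 : F) • D.R x x) * (1 + (1 : F) • D.R x x) = 1 := by
  simp [mul_add, add_mul, D.R_mul, D.f_self]
  rw [add_assoc, mat_add_self, add_zero]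

theorem transv_commute {x y : Fin k → F} (h : D.f x y = 0) :
    Commute (1 + (1 : F) • D.R x x) (1 + (1 : F) • D.R y y) := by
  show _ * _ = _ * _
  simp [mul_add, add_mul, D.R_mul, h, f_comm (D := D) y x]
  abel

variable {Z : Submodule F (Matrix (Fin (t + 1) → Fin k) (Fin (t + 1) → Fin k) F)}

/-- An element commuting with the transvections of an isotropic space. -/
theorem exists_commute_set (hZ : Inv D Z) (hk : 3 ≤ k) {L : Submodule F (Fin k → F)}
    (hL : ∀ x ∈ L, ∀ y ∈ L, D.f x y = 0) (hΦ : Φ ∈ Z) (hns : ¬ ∀ B, Commute Φ (SpinTensor.emb j B)) :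
    ∀ s : Finset (Fin k → F), (∀ x ∈ s, x ∈ L) →
      ∃ θ ∈ Z, (¬ ∀ B, Commute θ (SpinTensor.emb j B)) ∧
        (∀ i : Fin t, (∀ B, Commute Φ (SpinTensor.emb (j.succAbove i) B)) →
          ∀ B, Commute θ (SpinTensor.emb (j.succAbove i) B)) ∧
        ∀ x ∈ s, Commute θ (SpinTensor.emb j (D.R x x)) := by
  classical
  intro s
  induction s using Finset.induction with
  | empty => exact fun _ => ⟨Φ, hΦ, hns, fun _ h => h, fun x hx => absurd hx (Finset.notMem_empty x)⟩
  | @insert x s hx ih =>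
    intro hs
    obtain ⟨θ, hθ, hθns, hθi, hθs⟩ := ih fun y hy => hs y (Finset.mem_insert_of_mem hy)
    set T : (Fin k → F) → Matrix (Fin (t + 1) → Fin k) (Fin (t + 1) → Fin k) F :=
      fun y => SpinTensor.emb j (1 + (1 : F) • D.R y y) with hT
    have hTE : ∀ (M : Matrix (Fin (t + 1) → Fin k) (Fin (t + 1) → Fin k) F) y,
        Commute M (T y) ↔ Commute M (SpinTensor.emb j (D.R y y)) := fun M y => by
      simp only [hT, map_add, emb_one, one_smul]
      exact ⟨fun h => by simpa using h.sub_right (Commute.one_right M), fun h => (Commute.one_right M).add_right h⟩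
    have hT2 : ∀ y, T y * T y = 1 := fun y => by rw [hT, emb_mul_emb, transv_sq, emb_one]
    by_cases hxθ : Commute θ (SpinTensor.emb j (D.R x x))
    · exact ⟨θ, hθ, hθns, hθi, fun y hy => (Finset.mem_insert.1 hy).elim (fun h => h ▸ hxθ) (hθs y)⟩
    set δ := T x * θ * T x - θ
    have hδZ : δ ∈ Z := by
      refine Z.sub_mem ?_ hθ
      have h1 := hZ j _ (D.iso_transv x 1) θ hθ
      rwa [transv_inv] at h1
    refine ⟨δ, hδZ, fun hall => ?_, fun i hi B => ?_, fun y hy => ?_⟩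
    · obtain ⟨ψ, hψ⟩ : ∃ ψ, δ = upM j ψ := by
        haveI : NeZero k := ⟨by omega⟩
        exact exists_upM D j hall
      obtain ⟨v, hxv, hv⟩ := exists_perp_notMem (D := D) hk x
      obtain ⟨v', hxv', hvv'⟩ := D.exists_partner hv
      have h1 := congrArg (fun M => ctb D j M v v') hψ
      simp only [δ, ctb_sub, ctb_upM, hvv', one_smul] at h1
      rw [show T x * θ * T x = T x * θ * SpinTensor.emb j (D.adj (1 + (1 : F) • D.R x x)) by rw [transv_inv]] at h1
      simp only [hT] at h1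
      rw [ctb_conj, transv_inv, D.transv_mulVec, D.transv_mulVec] at h1
      simp only [hxv, hxv', mul_zero, zero_smul, add_zero, sub_self] at h1
      rw [← h1, map_zero] at hψ
      have h2 : Commute θ (T x) := by
        have h3 : T x * θ * T x = θ := sub_eq_zero.1 hψ
        show θ * T x = T x * θ
        conv_lhs => rw [← h3, mul_assoc, hT2, mul_one]
      exact hxθ ((hTE θ x).1 h2)
    · have hne : j ≠ j.succAbove i := (Fin.succAbove_ne j i).symm
      exact (((emb_comm_ne' hne _ B).mul_left (hθi i hi B)).mul_left (emb_comm_ne' hne _ B)).sub_left (hθi i hi B)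
    · refine (hTE δ y).1 ?_
      rcases Finset.mem_insert.1 hy with rfl | hys
      · show δ * T y = T y * δ
        simp only [δ, sub_mul, mul_sub, mul_assoc, hT2, mul_one]
        rw [← mul_assoc (T y) (T y), hT2, one_mul, ← sub_eq_zero,
          show T y * θ - θ * T y - (θ * T y - T y * θ) = (T y * θ + T y * θ) - (θ * T y + θ * T y) by abel,
          mat_add_self, mat_add_self, sub_zero]
      · have hc : Commute (T x) (T y) := by
          rw [hT]
          show SpinTensor.emb j _ * SpinTensor.emb j _ = SpinTensor.emb j _ * SpinTensor.emb j _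
          rw [emb_mul_emb, emb_mul_emb, (transv_commute (hL x (hs x (Finset.mem_insert_self x s)) y
            (hs y (Finset.mem_insert_of_mem hys)))).eq]
        have hθy := (hTE θ y).2 (hθs y hys)
        exact ((hc.mul_left hθy).mul_left hc).sub_left hθy

/-- Two moves inside a Lagrangian space. -/
theorem two_step (hZ : Inv D Z) {L : Submodule F (Fin k → F)} (hL : ∀ x ∈ L, ∀ y ∈ L, D.f x y = 0)
    {θ : Matrix (Fin (t + 1) → Fin k) (Fin (t + 1) → Fin k) F} (hθ : θ ∈ Z)
    {χ : Matrix (Fin t → Fin k) (Fin t → Fin k) F} (h0 : ∀ u v, (u ∈ L ∨ v ∈ L) →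
      ctb D j θ u v = D.f u v • χ)
    {p p' q q' : Fin k → F} (hp : p ∈ L) (hp' : p' ∈ L) (hpq : D.f p q = 0) (hpq' : D.f p q' = 0)
    (hp'q' : D.f p' q' = 0) :
    upM j (ctb D j θ q q' - D.f q q' • χ) * SpinTensor.emb j (D.R p p') +
      upM j (ctb D j θ q' q - D.f q' q • χ) * SpinTensor.emb j (D.R p' p) ∈ Z := by
  have sh : ∀ {a b : Fin k → F}, D.f a b = 0 → D.Iso (1 + D.R a b + D.R b a) ∧
      D.adj (1 + D.R a b + D.R b a) = 1 + D.R a b + D.R b a := by
    intro a b hab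
    have e : D.adj (1 + D.R a b + D.R b a) = 1 + D.R a b + D.R b a := by
      rw [D.adj_add, D.adj_add, D.adj_one, D.adj_R, D.adj_R, mat_neg, mat_neg]; abel
    refine ⟨?_, e⟩
    show D.adj _ * _ = 1
    rw [e]
    simp [mul_add, add_mul, D.R_mul, D.f_self, hab, f_comm (D := D) b a]
    calc _ = 1 + (D.R a b + D.R a b) + (D.R b a + D.R b a) := by abel
      _ = 1 := by rw [mat_add_self, mat_add_self, add_zero, add_zero]
  obtain ⟨⟨hI, eI⟩, ⟨hI', eI'⟩⟩ := And.intro (sh hpq) (sh hp'q')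
  set A := 1 + D.R p q + D.R q p
  set A' := 1 + D.R p' q' + D.R q' p'
  set θ₁ := SpinTensor.emb j A * θ * SpinTensor.emb j (D.adj A) - θ
  have hθ₁ : θ₁ ∈ Z := Z.sub_mem (hZ j A hI θ hθ) hθ
  have h2 : SpinTensor.emb j A' * θ₁ * SpinTensor.emb j (D.adj A') - θ₁ ∈ Z := Z.sub_mem (hZ j A' hI' θ₁ hθ₁) hθ₁
  convert h2 using 1
  set β : (Fin k → F) → (Fin k → F) → Matrix (Fin t → Fin k) (Fin t → Fin k) F :=
    fun u v => ctb D j θ u v - D.f u v • χ with hβ
  have hβl : ∀ u v, u ∈ L → β u v = 0 := fun u v h => sub_eq_zero.2 (h0 u v (Or.inl h))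
  have hβr : ∀ u v, v ∈ L → β u v = 0 := fun u v h => sub_eq_zero.2 (h0 u v (Or.inr h))
  have badd : ∀ u u' v, β (u + u') v = β u v + β u' v := fun u u' v => by
    simp only [hβ, ctb_add_left, D.f_add_left, add_smul]; abel
  have badd' : ∀ u v v', β u (v + v') = β u v + β u v' := fun u v v' => by
    simp only [hβ, ctb_add_right, D.f_add_right, add_smul]; abel
  have bsl : ∀ (c : F) u v, β (c • u) v = c • β u v := fun c u v => by
    simp only [hβ, ctb_smul_left, D.f_smul_left, smul_sub, smul_smul]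
  have bsr : ∀ (c : F) u v, β u (c • v) = c • β u v := fun c u v => by
    simp only [hβ, ctb_smul_right, D.f_smul_right, smul_sub, smul_smul]
  have hA : ∀ u, A *ᵥ u = u + D.f q u • p + D.f p u • q := fun u => by
    simp only [A, Matrix.add_mulVec, Matrix.one_mulVec, D.R_mulVec]
  have hA' : ∀ u, A' *ᵥ u = u + D.f q' u • p' + D.f p' u • q' := fun u => by
    simp only [A', Matrix.add_mulVec, Matrix.one_mulVec, D.R_mulVec]
  have e1 : ∀ u v, ctb D j θ₁ u v = D.f p v • β u q + D.f p u • β q v + (D.f p u * D.f p v) • β q q := by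
    intro u v
    have hf : D.f (A *ᵥ u) (A *ᵥ v) = D.f u v := hI.map u v
    rw [show ctb D j θ₁ u v = ctb D j θ (A *ᵥ u) (A *ᵥ v) - ctb D j θ u v by
      simp only [θ₁, ctb_sub, ctb_conj]; rw [eI]]
    have e : ctb D j θ (A *ᵥ u) (A *ᵥ v) - ctb D j θ u v = β (A *ᵥ u) (A *ᵥ v) - β u v := by
      simp only [hβ, hf]; abel
    rw [e, hA, hA]
    simp only [badd, badd', bsl, bsr, hβl p _ hp, hβr _ p hp, smul_zero, add_zero, zero_add, smul_smul]
    abel
  refine ctb_ext (D := D) (j := j) fun u v => ?_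
  rw [ctb_sub, ctb_conj, eI', e1, e1]
  have hsum : ∀ M N : Matrix (Fin (t + 1) → Fin k) (Fin (t + 1) → Fin k) F,
      ctb D j (M + N) u v = ctb D j M u v + ctb D j N u v := fun M N => by
    simp only [ctb, Matrix.submatrix_add, Matrix.mul_add, Matrix.add_mul, Pi.add_apply]
  rw [hsum, ctb_upM_R, ctb_upM_R]
  have hpp' : D.f p p' = 0 := hL p hp p' hp'
  have hfA : ∀ w, D.f p (A' *ᵥ w) = D.f p w := fun w => by
    rw [hA']; simp [D.f_add_right, D.f_smul_right, hpp', hpq']
  simp only [hfA]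
  rw [hA', hA']
  simp only [badd, badd', bsl, bsr, hβl p' _ hp', hβr _ p' hp', smul_zero, add_zero, smul_smul, smul_add,
    f_comm (D := D) u p, f_comm (D := D) u p', show ctb D j θ q q' - D.f q q' • χ = β q q' from rfl,
    show ctb D j θ q' q - D.f q' q • χ = β q' q from rfl]
  rw [mul_comm (D.f p v) (D.f p' u)]
  abel

/-- **The step at one factor.** -/
theorem slot_step [Fintype F] (hZ : Inv D Z) (hk : 6 ≤ k) (j : Fin (t + 1))
    {Φ : Matrix (Fin (t + 1) → Fin k) (Fin (t + 1) → Fin k) F} (hΦ : Φ ∈ Z) :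
    (∀ B, Commute Φ (SpinTensor.emb j B)) ∨
      ∃ (C : Matrix (Fin k) (Fin k) F) (ψ : Matrix (Fin t → Fin k) (Fin t → Fin k) F), IsC D C ∧ ψ ≠ 0 ∧
        upM j ψ * SpinTensor.emb j C ∈ Z ∧
        ∀ i : Fin t, (∀ B, Commute Φ (SpinTensor.emb (j.succAbove i) B)) → ∀ B, Commute ψ (SpinTensor.emb i B) := by
  classical
  haveI : NeZero k := ⟨by omega⟩
  by_cases hns : ∀ B, Commute Φ (SpinTensor.emb j B)
  · exact Or.inl hns
  right
  obtain ⟨L, hL, hperp, hdim⟩ := exists_lagrangian D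
  obtain ⟨θ, hθ, hθns, hθi, hθL⟩ := exists_commute_set hZ (by omega) hL hΦ hns
    (Finset.univ.filter fun x => x ∈ L) fun x hx => (Finset.mem_filter.1 hx).2
  replace hθL : ∀ x ∈ L, Commute θ (SpinTensor.emb j (D.R x x)) := fun x hx => hθL x (by simp [hx])
  obtain ⟨x₀, y₀, hx₀L, -, hx₀, -, -, -, -⟩ := exists_two_perp (D := D) (L := L) (by omega) 0 0
  obtain ⟨z₀, hz₀⟩ := D.nondeg hx₀
  set χ := ctb D j θ x₀ z₀
  -- the contractions against the space
  have hLL : ∀ u ∈ L, ∀ x ∈ L, ctb D j θ u x = 0 := fun u hu x hx => by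
    by_cases hx0 : x = 0
    · rw [hx0, ← zero_smul F (0 : Fin k → F), ctb_smul_right, zero_smul]
    obtain ⟨v, hv⟩ := D.nondeg hx0
    have h := ctb_commute_R (hθL x hx) u v
    rw [hL u hu x hx, zero_smul, hv, one_smul] at h
    exact h.symm
  have hγ : ∀ x ∈ L, ∀ v, D.f x v = 1 → ∀ u, ctb D j θ u x = D.f u x • ctb D j θ x v := fun x hx v hv u => by
    have h := ctb_commute_R (hθL x hx) u v
    rw [hv, one_smul] at h
    exact h.symm
  have hγ' : ∀ x ∈ L, x ≠ 0 → ∀ v, D.f x v = 1 → ctb D j θ x v = χ := by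
    have key : ∀ x y : Fin k → F, x ∈ L → y ∈ L → y ∉ Submodule.span F {x} → x ≠ 0 → ∀ v w, D.f x v = 1 →
        D.f y w = 1 → ctb D j θ x v = ctb D j θ y w := by
      intro x y hx hy hyx hx0 v w hv hw
      obtain ⟨u₁, hxu₁, hyu₁⟩ := D.exists_partner hyx
      obtain ⟨u₂, hyu₂, hxu₂⟩ := D.exists_partner (a := y) (b := x) fun hm => by
        obtain ⟨c, hc⟩ := Submodule.mem_span_singleton.1 hm
        have hc0 : c ≠ 0 := fun h0 => hx0 (by rw [← hc, h0, zero_smul])
        exact hyx (Submodule.mem_span_singleton.2 ⟨c⁻¹, by rw [← hc, inv_smul_smul₀ hc0]⟩)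
      have hxy : x + y ≠ 0 := fun h0 => hyx (Submodule.mem_span_singleton.2 ⟨-1, by
        rw [neg_one_smul]; exact (neg_eq_of_add_eq_zero_right h0)⟩)
      obtain ⟨s, hs⟩ := D.nondeg hxy
      have a1 := hγ (x + y) (L.add_mem hx hy) s hs u₁
      have a2 := hγ (x + y) (L.add_mem hx hy) s hs u₂
      rw [ctb_add_right, hγ x hx v hv u₁, hγ y hy w hw u₁, D.f_add_right, f_comm u₁ x, f_comm u₁ y, hxu₁, hyu₁,
        zero_smul, zero_add, zero_add, one_smul, one_smul] at a1
      rw [ctb_add_right, hγ x hx v hv u₂, hγ y hy w hw u₂, D.f_add_right, f_comm u₂ x, f_comm u₂ y, hxu₂, hyu₂,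
        zero_smul, add_zero, add_zero, one_smul, one_smul] at a2
      rw [a1, a2]
    intro x hx hx0 v hv
    by_cases hxs : x ∈ Submodule.span F {x₀}
    · obtain ⟨p, p', hp, hp', hp0, hp'p, -, -, -⟩ := exists_two_perp (D := D) (L := L) (by omega) 0 0
      obtain ⟨m, hm, hms⟩ : ∃ m ∈ L, m ∉ Submodule.span F {x₀} := by
        by_contra! hall
        obtain ⟨c, rfl⟩ := Submodule.mem_span_singleton.1 (hall p hp)
        obtain ⟨d, rfl⟩ := Submodule.mem_span_singleton.1 (hall p' hp')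
        have hc : c ≠ 0 := fun h0 => hp0 (by rw [h0, zero_smul])
        exact hp'p (Submodule.mem_span_singleton.2 ⟨d / c, by rw [smul_smul, div_mul_cancel₀ d hc]⟩)
      have hm0 : m ≠ 0 := fun h0 => hms (by rw [h0]; exact Submodule.zero_mem _)
      obtain ⟨w, hw⟩ := D.nondeg hm0
      have hmx : m ∉ Submodule.span F {x} := fun h =>
        hms ((Submodule.span_singleton_le_iff_mem _ _).2 hxs h)
      rw [key x m hx hm hmx hx0 v w hv hw, ← key x₀ m hx₀L hm hms hx₀ z₀ w hz₀ hw]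
    · rw [← key x₀ x hx₀L hx hxs hx₀ z₀ v hz₀ hv]
  have h0 : ∀ u v, (u ∈ L ∨ v ∈ L) → ctb D j θ u v = D.f u v • χ := by
    intro u v huv
    rcases huv with h | h
    · by_cases hu0 : u = 0
      · rw [hu0, ← zero_smul F (0 : Fin k → F), ctb_smul_left, D.f_smul_left, zero_smul, zero_mul, zero_smul]
      obtain ⟨w, hw⟩ := D.nondeg hu0
      have h1 := ctb_commute_R (hθL u h) w v
      rw [f_comm w u, hw, one_smul, hγ u h w hw w, f_comm w u, hw, one_smul, hγ' u h hu0 w hw] at h1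
      exact h1
    · by_cases hv0 : v = 0
      · rw [hv0, ← zero_smul F (0 : Fin k → F), ctb_smul_right, D.f_smul_right, zero_smul, zero_mul, zero_smul]
      obtain ⟨w, hw⟩ := D.nondeg hv0
      rw [hγ v h w hw u, hγ' v h hv0 w hw]
  obtain ⟨q, q', hqq⟩ : ∃ q q', ctb D j θ q q' - D.f q q' • χ ≠ 0 := by
    by_contra! hall
    refine hθns fun B => ?_
    rw [show θ = upM j χ from ctb_ext (D := D) (j := j) fun u v => by rw [ctb_upM]; exact sub_eq_zero.1 (hall u v)]
    exact upM_comm j χ B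
  set φ := ctb D j θ q q' - D.f q q' • χ
  set φ' := ctb D j θ q' q - D.f q' q • χ
  have hcomm : ∀ i : Fin t, (∀ B, Commute Φ (SpinTensor.emb (j.succAbove i) B)) → ∀ B,
      Commute φ (SpinTensor.emb i B) ∧ Commute φ' (SpinTensor.emb i B) := fun i hi B => by
    have h1 := ctb_commute (D := D) i (hθi i hi)
    exact ⟨(h1 q q' B).sub_left ((h1 x₀ z₀ B).smul_left _), (h1 q' q B).sub_left ((h1 x₀ z₀ B).smul_left _)⟩
  obtain ⟨p, p', hp, hp', hp0, hp'p, hpq, hpq', hp'q'⟩ := exists_two_perp (D := D) (L := L) (by omega) q q'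
  have h1 := two_step hZ hL hθ h0 hp hp' hpq hpq' hp'q'
  change upM j φ * SpinTensor.emb j (D.R p p') + upM j φ' * SpinTensor.emb j (D.R p' p) ∈ Z at h1
  set θ₂ := upM j φ * SpinTensor.emb j (D.R p p') + upM j φ' * SpinTensor.emb j (D.R p' p)
  by_cases hφ : φ + φ' = 0
  · have hφ' : φ' = φ := by rw [eq_comm, ← sub_eq_zero, sub_eq_add_neg, mat_neg]; exact hφ
    refine ⟨D.R p p' + D.R p' p, φ, ⟨p, p', hp0, hp'p, hL p hp p' hp', rfl⟩, hqq, ?_, fun i hi B => (hcomm i hi B).1⟩
    simp only [θ₂, hφ'] at h1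
    rwa [map_add, mul_add]
  obtain ⟨w₁, hp'w₁, hpw₁⟩ := D.exists_partner (a := p') (b := p) fun hm => by
    obtain ⟨c, hc⟩ := Submodule.mem_span_singleton.1 hm
    have hc0 : c ≠ 0 := fun h0 => hp0 (by rw [← hc, h0, zero_smul])
    exact hp'p (Submodule.mem_span_singleton.2 ⟨c⁻¹, by rw [← hc, inv_smul_smul₀ hc0]⟩)
  obtain ⟨w₂, hpw₂, hp'w₂⟩ := D.exists_partner hp'p
  set w := w₁ + w₂
  have hpw : D.f p w = 1 := by rw [D.f_add_right, hpw₁, hpw₂, add_zero]
  have hp'w : D.f p' w = 1 := by rw [D.f_add_right, hp'w₁, hp'w₂, zero_add]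
  have hsum : ∀ M N (u v : Fin k → F), ctb D j (M + N) u v = ctb D j M u v + ctb D j N u v := fun M N u v => by
    simp only [ctb, Matrix.submatrix_add, Matrix.mul_add, Matrix.add_mul, Pi.add_apply]
  have h20 : ∀ u v, (u ∈ L ∨ v ∈ L) → ctb D j θ₂ u v = D.f u v • (0 : Matrix (Fin t → Fin k) (Fin t → Fin k) F) := by
    intro u v huv
    rw [smul_zero, hsum, ctb_upM_R, ctb_upM_R]
    rcases huv with h | h
    · rw [hL u h p hp, hL u h p' hp', zero_mul, zero_mul, zero_smul, zero_smul, add_zero]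
    · rw [hL p hp v h, hL p' hp' v h, mul_zero, mul_zero, zero_smul, zero_smul, add_zero]
  obtain ⟨r, r', hr, hr', hr0, hr'r, hrw, -, hr'w⟩ := exists_two_perp (D := D) (L := L) (by omega) w w
  have h2 := two_step hZ hL h1 h20 hr hr' hrw hrw hr'w
  have hval : ctb D j θ₂ w w = φ + φ' := by
    rw [hsum, ctb_upM_R, ctb_upM_R, f_comm w p, f_comm w p', hpw, hp'w, mul_one, one_smul, one_smul]
  rw [smul_zero, sub_zero, hval] at h2
  exact ⟨D.R r r' + D.R r' r, φ + φ', ⟨r, r', hr0, hr'r, hL r hr r' hr', rfl⟩, hφ, by rw [map_add (SpinTensor.emb j), mul_add]; exact h2,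
    fun i hi B => (hcomm i hi B).1.add_left (hcomm i hi B).2⟩

/-- **A non-scalar invariant space contains a pure tensor of short root maps.** -/
theorem exists_short_pure [Fintype F] (hk : 6 ≤ k) (s : Finset (Fin (t + 1)))
    {Z : Submodule F (Matrix (Fin (t + 1) → Fin k) (Fin (t + 1) → Fin k) F)} (hZ : Inv D Z)
    {Φ : Matrix (Fin (t + 1) → Fin k) (Fin (t + 1) → Fin k) F} (hΦ : Φ ∈ Z) (hΦ0 : Φ ≠ 0)
    (hoff : ∀ l ∉ s, ∀ B, Commute Φ (SpinTensor.emb l B)) :
    ∃ g : Fin (t + 1) → Matrix (Fin k) (Fin k) F, (∀ l ∉ s, g l = 1) ∧ (∀ l, g l = 1 ∨ IsC D (g l)) ∧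
      SpinTensor.pure g ∈ Z ∧ ((¬ ∃ c : F, Φ = c • 1) → ∃ l, g l ≠ 1) := by
  classical
  haveI : NeZero k := ⟨by omega⟩
  induction s using Finset.induction generalizing Z Φ with
  | empty =>
    obtain ⟨c, hc⟩ := eq_smul_of_commute D fun l B => hoff l (Finset.notMem_empty l) B
    refine ⟨fun _ => 1, fun _ _ => rfl, fun _ => Or.inl rfl, ?_, fun h => absurd ⟨c, hc⟩ h⟩
    rw [pure_one]
    refine (Z.smul_mem_iff (fun h0 => hΦ0 (by rw [hc, h0, zero_smul]))).1 (hc ▸ hΦ)
  | @insert j s hj ih =>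
    rcases slot_step hZ hk j hΦ with hc | ⟨C, θ, hC, hθ, hmem, hpres⟩
    · obtain ⟨g, g1, g2, g3, g4⟩ := ih hZ hΦ hΦ0 fun l hl => by
        by_cases hlj : l = j
        · subst hlj; exact hc
        · exact hoff l (by simp [hlj, hl])
      exact ⟨g, fun l hl => g1 l fun h => hl (Finset.mem_insert_of_mem h), g2, g3, g4⟩
    let Z' : Submodule F (Matrix (Fin (t + 1) → Fin k) (Fin (t + 1) → Fin k) F) :=
      { carrier := {Ψ | (∀ B, Commute Ψ (SpinTensor.emb j B)) ∧ Ψ * SpinTensor.emb j C ∈ Z}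
        zero_mem' := ⟨fun _ => Commute.zero_left _, by rw [zero_mul]; exact Z.zero_mem⟩
        add_mem' := fun ha hb => ⟨fun B => (ha.1 B).add_left (hb.1 B), by rw [add_mul]; exact Z.add_mem ha.2 hb.2⟩
        smul_mem' := fun c _ hM => ⟨fun B => (hM.1 B).smul_left c, by
          rw [smul_mul_assoc]; exact Z.smul_mem c hM.2⟩ }
    have hZ' : Inv D Z' := by
      intro l B hB Ψ hΨ
      by_cases hl : l = j
      · subst hl
        rw [← (hΨ.1 B).eq, mul_assoc, emb_mul_emb, hB.mul_adj, emb_one, mul_one]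
        exact hΨ
      · refine ⟨fun B' => ((emb_comm_ne' hl B B').mul_left (hΨ.1 B')).mul_left (emb_comm_ne' hl _ B'), ?_⟩
        rw [mul_assoc (SpinTensor.emb l B * Ψ), (emb_comm_ne' hl _ C).eq, ← mul_assoc, mul_assoc (SpinTensor.emb l B)]
        exact hZ l B hB _ hΨ.2
    obtain ⟨g, g1, g2, g3, -⟩ := ih (Z := Z') hZ' (Φ := upM j θ) ⟨upM_comm j θ, hmem⟩
      (fun h0 => hθ (upM_injective j (by rw [h0, map_zero]))) fun l hl B => by
        rcases Fin.eq_self_or_eq_succAbove j l with rfl | ⟨i, rfl⟩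
        · exact upM_comm l θ B
        · rw [← upM_emb]
          exact (hpres i (hoff _ (by simp [hl, Fin.succAbove_ne])) B).map (upM j)
    refine ⟨Function.update g j C, fun l hl => ?_, fun l => ?_, ?_, fun _ => ⟨j, by simpa using hC.ne_one⟩⟩
    · rw [Finset.mem_insert, not_or] at hl
      rw [Function.update_of_ne hl.1, g1 l hl.2]
    · by_cases hl : l = j
      · subst hl; simpa using Or.inr hC
      · rw [Function.update_of_ne hl]; exact g2 l
    · convert g3.2 using 1
      rw [show SpinTensor.emb (F := F) j C = SpinTensor.pure _ from rfl, pure_mul]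
      congr 1
      funext l
      by_cases hl : l = j
      · subst hl; simp [g1 l hj]
      · simp [Function.update_of_ne hl]

end Slot

end CfsgLib.HallGen.SympPlus
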