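/-
Characteristic two: the standing hypotheses, roots, and the elements fixing or moving roots.
-/
import Cfsg.Agent.Lib.HallGen.SympPlus.Flat
import Cfsg.Agent.Lib.HallGen.SympWreath.Std
import Cfsg.Agent.Lib.Geo.TensorWreath.Even

set_option autoImplicit false
set_option linter.unusedSectionVars false
set_option maxHeartbeats 400000

namespace CfsgLib.HallGen.SympPlus

open Matrix CfsgLib.HallGen.SympWreath CfsgLib.Geo CfsgLib.Geo.SpinTensor CfsgLib.Geo.TensorWreath
open scoped Kronecker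

variable {F : Type*} [Field F] {k t : ℕ} {D : Factor F k}

variable (D) in
/-- The standing hypotheses in characteristic two. -/
structure Hyp2 (X : Subgroup (GL (Fin t → Fin k) F)) : Prop where
  iso : ∀ x ∈ X, adjV D (x : Matrix (Fin t → Fin k) (Fin t → Fin k) F) *
    (x : Matrix (Fin t → Fin k) (Fin t → Fin k) F) = 1
  base : ∀ (i : Fin t) (B : Matrix (Fin k) (Fin k) F), D.Iso B → Mem X (SpinTensor.emb i B)
  perms : 3 ≤ t → ∀ π : Equiv.Perm (Fin t), permGL k F π ∈ X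

variable (D) in
/-- All short root coefficients are scalars. -/
def FlatAll (X : Subgroup (GL (Fin t → Fin k) F)) : Prop :=
  ∀ (i : Fin t) (a b : Fin k → F) (Φ : Matrix (Fin t → Fin k) (Fin t → Fin k) F), a ≠ 0 → D.f a b = 0 →
    b ∉ Submodule.span F {a} → (∀ B : Matrix (Fin k) (Fin k) F, Commute Φ (SpinTensor.emb i B)) →
    Mem X (1 + (Φ * SpinTensor.emb i (D.R a b) + adjV D Φ * SpinTensor.emb i (D.R b a))) →
    ∃ c : F, Φ * SpinTensor.emb i (D.R a b) = c • SpinTensor.emb i (D.R a b)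

variable (D) in
/-- A transvection of the factor. -/
def stv (e : Fin k → F) (c : F) : GL (Fin k) F :=
  trv e (c • (e ᵥ* D.J)) (by rw [smul_dotProduct, show (e ᵥ* D.J) ⬝ᵥ e = 0 from D.f_self e, smul_zero])

theorem stv_val (e : Fin k → F) (c : F) : (stv D e c : Matrix (Fin k) (Fin k) F) = 1 + c • D.R e e := by
  show 1 + Matrix.vecMulVec e (c • (e ᵥ* D.J)) = _
  rw [Matrix.vecMulVec_smul]
  rfl

theorem stv_iso (e : Fin k → F) (c : F) : D.Iso (stv D e c : Matrix (Fin k) (Fin k) F) := by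
  rw [stv_val]; exact D.iso_transv e c

theorem stv_dual {e : Fin k → F} {c : F} (he : e ≠ 0) (hc : c ≠ 0) : c • (e ᵥ* D.J) ≠ 0 :=
  smul_ne_zero hc fun h => he (D.vecMul_J_injective (by rw [h, Matrix.zero_vecMul]))

theorem isSRoot_fac (i : Fin t) {e : Fin k → F} {c : F} (he : e ≠ 0) (hc : c ≠ 0) : IsSRoot D (fac i (stv D e c)) :=
  ⟨i, e, c, he, hc, by rw [val_fac, stv_val]⟩

theorem srootFac {x : GL (Fin t → Fin k) F} (hx : IsSRoot D x) :
    ∃ (i : Fin t) (e : Fin k → F) (c : F), e ≠ 0 ∧ c ≠ 0 ∧ x = fac i (stv D e c) := by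
  obtain ⟨i, e, c, he, hc, ex⟩ := hx
  exact ⟨i, e, c, he, hc, Units.ext (by rw [val_fac, stv_val, ex])⟩

theorem srootRoot {x : GL (Fin t → Fin k) F} (hx : IsSRoot D x) : IsRoot x := by
  obtain ⟨i, e, c, he, hc, rfl⟩ := srootFac hx
  exact isRoot_fac_trv i _ he (stv_dual he hc)

theorem fac_mem {X : Subgroup (GL (Fin t → Fin k) F)} (H : Hyp2 D X) (i : Fin t) (u : GL (Fin k) F)
    (hu : D.Iso (u : Matrix (Fin k) (Fin k) F)) : fac i u ∈ X := by
  obtain ⟨g, hg, eg⟩ := H.base i _ hu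
  rw [show fac i u = g from Units.ext (by rw [val_fac, eg])]
  exact hg

theorem sroot_mem {X : Subgroup (GL (Fin t → Fin k) F)} (H : Hyp2 D X) {x : GL (Fin t → Fin k) F}
    (hx : IsSRoot D x) : x ∈ X := by
  obtain ⟨i, e, c, -, -, rfl⟩ := srootFac hx
  exact fac_mem H i _ (stv_iso e c)

/-- An isometry which is a root is a symplectic root. -/
theorem isSRoot_of_isRoot [NeZero k] {x : GL (Fin t → Fin k) F}
    (hiso : adjV D (x : Matrix (Fin t → Fin k) (Fin t → Fin k) F) * (x : Matrix (Fin t → Fin k) (Fin t → Fin k) F) = 1)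
    (hx : IsRoot x) : IsSRoot D x := by
  obtain ⟨i, v, φ, hφv, hv, hφ, ex⟩ := hx
  rw [rootMat_eq_emb] at ex
  set w := φ ᵥ* D.Ji
  have hwJ : w ᵥ* D.J = φ := by rw [Matrix.vecMul_vecMul, D.inv_mul, Matrix.vecMul_one]
  have hw0 : w ≠ 0 := fun h => hφ (by rw [← hwJ, h, Matrix.zero_vecMul])
  have hR : D.R v w = Matrix.vecMulVec v φ := by rw [Factor.R, hwJ]
  rw [← hR] at ex
  have hwv : D.f w v = 0 := by rw [Factor.f, hwJ]; exact hφv
  have hB : D.Iso (1 + D.R v w) := emb_inj i (by rw [← emb_mul_emb, ← adjV_emb, ← ex, hiso, emb_one])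
  have hsym : D.R v w = D.R w v := by
    have h1 : D.adj (1 + D.R v w) * (1 + D.R v w) = 1 := hB
    rw [D.adj_add, D.adj_one, D.adj_R, add_mul, one_mul, mul_add, mul_one, neg_mul, D.R_mul, D.f_self,
      zero_smul, neg_zero, add_zero, add_assoc, add_eq_left] at h1
    exact eq_of_sub_eq_zero ((sub_eq_add_neg _ _).trans h1)
  obtain ⟨z, hz⟩ := D.nondeg hw0
  have hv' : v = D.f v z • w := by
    have h1 := congrArg (· *ᵥ z) hsym
    simpa [D.R_mulVec, hz] using h1
  refine ⟨i, w, D.f v z, hw0, fun h => hv (by rw [hv', h, zero_smul]), ?_⟩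
  rw [ex, hv', D.R_smul_left, ← hv']

theorem mem_map_one {X : Subgroup (GL (Fin (t + 1) → Fin k) F)} (H : Hyp2 D X) (i : Fin (t + 1))
    (B : Matrix (Fin k) (Fin k) F) (hB : D.Iso B) :
    Mem (X.map (spGL i).toMonoidHom) ((1 : Matrix (Fin t → Fin k) (Fin t → Fin k) F) ⊗ₖ B) := by
  rw [← sub_emb i]
  exact (mem_map_sub i).2 (H.base i B hB)

namespace Hyp2

variable {X : Subgroup (GL (Fin (t + 1) → Fin k) F)} (H : Hyp2 D X)
include H

theorem comap (i : Fin (t + 1)) [NeZero k] : Hyp2 D (X.comap (upGL i)) where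
  iso A hA := upM_injective i (by
    rw [map_mul, ← adjV_upM, map_one]
    have h := H.iso _ (Subgroup.mem_comap.1 hA)
    rw [upGL_val] at h
    exact h)
  base j B hB := by
    obtain ⟨g, hg, eg⟩ := H.base (i.succAbove j) B hB
    refine ⟨fac j ⟨B, D.adj B, hB.mul_adj, hB⟩, ?_, by rw [val_fac]⟩
    show upGL i _ ∈ X
    rw [show upGL i (fac j ⟨B, D.adj B, hB.mul_adj, hB⟩) = g from Units.ext (by rw [upGL_val, val_fac, upM_emb, eg])]
    exact hg
  perms ht π := by
    show upGL i (permGL k F π) ∈ X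
    have h1 := upGL_std (F := F) i (1 : Fin t → GL (Fin k) F) π
    rw [pureGL_one, one_mul] at h1
    have h2 : (Fin.insertNth (α := fun _ : Fin (t + 1) => GL (Fin k) F) i 1 (1 : Fin t → GL (Fin k) F)) = 1 := by
      funext l
      rcases Fin.eq_self_or_eq_succAbove i l with rfl | ⟨j, rfl⟩ <;> simp
    rw [h1, h2, pureGL_one, one_mul]
    exact H.perms (by omega) _

theorem flatAll_comap (i : Fin (t + 1)) [NeZero k] (hX : FlatAll D X) : FlatAll D (X.comap (upGL i)) := by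
  intro j a b Φ ha hab hb hΦ hm
  obtain ⟨A, hA, eA⟩ := hm
  obtain ⟨c, hc⟩ := hX (i.succAbove j) a b (upM i Φ) ha hab hb
    (fun B => by rw [← upM_emb]; exact (hΦ B).map (upM i))
    ⟨upGL i A, hA, by rw [upGL_val, eA, adjV_upM, map_add, map_one, map_add, map_mul, map_mul, upM_emb, upM_emb]⟩
  exact ⟨c, upM_injective i (by rw [map_mul, map_smul, upM_emb, hc])⟩

theorem flat (hk : 5 ≤ k) (hX : FlatAll D X) (i : Fin (t + 1)) :
    Flat D (outerT D t) (X.map (spGL i).toMonoidHom) where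
  big := hk
  iso := by
    rintro - ⟨g, hg, rfl⟩
    rw [MulEquiv.coe_toMonoidHom, spGL_val, adjP_sub, ← sub_mul_sub, H.iso g hg, sub_one]
  base := mem_map_one H i
  short a b θ ha hab hb hm := by
    rw [SH, ← sub_upM_mul_emb i θ, ← sub_upM_mul_emb i ((outerT D t).adj θ), ← sub_one i,
      ← show ∀ M N : Matrix (Fin (t + 1) → Fin k) (Fin (t + 1) → Fin k) F,
        (M + N).submatrix (sp i) (sp i) = M.submatrix (sp i) (sp i) + N.submatrix (sp i) (sp i) from
          fun _ _ => rfl,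
      ← show ∀ M N : Matrix (Fin (t + 1) → Fin k) (Fin (t + 1) → Fin k) F,
        (M + N).submatrix (sp i) (sp i) = M.submatrix (sp i) (sp i) + N.submatrix (sp i) (sp i) from
          fun _ _ => rfl] at hm
    obtain ⟨c, hc⟩ := hX i a b (upM i θ) ha hab hb (upM_comm i θ) (by rw [adjV_upM]; exact (mem_map_sub i).1 hm)
    have hb0 : b ≠ 0 := fun h => hb (by rw [h]; exact Submodule.zero_mem _)
    refine ⟨c, coeff_injective (D := D) ha hb0 ?_⟩
    have h1 := congrArg (fun M : Matrix (Fin (t + 1) → Fin k) (Fin (t + 1) → Fin k) F =>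
      M.submatrix (sp i) (sp i)) hc
    simp only [sub_upM_mul_emb] at h1
    rw [h1, Matrix.smul_kronecker, ← sub_emb i]
    rfl

end Hyp2

variable (D) in
/-- What is used about an overgroup with scalar short root coefficients. -/
structure Ctx2 (X : Subgroup (GL (Fin (t + 1) → Fin k) F)) : Prop where
  big : 6 ≤ k
  hyp : Hyp2 D X
  root_map : ∀ y ∈ X, ∀ r, IsSRoot D r → IsSRoot D (y * r * y⁻¹) → IsStd y
  inv : ∀ y ∈ X, ∀ (i : Fin (t + 1)) (B : GL (Fin k) F), B * B = 1 → B ≠ 1 → Commute y (fac i B) → IsStd y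

/-- Kronecker products with invertible factors. -/
theorem kron_units {α : Type} [Fintype α] [DecidableEq α] [Nonempty α] [NeZero k] {g : GL (α × Fin k) F}
    {A : Matrix α α F} {B : Matrix (Fin k) (Fin k) F} (e : (g : Matrix (α × Fin k) (α × Fin k) F) = A ⊗ₖ B) :
    ∃ (A' : GL α F) (B' : GL (Fin k) F),
      (g : Matrix (α × Fin k) (α × Fin k) F) = (A' : Matrix α α F) ⊗ₖ (B' : Matrix (Fin k) (Fin k) F) := by
  have hdet : IsUnit (A ⊗ₖ B).det := by
    rw [← e]; exact (Matrix.isUnit_iff_isUnit_det _).1 g.isUnit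
  rw [Matrix.det_kronecker, IsUnit.mul_iff, isUnit_pow_iff Fintype.card_ne_zero, isUnit_pow_iff Fintype.card_ne_zero]
    at hdet
  exact ⟨((Matrix.isUnit_iff_isUnit_det A).2 hdet.1).unit, ((Matrix.isUnit_iff_isUnit_det B).2 hdet.2).unit, e⟩

namespace Hyp2

variable [Fintype F] [CharP F 2] {X : Subgroup (GL (Fin (t + 1) → Fin k) F)} (H : Hyp2 D X) (hk : 6 ≤ k)
  (hX : FlatAll D X) (IH : ∀ Y : Subgroup (GL (Fin t → Fin k) F), Hyp2 D Y → FlatAll D Y → ∀ y ∈ Y, IsStd y)
include H hk hX IH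

/-- A Kronecker element of the group is standard. -/
theorem isStd_of_kr {i : Fin (t + 1)} {y : GL (Fin (t + 1) → Fin k) F} (hy : y ∈ X)
    {A : Matrix (Fin t → Fin k) (Fin t → Fin k) F} {B : Matrix (Fin k) (Fin k) F}
    (e : (spGL i y : Matrix ((Fin t → Fin k) × Fin k) ((Fin t → Fin k) × Fin k) F) = A ⊗ₖ B) : IsStd y := by
  classical
  haveI : NeZero k := ⟨by omega⟩
  haveI : Nonempty (Fin t → Fin k) := ⟨fun _ => 0⟩
  obtain ⟨A', B', e⟩ := kron_units e
  have h1 : adjP D (outerT D t) (spGL i y : Matrix ((Fin t → Fin k) × Fin k) ((Fin t → Fin k) × Fin k) F) *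
      (spGL i y : Matrix ((Fin t → Fin k) × Fin k) ((Fin t → Fin k) × Fin k) F) = 1 := by
    rw [spGL_val, adjP_sub, ← sub_mul_sub, H.iso y hy, sub_one]
  rw [e, adjP_kronecker, ← Matrix.mul_kronecker_mul] at h1
  set P := (outerT D t).adj (A' : Matrix (Fin t → Fin k) (Fin t → Fin k) F) *
    (A' : Matrix (Fin t → Fin k) (Fin t → Fin k) F)
  set Q := D.adj (B' : Matrix (Fin k) (Fin k) F) * (B' : Matrix (Fin k) (Fin k) F)
  obtain ⟨a⟩ := ‹Nonempty (Fin t → Fin k)›
  have hQ : ∀ p q, P a a * Q p q = if p = q then 1 else 0 := fun p q => by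
    have h3 := congrFun (congrFun h1 (a, p)) (a, q)
    rw [Matrix.kroneckerMap_apply, Matrix.one_apply] at h3
    simp only [Prod.mk.injEq, true_and] at h3
    exact h3
  have hμ : P a a ≠ 0 := fun h => by
    have := hQ 0 0
    rw [h, zero_mul, if_pos rfl] at this
    exact zero_ne_one this
  obtain ⟨s, hs⟩ := FiniteField.isSquare_of_char_two (ringChar.eq F 2) (P a a)
  have hs0 : s ≠ 0 := fun h => hμ (by rw [hs, h, mul_zero])
  set u : GL (Fin k) F := ⟨s • (B' : Matrix (Fin k) (Fin k) F), s⁻¹ • ((B'⁻¹ : GL (Fin k) F) : Matrix (Fin k) (Fin k) F),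
    by rw [smul_mul_smul_comm, mul_inv_cancel₀ hs0, one_smul, Units.mul_inv],
    by rw [smul_mul_smul_comm, inv_mul_cancel₀ hs0, one_smul, Units.inv_mul]⟩
  have hu : D.Iso (u : Matrix (Fin k) (Fin k) F) := by
    show D.adj (s • (B' : Matrix (Fin k) (Fin k) F)) * (s • (B' : Matrix (Fin k) (Fin k) F)) = 1
    rw [D.adj_smul, smul_mul_smul_comm, ← hs]
    ext p q
    rw [Matrix.smul_apply, Matrix.one_apply, smul_eq_mul]
    exact hQ p q
  set A'' : GL (Fin t → Fin k) F :=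
    ⟨s⁻¹ • (A' : Matrix (Fin t → Fin k) (Fin t → Fin k) F),
    s • ((A'⁻¹ : GL (Fin t → Fin k) F) : Matrix (Fin t → Fin k) (Fin t → Fin k) F),
    by rw [smul_mul_smul_comm, inv_mul_cancel₀ hs0, one_smul, Units.mul_inv],
    by rw [smul_mul_smul_comm, mul_inv_cancel₀ hs0, one_smul, Units.inv_mul]⟩
  have e' : (spGL i y : Matrix ((Fin t → Fin k) × Fin k) ((Fin t → Fin k) × Fin k) F) =
      (A'' : Matrix (Fin t → Fin k) (Fin t → Fin k) F) ⊗ₖ (u : Matrix (Fin k) (Fin k) F) := by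
    show _ = (s⁻¹ • (A' : Matrix (Fin t → Fin k) (Fin t → Fin k) F)) ⊗ₖ (s • (B' : Matrix (Fin k) (Fin k) F))
    rw [Matrix.smul_kronecker, Matrix.kronecker_smul, smul_smul, inv_mul_cancel₀ hs0, one_smul, e]
  refine isStd_of_kronecker e' ?_
  have hyeq : upGL i A'' = y * (fac i u)⁻¹ := by
    rw [eq_mul_inv_iff_mul_eq]
    refine (spGL i).injective (Units.ext ?_)
    rw [map_mul, Units.val_mul, spGL_val, spGL_val, upGL_val, sub_upM, val_fac, sub_emb, ← Matrix.mul_kronecker_mul,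
      mul_one, one_mul, e']
  refine IH _ (H.comap i) (H.flatAll_comap i hX) A'' (Subgroup.mem_comap.2 ?_)
  rw [hyeq]
  exact X.mul_mem hy (X.inv_mem (fac_mem H i u hu))

/-- The consequences hold. -/
theorem ctx_of : Ctx2 D X := by
  classical
  haveI : NeZero k := ⟨by omega⟩
  haveI : Nonempty (Fin t → Fin k) := ⟨fun _ => 0⟩
  refine ⟨hk, H, ?_, fun y hy i B hBB hB1 hc => ?_⟩
  swap
  · have C := H.flat (by omega) hX i
    obtain ⟨A, B', hAB⟩ := C.kronecker_of_commute (M := (spGL i y : Matrix ((Fin t → Fin k) × Fin k) ((Fin t → Fin k) × Fin k) F))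
      ⟨spGL i y, Subgroup.mem_map_of_mem _ hy, rfl⟩ (B := (B : Matrix (Fin k) (Fin k) F))
      (by rw [← Units.val_mul, hBB, Units.val_one]) (fun h => hB1 (Units.ext h)) (by
        show _ = _
        rw [← sub_emb i, spGL_val, ← sub_mul_sub, ← sub_mul_sub, ← val_fac, ← Units.val_mul, hc.eq, Units.val_mul])
    exact H.isStd_of_kr hk hX IH hy hAB
  intro y hy r hr hr'
  rcases Nat.eq_zero_or_pos t with rfl | ht
  · exact isStd_fin_one y
  obtain ⟨j, e, c, he, hc, er⟩ := hr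
  obtain ⟨i, w, d, hw, hd, eyr⟩ := hr'
  set h₁ : GL (Fin (t + 1) → Fin k) F := permGL k F (Equiv.swap i j)
  set y₁ := y * h₁
  have hh : ∀ B, (h₁ : Matrix (Fin (t + 1) → Fin k) (Fin (t + 1) → Fin k) F) * SpinTensor.emb i B =
      SpinTensor.emb j B * (h₁ : Matrix (Fin (t + 1) → Fin k) (Fin (t + 1) → Fin k) F) := fun B => by
    show perm _ * _ = _ * perm _
    conv_rhs => rw [← Equiv.swap_apply_left i j, ← perm_mul_emb (Equiv.swap i j) i B]
    rw [Equiv.swap_apply_left, mul_assoc (perm _ * _), perm_mul, inv_mul_cancel, perm_one, mul_one]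
  set Y₁ := (y₁ : Matrix (Fin (t + 1) → Fin k) (Fin (t + 1) → Fin k) F) with hY₁
  have hiso₁ : adjV D Y₁ * Y₁ = 1 := by
    rw [hY₁, Units.val_mul, show adjV D (_ * _) = _ from (outerT D (t + 1)).adj_mul _ _, mul_assoc,
      ← mul_assoc (adjV D (y : Matrix (Fin (t + 1) → Fin k) (Fin (t + 1) → Fin k) F)), H.iso y hy, one_mul]
    show adjV D (perm _) * perm _ = 1
    rw [adjV_perm, perm_mul, inv_mul_cancel, perm_one]
  set Z := (spGL i y₁ : Matrix ((Fin t → Fin k) × Fin k) ((Fin t → Fin k) × Fin k) F) with hZ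
  have hM : Mov D (outerT D t) (X.map (spGL i).toMonoidHom) Z := by
    refine ⟨by rw [hZ, spGL_val, adjP_sub, ← sub_mul_sub, hiso₁, sub_one], fun B hB => ?_⟩
    rw [hZ, spGL_val, adjP_sub, ← sub_emb i, ← sub_mul_sub, ← sub_mul_sub, mem_map_sub]
    obtain ⟨g, hg, eg⟩ := H.base j B hB
    refine ⟨y * g * y⁻¹, X.mul_mem (X.mul_mem hy hg) (X.inv_mem hy), ?_⟩
    have h5 : Y₁ * SpinTensor.emb i B = ((y * g : GL (Fin (t + 1) → Fin k) F) :
        Matrix (Fin (t + 1) → Fin k) (Fin (t + 1) → Fin k) F) *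
        (h₁ : Matrix (Fin (t + 1) → Fin k) (Fin (t + 1) → Fin k) F) := by
      rw [hY₁, Units.val_mul, Units.val_mul, mul_assoc, hh, eg, mul_assoc]
    rw [show adjV D Y₁ = ((y₁⁻¹ : GL (Fin (t + 1) → Fin k) F) : Matrix (Fin (t + 1) → Fin k) (Fin (t + 1) → Fin k) F)
      from left_inv_eq_right_inv hiso₁ (Units.mul_inv y₁), h5, ← Units.val_mul, ← Units.val_mul]
    congr 1
    simp only [y₁]
    group
  have hmain : Y₁ * SpinTensor.emb i (c • D.R e e) = SpinTensor.emb i (d • D.R w w) * Y₁ := by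
    have h3 : ((y * r * y⁻¹ : GL (Fin (t + 1) → Fin k) F) : Matrix (Fin (t + 1) → Fin k) (Fin (t + 1) → Fin k) F) *
        (y : Matrix (Fin (t + 1) → Fin k) (Fin (t + 1) → Fin k) F) =
        (y : Matrix (Fin (t + 1) → Fin k) (Fin (t + 1) → Fin k) F) * (r : Matrix (Fin (t + 1) → Fin k) (Fin (t + 1) → Fin k) F) := by
      rw [← Units.val_mul, ← Units.val_mul, inv_mul_cancel_right]
    rw [eyr, er] at h3
    simp only [map_add, emb_one, mul_add, mul_one, add_mul, one_mul, add_right_inj] at h3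
    rw [hY₁, Units.val_mul, mul_assoc, hh, ← mul_assoc, ← h3, mul_assoc]
  have h4 := congrArg (fun M : Matrix (Fin (t + 1) → Fin k) (Fin (t + 1) → Fin k) F =>
    M.submatrix (sp i) (sp i)) hmain
  simp only [sub_mul_sub, sub_emb, hY₁, ← spGL_val, Matrix.kronecker_smul, ← inc_out, Matrix.mul_one] at h4
  rw [← hZ] at h4
  obtain ⟨f, hf⟩ := D.nondeg he
  have h6 : Z * inc (Fin t → Fin k) e =
      inc (Fin t → Fin k) w * ((c⁻¹ * d) • (out D (Fin t → Fin k) w * (Z * inc (Fin t → Fin k) f))) := by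
    have h5 := congrArg (· * inc (Fin t → Fin k) f) h4
    simp only [Matrix.mul_smul, Matrix.smul_mul, Matrix.mul_assoc, out_inc, hf, one_smul, Matrix.mul_one] at h5
    rw [Matrix.mul_smul, ← smul_smul, ← h5, inv_smul_smul₀ hc]
  obtain ⟨B, hB⟩ := (H.flat (by omega) hX i).kronecker_big hM (by omega) he h6
  suffices IsStd y₁ from IsStd.of_mul_right (isStd_permGL _) this
  by_cases ht2 : 2 ≤ t
  · exact H.isStd_of_kr hk hX IH (X.mul_mem hy (H.perms (by omega) _)) hB
  obtain ⟨A', B', e'⟩ := kron_units hB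
  refine isStd_of_kronecker e' ?_
  obtain rfl : t = 1 := by omega
  exact isStd_fin_one A'

end Hyp2

end CfsgLib.HallGen.SympPlus
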