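/-
Characteristic two: a non-scalar short root coefficient gives all of `Ω`.
-/
import Cfsg.Agent.Lib.HallGen.SympPlus.EvenExtract
import Cfsg.Agent.Lib.HallGen.SympPlus.EvenRoots

set_option autoImplicit false
set_option linter.unusedSectionVars false
set_option maxHeartbeats 400000

namespace CfsgLib.HallGen.SympPlus

open Matrix CfsgLib.HallGen.SympWreath CfsgLib.Geo CfsgLib.Geo.SpinTensor CfsgLib.Geo.TensorWreath
open scoped Kronecker
open QuadraticMap (polar)

variable {F : Type*} [Field F] [CharP F 2] {k t : ℕ} {D : Factor F k}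
  {X : Subgroup (GL (Fin (t + 1) → Fin k) F)}

/-- Conjugation of a short root block. -/
theorem Hyp2.conj_SH (H : Hyp2 D X) (i : Fin (t + 1)) {A θ : Matrix (Fin t → Fin k) (Fin t → Fin k) F}
    {B : Matrix (Fin k) (Fin k) F} (hB : D.Iso B) (hA : Mem (X.map (spGL i).toMonoidHom) (A ⊗ₖ B))
    {a b : Fin k → F} (h : Mem (X.map (spGL i).toMonoidHom) (1 + SH D (outerT D t) a b θ)) :
    Mem (X.map (spGL i).toMonoidHom)
      (1 + SH D (outerT D t) (B *ᵥ a) (B *ᵥ b) (A * θ * (outerT D t).adj A)) := by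
  have hinv : adjP D (outerT D t) (A ⊗ₖ B) * (A ⊗ₖ B) = 1 := by
    obtain ⟨x, ⟨g, hg, rfl⟩, e⟩ := hA
    rw [← e, MulEquiv.coe_toMonoidHom, spGL_val, adjP_sub, ← sub_mul_sub, H.iso g hg, sub_one]
  have h1 := (hA.mul h).mul (hA.left_inv hinv)
  rw [mul_add, mul_one, add_mul, show (A ⊗ₖ B) * adjP D (outerT D t) (A ⊗ₖ B) = 1 from mul_eq_one_comm.1 hinv, SH,
    mul_add, add_mul, conj_kronecker hB, conj_kronecker hB] at h1
  rw [SH]
  convert h1 using 4
  rw [Outer.adj_mul, Outer.adj_mul, Outer.adj_adj, mul_assoc]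

/-- The short root coefficients of one factor. -/
def shCoeff (H : Hyp2 D X) (i : Fin (t + 1)) : Submodule F (Matrix (Fin t → Fin k) (Fin t → Fin k) F) where
  carrier := {θ | ∀ a b : Fin k → F, a ≠ 0 → D.f a b = 0 → b ∉ Submodule.span F {a} →
    Mem (X.map (spGL i).toMonoidHom) (1 + SH D (outerT D t) a b θ)}
  zero_mem' a b _ _ _ := by rw [SH_zero, add_zero]; exact mem_one
  add_mem' {θ τ} hθ hτ a b ha hab hb := by
    have h := (hθ a b ha hab hb).mul (hτ a b ha hab hb)
    rwa [mul_add, mul_one, add_mul, one_mul, SH_mul_SH hab, add_zero, add_assoc, ← SH_add] at h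
  smul_mem' c θ hθ a b ha hab hb := by
    by_cases hc : c = 0
    · rw [hc, zero_smul, SH_zero, add_zero]; exact mem_one
    have h := hθ a (c • b) ha (by rw [D.f_smul_right, hab, mul_zero]) fun hm => hb (by
      have := Submodule.smul_mem _ c⁻¹ hm
      rwa [inv_smul_smul₀ hc] at this)
    rwa [SH_smul_right] at h

variable (H : Hyp2 D X) {i : Fin (t + 1)}
include H

theorem shCoeff_of_one {a b : Fin k → F} (ha : a ≠ 0) (hab : D.f a b = 0) (hb : b ∉ Submodule.span F {a})
    {θ : Matrix (Fin t → Fin k) (Fin t → Fin k) F}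
    (h : Mem (X.map (spGL i).toMonoidHom) (1 + SH D (outerT D t) a b θ)) : θ ∈ shCoeff H i := by
  intro a' b' ha' hab' hb'
  obtain ⟨B, hB, rfl, rfl⟩ := exists_iso_pair ha ha' hab hab' hb hb'
  have h1 := H.conj_SH i hB (mem_map_one H i B hB) h
  rwa [Outer.adj_one, Matrix.one_mul, Matrix.mul_one] at h1

theorem shCoeff_inv : Inv D (shCoeff H i) := by
  intro j B hB θ hθ a b ha hab hb
  have hA : Mem (X.map (spGL i).toMonoidHom) (SpinTensor.emb j B ⊗ₖ (1 : Matrix (Fin k) (Fin k) F)) := by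
    rw [← sub_emb_succAbove i j B]
    exact (mem_map_sub i).2 (H.base (i.succAbove j) B hB)
  have h := H.conj_SH i D.iso_one hA (hθ a b ha hab hb)
  rwa [Matrix.one_mulVec, Matrix.one_mulVec, show (outerT D t).adj (SpinTensor.emb j B) = SpinTensor.emb j (D.adj B) from
    adjV_emb j B] at h

theorem shCoeff_perm (π : Equiv.Perm (Fin t)) {g : Fin t → Matrix (Fin k) (Fin k) F}
    (hg : SpinTensor.pure g ∈ shCoeff H i) : SpinTensor.pure (fun l => g (π⁻¹ l)) ∈ shCoeff H i := by
  rcases Nat.lt_or_ge t 2 with ht | ht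
  · convert hg using 2
    funext l
    rw [show π⁻¹ l = l from Fin.ext (by omega)]
  intro a b ha hab hb
  have hA : Mem (X.map (spGL i).toMonoidHom) (perm π ⊗ₖ (1 : Matrix (Fin k) (Fin k) F)) := by
    rw [← sub_upM i (perm π)]
    refine (mem_map_sub i).2 ⟨upGL i (permGL k F π), ?_, upGL_val i _⟩
    have h1 := upGL_std (F := F) i (1 : Fin t → GL (Fin k) F) π
    rw [pureGL_one, one_mul] at h1
    have h2 : (Fin.insertNth (α := fun _ : Fin (t + 1) => GL (Fin k) F) i 1 (1 : Fin t → GL (Fin k) F)) = 1 := by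
      funext l
      rcases Fin.eq_self_or_eq_succAbove i l with rfl | ⟨j, rfl⟩ <;> simp
    rw [h1, h2, pureGL_one, one_mul]
    exact H.perms (by omega) _
  have h := H.conj_SH i D.iso_one hA (hg a b ha hab hb)
  rwa [Matrix.one_mulVec, Matrix.one_mulVec, show (outerT D t).adj (perm π) = perm π⁻¹ from adjV_perm π,
    perm_mul_pure, mul_assoc, perm_mul, mul_inv_cancel, perm_one, mul_one] at h

/-- The short root coefficients form an algebra. -/
theorem shCoeff_mul (hk : 6 ≤ k) {θ τ : Matrix (Fin t → Fin k) (Fin t → Fin k) F} (hθ : θ ∈ shCoeff H i)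
    (hτ : τ ∈ shCoeff H i) : θ * τ ∈ shCoeff H i := by
  haveI : NeZero k := ⟨by omega⟩
  set a : Fin k → F := Pi.single 0 1
  have ha : a ≠ 0 := Function.ne_iff.2 ⟨0, by simp [a]⟩
  obtain ⟨b, hab, hb⟩ := exists_perp_notMem (D := D) (by omega) a
  obtain ⟨b', hab', hbb'⟩ := D.exists_partner hb
  obtain ⟨a', haa'⟩ := D.nondeg ha
  obtain ⟨c, hc0, hc⟩ := CfsgLib.Geo.TensorLinear.exists_perp ![a ᵥ* D.J, b ᵥ* D.J, b' ᵥ* D.J, a' ᵥ* D.J]
    (show 4 < Fintype.card (Fin k) by rw [Fintype.card_fin]; omega)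
  have hac : D.f a c = 0 := by rw [Factor.f, dotProduct_comm]; exact hc 0
  have hbc : D.f b c = 0 := by rw [Factor.f, dotProduct_comm]; exact hc 1
  have hb'c : D.f b' c = 0 := by rw [Factor.f, dotProduct_comm]; exact hc 2
  have ha'c : D.f a' c = 0 := by rw [Factor.f, dotProduct_comm]; exact hc 3
  have hcs : c ∉ Submodule.span F {a} := fun hm => by
    obtain ⟨s, rfl⟩ := Submodule.mem_span_singleton.1 hm
    rw [D.f_smul_right, f_comm a' a, haa', mul_one] at ha'c
    exact hc0 (by rw [ha'c, zero_smul])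
  have hb'0 : b' ≠ 0 := fun h0 => by rw [h0, D.f_zero_right] at hbb'; exact zero_ne_one hbb'
  have hcb' : c ∉ Submodule.span F {b'} := fun hm => by
    obtain ⟨s, rfl⟩ := Submodule.mem_span_singleton.1 hm
    rw [D.f_smul_right, hbb', mul_one] at hbc
    exact hc0 (by rw [hbc, zero_smul])
  refine shCoeff_of_one H ha hac hcs ?_
  have hM := hθ a b ha hab hb
  have hN := hτ b' c hb'0 hb'c hcb'
  have hba : D.f b a = 0 := by rw [f_comm, hab]
  have hb'a : D.f b' a = 0 := by rw [f_comm, hab']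
  have hca : D.f c a = 0 := by rw [f_comm, hac]
  have hcb : D.f c b = 0 := by rw [f_comm, hbc]
  have hb'b : D.f b' b = 1 := by rw [f_comm, hbb']
  have h1 := hM.comm_sq hN (SH_mul_SH hab _ _) (SH_mul_SH hb'c _ _)
  convert h1 using 1
  simp only [SH, Outer.adj_mul, mul_add, add_mul, kr_mul, D.f_self, hab, hba, hab', hb'a, hac, hca, hbc, hcb, hb'c,
    hbb', hb'b, zero_smul, one_smul, add_zero, zero_add, sub_eq_add_neg, mat_neg, smul_zero, zero_mul]
  abel

/-- A non-scalar short root coefficient gives a monomial. -/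
theorem exists_monom_coeff [Fintype F] (hk : 6 ≤ k) {θ : Matrix (Fin t → Fin k) (Fin t → Fin k) F}
    (hθ : θ ∈ shCoeff H i) (hns : ¬ ∃ c : F, θ = c • 1) :
    ∃ (s : Finset (Fin t)) (w : Fin t → Fin k → F), s.Nonempty ∧ (∀ l, w l ≠ 0) ∧ monom D s w ∈ shCoeff H i := by
  classical
  haveI : NeZero k := ⟨by omega⟩
  obtain ⟨s, rfl⟩ : ∃ s, t = s + 1 := by
    refine ⟨t - 1, ?_⟩
    rcases Nat.eq_zero_or_pos t with rfl | h
    · exact absurd (eq_smul_of_commute D (Φ := θ) fun l => l.elim0) hns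
    · omega
  obtain ⟨g, -, hg2, hg3, hg4⟩ := exists_short_pure (D := D) hk Finset.univ (shCoeff_inv H) hθ
    (fun h0 => hns ⟨0, by rw [h0, zero_smul]⟩) fun l hl => absurd (Finset.mem_univ l) hl
  have hl : ∀ l, ∃ (B B' : Matrix (Fin k) (Fin k) F) (w : Fin k → F), D.Iso B ∧ D.Iso B' ∧ w ≠ 0 ∧
      g l * (B * g l * D.adj B) * (B' * (g l * (B * g l * D.adj B)) * D.adj B') =
        if g l = 1 then 1 else D.R w w := by
    intro l
    by_cases h1 : g l = 1
    · exact ⟨1, 1, Pi.single 0 1, D.iso_one, D.iso_one, Function.ne_iff.2 ⟨0, by simp⟩, by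
        rw [if_pos h1, h1, D.adj_one]; simp⟩
    obtain ⟨x, y, hx, hyx, hxy, e⟩ := (hg2 l).resolve_left h1
    obtain ⟨y', hxy', hyy'⟩ := D.exists_partner hyx
    obtain ⟨x', hxx'⟩ := D.nondeg hx
    obtain ⟨z, hz0, hz⟩ := CfsgLib.Geo.TensorLinear.exists_perp ![x ᵥ* D.J, y ᵥ* D.J, y' ᵥ* D.J, x' ᵥ* D.J]
      (show 4 < Fintype.card (Fin k) by rw [Fintype.card_fin]; omega)
    have hxz : D.f x z = 0 := by rw [Factor.f, dotProduct_comm]; exact hz 0
    have hyz : D.f y z = 0 := by rw [Factor.f, dotProduct_comm]; exact hz 1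
    have hy'z : D.f y' z = 0 := by rw [Factor.f, dotProduct_comm]; exact hz 2
    have hx'z : D.f x' z = 0 := by rw [Factor.f, dotProduct_comm]; exact hz 3
    have hy'0 : y' ≠ 0 := fun h0 => by rw [h0, D.f_zero_right] at hyy'; exact zero_ne_one hyy'
    have hzy' : z ∉ Submodule.span F {y'} := fun hm => by
      obtain ⟨c, rfl⟩ := Submodule.mem_span_singleton.1 hm
      rw [D.f_smul_right, hyy', mul_one] at hyz
      exact hz0 (by rw [hyz, zero_smul])
    have hzx : z ∉ Submodule.span F {x} := fun hm => by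
      obtain ⟨c, rfl⟩ := Submodule.mem_span_singleton.1 hm
      rw [D.f_smul_right, f_comm x' x, hxx', mul_one] at hx'z
      exact hz0 (by rw [hx'z, zero_smul])
    obtain ⟨u, hxu, hzu⟩ := D.exists_partner hzx
    have hu0 : u ≠ 0 := fun h0 => by rw [h0, D.f_zero_right] at hzu; exact zero_ne_one hzu
    have hxu' : x ∉ Submodule.span F {u} := fun hm => by
      obtain ⟨c, rfl⟩ := Submodule.mem_span_singleton.1 hm
      rw [D.f_smul_left, f_comm u z, hzu, mul_one] at hxz
      exact hx (by rw [hxz, zero_smul])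
    obtain ⟨B, hB, hBx, hBy⟩ := exists_iso_pair (D := D) hx hy'0 hxy hy'z hyx hzy'
    obtain ⟨B', hB', hB'x, hB'z⟩ := exists_iso_pair (D := D) hx hu0 hxz (by rw [f_comm, hxu]) hzx hxu'
    refine ⟨B, B', x, hB, hB', hx, ?_⟩
    have hM : g l * (B * g l * D.adj B) = D.R x z := by
      rw [e, mul_add B, add_mul _ _ (D.adj B), hB.mul_R_mul, hB.mul_R_mul, hBx, hBy]
      simp [add_mul, mul_add, D.R_mul, hxy', hyy', hxz, hyz]
    rw [if_neg h1, hM, hB'.mul_R_mul, hB'x, hB'z, D.R_mul, hzu, one_smul]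
  choose B B' w hB hB' hw e using hl
  obtain ⟨l₀, hl₀⟩ := hg4 hns
  refine ⟨Finset.univ.filter fun l => g l ≠ 1, w, ⟨l₀, by simp [hl₀]⟩, hw, ?_⟩
  have h1 := shCoeff_mul H hk hg3 ((shCoeff_inv H).pure_conj hB hg3)
  rw [pure_mul] at h1
  have h2 := shCoeff_mul H hk h1 ((shCoeff_inv H).pure_conj hB' h1)
  rw [pure_mul] at h2
  convert h2 using 1
  rw [monom]
  congr 1
  funext l
  rw [e]
  by_cases h : g l = 1 <;> simp [h]

/-- Monomials on the union. -/
theorem monom_union_coeff (hk : 6 ≤ k) {s s' : Finset (Fin t)}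
    (hs : ∀ ξ : Fin t → Fin k → F, (∀ l, ξ l ≠ 0) → monom D s ξ ∈ shCoeff H i)
    (hs' : ∀ ξ : Fin t → Fin k → F, (∀ l, ξ l ≠ 0) → monom D s' ξ ∈ shCoeff H i)
    {ξ : Fin t → Fin k → F} (hξ : ∀ l, ξ l ≠ 0) : monom D (s ∪ s') ξ ∈ shCoeff H i := by
  classical
  haveI : NeZero k := ⟨by omega⟩
  set e : Fin k → F := Pi.single 0 1
  have he : e ≠ 0 := Function.ne_iff.2 ⟨0, by simp [e]⟩
  obtain ⟨f, hf⟩ := D.nondeg he
  have hfe : D.f f e = 1 := by rw [f_comm, hf]
  have hf0 : f ≠ 0 := fun h0 => by rw [h0, D.f_zero_right] at hf; exact zero_ne_one hf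
  have hef : e + f ≠ 0 := fun h0 => by
    have := congrArg (D.f e) h0
    rw [D.f_add_right, D.f_self, hf, zero_add, D.f_zero_right] at this
    exact one_ne_zero this
  have h := shCoeff_mul H hk (shCoeff_mul H hk (shCoeff_mul H hk (shCoeff_mul H hk (shCoeff_mul H hk
    (hs _ fun _ => he) (hs' _ fun _ => hf0)) (hs _ fun _ => hef)) (hs' _ fun _ => he)) (hs' _ fun _ => hf0))
    (hs _ fun _ => he)
  set w : Fin t → Fin k → F := fun l => if l ∈ s then e else f
  refine (shCoeff_inv H).monom_move (ξ := w) (fun l _ => ?_) (fun l _ => hξ l) ?_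
  · simp only [w]; split_ifs <;> assumption
  convert h using 1
  simp only [monom, pure_mul]
  congr 1
  funext l
  by_cases h1 : l ∈ s <;> by_cases h2 : l ∈ s' <;>
    simp [w, h1, h2, D.R_mul, D.f_add_left, D.f_add_right, D.f_self, hf, hfe]

/-- **A non-scalar short root coefficient gives all of `Ω`.** -/
theorem oneOrth_of_not_flat [Fintype F] {Q : QuadraticForm F ((Fin (t + 1) → Fin k) → F)} (S : Space D Q)
    (hX : X ≤ Cfsg.isometryGroup F (⇑Q)) (hk : 6 ≤ k) (hX' : ¬ FlatAll D X) : OneOrth S (kOf Q X) := by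
  classical
  haveI : NeZero k := ⟨by omega⟩
  simp only [FlatAll] at hX'
  push Not at hX'
  obtain ⟨i, a, b, Φ, ha, hab, hb, hcomm, hmem, hns⟩ := hX'
  obtain ⟨θ, rfl⟩ := exists_upM D i hcomm
  have hθ : θ ∈ shCoeff H i := shCoeff_of_one H ha hab hb (by
    have h := (mem_map_sub i).2 hmem
    rwa [show ∀ M N : Matrix (Fin (t + 1) → Fin k) (Fin (t + 1) → Fin k) F,
        (M + N).submatrix (sp i) (sp i) = M.submatrix (sp i) (sp i) + N.submatrix (sp i) (sp i) from fun _ _ => rfl,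
      show ∀ M N : Matrix (Fin (t + 1) → Fin k) (Fin (t + 1) → Fin k) F,
        (M + N).submatrix (sp i) (sp i) = M.submatrix (sp i) (sp i) + N.submatrix (sp i) (sp i) from fun _ _ => rfl,
      sub_one, adjV_upM, sub_upM_mul_emb, sub_upM_mul_emb] at h)
  have hns' : ¬ ∃ c : F, θ = c • 1 := fun ⟨c, hc⟩ => hns c (by rw [hc, map_smul, map_one, smul_one_mul])
  obtain ⟨s, w, hsne, hw, hmon⟩ := exists_monom_coeff H hk hθ hns'
  have ht : 1 ≤ t := by obtain ⟨l, -⟩ := hsne; have := l.pos; omega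
  have hall : ∀ (n : ℕ) (s : Finset (Fin t)), t - s.card = n → s.Nonempty →
      (∀ ξ : Fin t → Fin k → F, (∀ l, ξ l ≠ 0) → monom D s ξ ∈ shCoeff H i) →
      ∀ ξ : Fin t → Fin k → F, (∀ l, ξ l ≠ 0) → monom D Finset.univ ξ ∈ shCoeff H i := by
    intro n
    induction n using Nat.strong_induction_on with
    | _ n ih =>
      intro s hn hne hs
      by_cases hu : s = Finset.univ
      · subst hu; exact hs
      obtain ⟨q, hq⟩ : ∃ q, q ∉ s := by
        by_contra! h; exact hu (Finset.eq_univ_of_forall h)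
      obtain ⟨p, hp⟩ := hne
      set π := Equiv.swap p q
      have himg : ∀ ξ : Fin t → Fin k → F, (∀ l, ξ l ≠ 0) → monom D (s.image π) ξ ∈ shCoeff H i := by
        intro ξ hξ
        convert shCoeff_perm H π (hs (fun l => ξ (π l)) fun l => hξ _) using 1
        rw [monom]
        congr 1
        funext l
        have h1 : l ∈ s.image π ↔ π⁻¹ l ∈ s := by
          rw [Finset.mem_image]
          exact ⟨fun ⟨x, hx, e⟩ => by rw [← e]; simpa using hx, fun h => ⟨_, h, by simp⟩⟩
        simp only [h1, show π (π⁻¹ l) = l by simp]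
      have hq' : q ∈ s ∪ s.image π := Finset.mem_union_right _
        (Finset.mem_image.2 ⟨p, hp, Equiv.swap_apply_left _ _⟩)
      have hlt : s.card < (s ∪ s.image π).card :=
        Finset.card_lt_card (Finset.ssubset_iff_of_subset Finset.subset_union_left |>.2 ⟨q, hq', hq⟩)
      have hle := (Finset.card_le_univ (s ∪ s.image π)).trans_eq (Fintype.card_fin t)
      exact ih _ (by omega) (s ∪ s.image π) rfl ⟨q, hq'⟩ fun ξ hξ => monom_union_coeff H hk hs himg hξ
  have huniv := hall _ s rfl hsne fun ξ hξ => (shCoeff_inv H).monom_move (fun l _ => hw l) (fun l _ => hξ l) hmon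
  set e : Fin k → F := Pi.single 0 1
  have he : e ≠ 0 := Function.ne_iff.2 ⟨0, by simp [e]⟩
  set ξ : Fin (t + 1) → Fin k → F := i.insertNth a (fun _ => e)
  have hξi : ξ i = a := by simp [ξ]
  have hξj : ∀ j, ξ (i.succAbove j) = e := fun j => by simp [ξ]
  refine oneOrth_of_oneSlot (by omega) (by omega) (oneSlot_of_pair S hX H.base (q := i) (ξ := ξ) (y := b) (by omega)
    (fun l => ?_) (by rw [hξi]; exact hab) (by rw [hξi]; exact hb) ?_)
  · rcases Fin.eq_self_or_eq_succAbove i l with rfl | ⟨j, rfl⟩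
    · rw [hξi]; exact ha
    · rw [hξj]; exact he
  refine pair_of_mem S hX (S.polar_zero i (by rw [Function.update_self, hξi]; exact hab)) fun c => ?_
  refine (mem_map_sub i).1 ?_
  have h1 := (shCoeff H i).smul_mem c (huniv (fun _ => e) fun _ => he) a b ha hab hb
  convert h1 using 1
  rw [show ∀ M N : Matrix (Fin (t + 1) → Fin k) (Fin (t + 1) → Fin k) F,
    (M + N).submatrix (sp i) (sp i) = M.submatrix (sp i) (sp i) + N.submatrix (sp i) (sp i) from fun _ _ => rfl,
    show ∀ M : Matrix (Fin (t + 1) → Fin k) (Fin (t + 1) → Fin k) F,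
    (c • M).submatrix (sp i) (sp i) = c • M.submatrix (sp i) (sp i) from fun _ => rfl,
    sub_one, sub_matrix_sub, sub_pure, sub_pure, SH, Outer.adj_smul,
    show (outerT D t).adj (monom D Finset.univ fun _ => e) = _ from adjV_monom _ _,
    show (-1 : F) = 1 from CharTwo.neg_eq _, one_pow, one_smul, Matrix.smul_kronecker, Matrix.smul_kronecker,
    ← smul_add]
  simp only [hξi, hξj, Function.update_self, Function.update_of_ne (Fin.succAbove_ne i _), monom, Finset.mem_univ,
    if_true]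
  rw [sub_eq_add_neg, mat_neg]

end CfsgLib.HallGen.SympPlus
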