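/-
Characteristic two: overgroups with scalar short root coefficients consist of standard elements.
-/
import Cfsg.Agent.Lib.HallGen.SympPlus.EvenRoots

set_option autoImplicit false
set_option linter.unusedSectionVars false
set_option maxHeartbeats 400000

namespace CfsgLib.HallGen.SympPlus

open Matrix CfsgLib.HallGen.SympWreath CfsgLib.Geo CfsgLib.Geo.SpinTensor CfsgLib.Geo.TensorWreath
open scoped Kronecker

variable {F : Type*} [Field F] [Fintype F] [CharP F 2] {k t : ℕ} {D : Factor F k}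
  {X : Subgroup (GL (Fin (t + 1) → Fin k) F)}

/-- A standard conjugate of a root is a root. -/
theorem isSRoot_conj (C : Ctx2 D X) {r y : GL (Fin (t + 1) → Fin k) F} (hr : IsSRoot D r) (hy : y ∈ X)
    (hx : IsStd (y * r * y⁻¹)) : IsSRoot D (y * r * y⁻¹) := by
  have hk := C.big
  haveI : NeZero k := ⟨by omega⟩
  refine isSRoot_of_isRoot (C.hyp.iso _ (X.mul_mem (X.mul_mem hy (sroot_mem C.hyp hr)) (X.inv_mem hy))) ?_
  rcases TensorWreath.conj_cases (by omega) (srootRoot hr) hx with h | ⟨h3, -⟩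
  · exact h
  · omega

theorem std_of_conj_root (C : Ctx2 D X) {r y : GL (Fin (t + 1) → Fin k) F} (hr : IsSRoot D r) (hy : y ∈ X)
    (hx : IsStd (y * r * y⁻¹)) : IsStd y :=
  C.root_map y hy r hr (isSRoot_conj C hr hy hx)

/-- A two-group of the overgroup containing a root is standard. -/
theorem std_of_two_group (C : Ctx2 D X) {P : Subgroup (GL (Fin (t + 1) → Fin k) F)} (hP : IsPGroup 2 P)
    (hPX : P ≤ X) {r : GL (Fin (t + 1) → Fin k) F} (hr : IsSRoot D r) (hrP : r ∈ P) : ∀ z ∈ P, IsStd z := by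
  classical
  haveI : Fact (Nat.Prime 2) := ⟨Nat.prime_two⟩
  haveI := hP.isNilpotent
  set Q := (Cfsg.Geo.tensorWreathStandard k (t + 1) F).subgroupOf P
  by_contra! h
  obtain ⟨z, hzP, hz⟩ := h
  have hQ : Q < ⊤ := lt_top_iff_ne_top.2 fun h => hz (mem_std_iff.1 (by
    have : (⟨z, hzP⟩ : P) ∈ Q := h ▸ Subgroup.mem_top _
    exact Subgroup.mem_subgroupOf.1 this))
  obtain ⟨w, hw, hwQ⟩ := SetLike.exists_of_lt (normalizerCondition_of_isNilpotent (G := P) Q hQ)
  refine hwQ (Subgroup.mem_subgroupOf.2 (mem_std_iff.2 (std_of_conj_root C hr (hPX w.2) ?_)))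
  exact mem_std_iff.1 (Subgroup.mem_subgroupOf.1
    ((Subgroup.mem_normalizer_iff.1 hw ⟨r, hrP⟩).1 (Subgroup.mem_subgroupOf.2 (mem_std_iff.2 hr.isStd))))

/-- Roots commuting with a set which a non-standard element centralises. -/
theorem sroot_two_conj (C : Ctx2 D X) (S : Set (GL (Fin (t + 1) → Fin k) F)) {y : GL (Fin (t + 1) → Fin k) F}
    (hy : y ∈ X) (hys : ¬ IsStd y) (hyS : ∀ z ∈ S, Commute z y) {r r₀ : GL (Fin (t + 1) → Fin k) F}
    (hr : IsSRoot D r) (hr₀ : IsSRoot D r₀) (hrS : ∀ z ∈ S, Commute z r) (hr₀S : ∀ z ∈ S, Commute z r₀) :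
    ∃ h ∈ X, IsStd h ∧ (∀ z ∈ S, Commute z h) ∧ (h * r₀ * h⁻¹ = r ∨
      ((∀ l A B, r = fac l A → h * r₀ * h⁻¹ = fac l B → False) ∧ IsSRoot D (h * r₀ * h⁻¹) ∧
        ∃ s ∈ X, ¬ IsStd s ∧ (∀ z ∈ S, Commute z s) ∧ Commute s (r * (h * r₀ * h⁻¹)))) := by
  have h3 : 3 ≤ k := by have := C.big; omega
  have hrX := sroot_mem C.hyp hr
  have hr₀X := sroot_mem C.hyp hr₀
  set s := y * r₀ * y⁻¹
  have hsX : s ∈ X := X.mul_mem (X.mul_mem hy hr₀X) (X.inv_mem hy)
  have hs : ¬ IsStd s := fun h => hys (std_of_conj_root C hr₀ hy h)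
  have hs2 : s * s = 1 := by
    rw [show s * s = y * (r₀ * r₀) * y⁻¹ by simp only [s]; group, root_sq (srootRoot hr₀), mul_one, mul_inv_cancel]
  have hsS : ∀ z ∈ S, Commute z s := fun z hz =>
    ((hyS z hz).mul_right (hr₀S z hz)).mul_right (hyS z hz).inv_right
  obtain ⟨z₀, hz₀, hP, hor⟩ := exists_two_power (root_sq (srootRoot hr)) hs2
  have hz₀X : z₀ ∈ X := (Subgroup.zpowers_le.2 (X.mul_mem hrX hsX)) hz₀
  have hzS : ∀ z ∈ S, Commute z z₀ := fun z hz => by
    obtain ⟨j, rfl⟩ := Subgroup.mem_zpowers_iff.1 hz₀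
    exact ((hrS z hz).mul_right (hsS z hz)).zpow_right j
  have hPX : Subgroup.closure {r, z₀ * s * z₀⁻¹} ≤ X := (Subgroup.closure_le X).2 (by
    rintro x (rfl | rfl)
    · exact hrX
    · exact X.mul_mem (X.mul_mem hz₀X hsX) (X.inv_mem hz₀X))
  have hstd := std_of_two_group C hP hPX hr (Subgroup.subset_closure (Set.mem_insert _ _)) _
    (Subgroup.subset_closure (Set.mem_insert_of_mem _ rfl))
  have e : z₀ * s * z₀⁻¹ = z₀ * y * r₀ * (z₀ * y)⁻¹ := by simp only [s]; group
  rw [e] at hstd hor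
  have hhX : z₀ * y ∈ X := X.mul_mem hz₀X hy
  have hh := std_of_conj_root C hr₀ hhX hstd
  refine ⟨z₀ * y, hhX, hh, fun z hz => (hzS z hz).mul_right (hyS z hz), ?_⟩
  rcases hor with hor | ⟨u, hu1, hu2, -, hus, n, hu, -⟩
  · exact Or.inl hor
  right
  set r' := z₀ * y * r₀ * (z₀ * y)⁻¹
  have hr' : IsSRoot D r' := isSRoot_conj C hr₀ hhX hstd
  have hpos : ∀ l A B, r = fac l A → r' = fac l B → False := by
    intro l A B hA hB
    rw [hA, hB, ← map_mul, ← map_pow] at hu
    refine hs (C.inv s hsX l ((A * B) ^ 2 ^ n) ?_ (fun h1 => hu1 (by rw [hu, h1, map_one]))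
      (hu ▸ hus.symm))
    exact fac_injective h3 l (by rw [map_mul, ← hu, hu2, map_one])
  refine ⟨hpos, hr', s, hsX, hs, hsS, ?_⟩
  obtain ⟨i, v, φ, hvφ, -, -, hi⟩ := (srootRoot hr).exists_fac
  obtain ⟨l, w, ψ, hwψ, -, -, hl⟩ := (srootRoot hr').exists_fac
  have hcomm : Commute r r' := by
    by_cases hil : i = l
    · subst hil; exact (hpos i _ _ hi hl).elim
    · rw [hi, hl]; exact fac_commute hil _ _
  have hqq : (r * r') * (r * r') = 1 := by
    rw [hcomm.symm.mul_mul_mul_comm, root_sq (srootRoot hr), root_sq (srootRoot hr'), one_mul]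
  rcases n with _ | n
  · rw [pow_zero, pow_one] at hu
    exact hu ▸ hus.symm
  · exact absurd (by rw [hu, pow_succ', pow_mul, pow_two, hqq, one_pow]) hu1

/-- A second transvection commuting with a given one. -/
theorem exists_stv_pair (hk : 3 ≤ k) {v : Fin k → F} {c : F} (hv : v ≠ 0) :
    ∃ v' : Fin k → F, v' ≠ 0 ∧ stv D v' 1 ≠ stv D v c ∧ Commute (stv D v c) (stv D v' 1) := by
  obtain ⟨v', hvv', hv'⟩ := exists_perp_notMem (D := D) hk v
  obtain ⟨z, hvz, hv'z⟩ := D.exists_partner hv'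
  have hv'0 : v' ≠ 0 := fun h => hv' (by rw [h]; exact Submodule.zero_mem _)
  refine ⟨v', hv'0, fun h => ?_, Units.ext ?_⟩
  · have h1 := congrArg (fun u : GL (Fin k) F => (u : Matrix (Fin k) (Fin k) F) *ᵥ z) h
    simp only [stv_val, D.transv_mulVec] at h1
    simp only [hvz, hv'z, mul_zero, zero_smul, add_zero, mul_one, one_smul, add_eq_left] at h1
    exact hv'0 h1
  · rw [Units.val_mul, Units.val_mul, stv_val, stv_val]
    simp only [mul_add, add_mul, one_mul, mul_one, smul_mul_smul_comm, D.R_mul, hvv', D.f_swap v v', neg_zero,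
      zero_smul, smul_zero, add_zero]
    abel

/-- The centraliser of a product of two roots on different factors is standard. -/
theorem std_of_commute_two (C : Ctx2 D X) {y : GL (Fin (t + 1) → Fin k) F} (hy : y ∈ X) {i j : Fin (t + 1)}
    (hij : i ≠ j) {v w : Fin k → F} {c d : F} (hv : v ≠ 0) (hc : c ≠ 0) (hw : w ≠ 0) (hd : d ≠ 0)
    (hcomm : Commute y (fac i (stv D v c) * fac j (stv D w d))) : IsStd y := by
  classical
  have h3 : 3 ≤ k := by have := C.big; omega
  by_contra hys
  set T := stv D v c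
  set U := stv D w d
  obtain ⟨v', hv', hT'T, hTT'⟩ := exists_stv_pair (D := D) h3 (c := c) hv
  set T' := stv D v' 1
  obtain ⟨h, -, hh, hhS, hor⟩ := sroot_two_conj C {fac i T * fac j U} hy hys
    (by rintro z rfl; exact hcomm.symm) (isSRoot_fac i hv hc) (isSRoot_fac i hv' one_ne_zero)
    (by rintro z rfl; exact ((Commute.refl _).mul_left (fac_commute hij T U).symm))
    (by rintro z rfl; exact ((hTT'.map (fac i)).mul_left (fac_commute hij T' U).symm))
  obtain ⟨π, gs, eh⟩ := hh.hasPerm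
  have hcw : Commute h (fac i T * fac j U) := (hhS _ rfl).symm
  rcases perm_roots h3 eh hij _ _ hv (stv_dual hv hc) hcw with ⟨hπ, hfix⟩ | ⟨hπ, hmove⟩
  · rcases hor with e | ⟨hp, -⟩
    · exact hT'T (fac_injective h3 i (mul_left_cancel (mul_right_cancel (e.trans hfix.symm))))
    · refine hp i T (gs i * T' * (gs i)⁻¹) rfl ?_
      rw [conj_fac eh, hπ]
  · have hr' : h * fac i T' * h⁻¹ = fac j (gs j * T' * (gs j)⁻¹) := by rw [conj_fac eh, hπ]
    have hU : gs j * T * (gs j)⁻¹ = U := fac_injective h3 j (((conj_fac eh i T).trans (by rw [hπ])).symm.trans hmove)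
    set U' := gs j * T' * (gs j)⁻¹
    rcases hor with e | ⟨-, hroot, s, hsX, hs, hsS, hsc⟩
    · rw [hr'] at e
      obtain ⟨a, ha⟩ := pureGL_eq h3 (show pureGL (Function.update 1 i T) = pureGL (Function.update 1 j U') from
        e.symm) i
      rw [Function.update_self, Function.update_of_ne hij, Pi.one_apply, Units.val_one] at ha
      exact trv_not_scalar h3 _ hv (stv_dual hv hc) a ha
    · rw [hr'] at hsc hroot
      have hUU' : Commute U U' := by rw [← hU]; exact hTT'.map (MulAut.conj (gs j))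
      have hT2 : fac i T * fac i T = 1 := root_sq (srootRoot (isSRoot_fac (D := D) i hv hc))
      have hU2 : U * U = 1 := fac_injective h3 j (by
        rw [map_mul, map_one]; exact root_sq (srootRoot (isSRoot_fac (D := D) j hw hd)))
      have hne' : U * U' ≠ 1 := fun e => by
        have h1 : U⁻¹ = U' := inv_eq_of_mul_eq_one_right e
        rw [inv_eq_of_mul_eq_one_right hU2, ← hU] at h1
        exact hT'T (mul_left_cancel (mul_right_cancel h1)).symm
      have hsw : Commute s (fac i T * fac j U) := (hsS _ rfl).symm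
      have key : fac i T * fac j U * (fac i T * fac j U') = fac j (U * U') := by
        rw [(fac_commute hij T U).eq, mul_assoc, ← mul_assoc (fac i T), hT2, one_mul, ← map_mul]
      refine hs (C.inv s hsX j (U * U') ?_ hne' (key ▸ hsw.mul_right hsc))
      refine fac_injective h3 j ?_
      rw [map_mul, map_mul, map_one, (hUU'.map (fac j)).symm.mul_mul_mul_comm, root_sq (srootRoot hroot), mul_one,
        ← map_mul, hU2, map_one]

theorem std_of_commute_sroots (C : Ctx2 D X) {y : GL (Fin (t + 1) → Fin k) F} (hy : y ∈ X)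
    {r r' : GL (Fin (t + 1) → Fin k) F} (hr : IsSRoot D r) (hr' : IsSRoot D r')
    (hpos : ∀ l A B, r = fac l A → r' = fac l B → False) (hc : Commute y (r * r')) : IsStd y := by
  obtain ⟨i, v, c, hv, hc0, rfl⟩ := srootFac hr
  obtain ⟨j, w, d, hw, hd, rfl⟩ := srootFac hr'
  exact std_of_commute_two C hy (fun e => by subst e; exact hpos _ _ _ rfl rfl) hv hc0 hw hd hc

/-- The centraliser of a root times an element of another factor is standard. -/
theorem std_of_commute_mixed (C : Ctx2 D X) {y : GL (Fin (t + 1) → Fin k) F} (hy : y ∈ X) {i j : Fin (t + 1)}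
    (hij : i ≠ j) {v : Fin k → F} {c : F} (hv : v ≠ 0) (hc : c ≠ 0) {B : GL (Fin k) F}
    (hcomm : Commute y (fac i (stv D v c) * fac j B)) : IsStd y := by
  classical
  have h3 : 3 ≤ k := by have := C.big; omega
  by_contra hys
  set T := stv D v c
  obtain ⟨v', hv', hT'T, hTT'⟩ := exists_stv_pair (D := D) h3 (c := c) hv
  set T' := stv D v' 1
  obtain ⟨h, -, hh, hhS, hor⟩ := sroot_two_conj C {fac i T * fac j B} hy hys
    (by rintro z rfl; exact hcomm.symm) (isSRoot_fac i hv hc) (isSRoot_fac i hv' one_ne_zero)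
    (by rintro z rfl; exact ((Commute.refl _).mul_left (fac_commute hij T B).symm))
    (by rintro z rfl; exact ((hTT'.map (fac i)).mul_left (fac_commute hij T' B).symm))
  rcases hor with e | ⟨hp, hroot, s, hsX, hs, -, hsc⟩
  swap
  · exact hs (std_of_commute_sroots C hsX (isSRoot_fac i hv hc) hroot hp hsc)
  obtain ⟨π, gs, eh⟩ := hh.hasPerm
  rw [conj_fac eh] at e
  have hπ : π i = i := by
    by_contra hπ
    obtain ⟨a, ha⟩ := pureGL_eq h3 (show pureGL (Function.update 1 i T) =
      pureGL (Function.update 1 (π i) (gs (π i) * T' * (gs (π i))⁻¹)) from e.symm) i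
    rw [Function.update_self, Function.update_of_ne (Ne.symm hπ), Pi.one_apply, Units.val_one] at ha
    exact trv_not_scalar h3 _ hv (stv_dual hv hc) a ha
  rw [hπ] at e
  have hT' : gs i * T' * (gs i)⁻¹ = T := fac_injective h3 i e
  have hfix : h * (fac i T * fac j B) * h⁻¹ = fac i T * fac j B := by
    rw [(hhS _ rfl).symm.eq, mul_inv_cancel_right]
  rw [show h * (fac i T * fac j B) * h⁻¹ = (h * fac i T * h⁻¹) * (h * fac j B * h⁻¹) by group, conj_fac eh, conj_fac eh,
    hπ, fac_apply, fac_apply, fac_apply, fac_apply, pureGL_mul, pureGL_mul] at hfix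
  obtain ⟨a, ha⟩ := pureGL_eq h3 hfix i
  have hji : π j ≠ i := fun h0 => hij (π.injective (hπ.trans h0.symm))
  simp only [Pi.mul_apply, Function.update_self, Function.update_of_ne hji.symm, Function.update_of_ne hij,
    Pi.one_apply, mul_one] at ha
  have hconj := conj_trv (gs i) (v := v) (φ := c • (v ᵥ* D.J)) (by
    rw [smul_dotProduct, show (v ᵥ* D.J) ⬝ᵥ v = 0 from D.f_self v, smul_zero])
  rw [show gs i * T * (gs i)⁻¹ = _ from hconj] at ha
  have h2 := trv_smul h3 ha
  rw [h2.1, one_smul, ← hconj] at ha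
  exact hT'T (mul_left_cancel (mul_right_cancel (hT'.trans (Units.ext ha).symm)))

variable (D) in
/-- An involution of the factor moving a plane. -/
def shGL {a b : Fin k → F} (hab : D.f a b = 0) : GL (Fin k) F :=
  ⟨1 + (D.R a b + D.R b a), 1 + (D.R a b + D.R b a),
    by simp [mul_add, add_mul, D.R_mul, D.f_self, hab, D.f_swap a b]; rw [add_assoc, mat_add_self, add_zero],
    by simp [mul_add, add_mul, D.R_mul, D.f_self, hab, D.f_swap a b]; rw [add_assoc, mat_add_self, add_zero]⟩

theorem shGL_iso {a b : Fin k → F} (hab : D.f a b = 0) : D.Iso (shGL D hab : Matrix (Fin k) (Fin k) F) := by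
  show D.adj (1 + (D.R a b + D.R b a)) * (1 + (D.R a b + D.R b a)) = 1
  rw [D.adj_add, D.adj_add, D.adj_one, D.adj_R, D.adj_R]
  simp [mul_add, add_mul, D.R_mul, D.f_self, hab, D.f_swap a b, mat_neg]
  rw [add_assoc, add_comm (D.R b a), mat_add_self, add_zero]

/-- **Every element is standard.** -/
theorem std_of_ctx (C : Ctx2 D X) {g₀ : GL (Fin (t + 1) → Fin k) F} (hg₀ : g₀ ∈ X) : IsStd g₀ := by
  classical
  have h6 := C.big
  have h3 : 3 ≤ k := by omega
  haveI : NeZero k := ⟨by omega⟩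
  haveI : Fact (Nat.Prime 2) := ⟨Nat.prime_two⟩
  set a : Fin k → F := Pi.single 0 1
  have ha : a ≠ 0 := Function.ne_iff.2 ⟨0, by simp [a]⟩
  obtain ⟨b, hab, hb⟩ := exists_perp_notMem (D := D) h3 a
  obtain ⟨b', hab', hbb'⟩ := D.exists_partner hb
  have hb' : b' ∉ Submodule.span F {a} :=
    D.notMem_span_of_f hab (by rw [D.f_swap b b', hbb']; exact neg_ne_zero.2 one_ne_zero)
  have hb0 : b' ≠ 0 := fun h => hb' (by rw [h]; exact Submodule.zero_mem _)
  set W := shGL D hab
  have hW2 : W * W = 1 := Units.ext W.val_inv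
  have hW1 : W ≠ 1 := fun h => by
    have h1 := congrArg (fun u : GL (Fin k) F => (u : Matrix (Fin k) (Fin k) F) *ᵥ b') h
    simp only [W, shGL, Units.val_one, Matrix.add_mulVec, Matrix.one_mulVec, D.R_mulVec, hbb', hab', one_smul,
      zero_smul, add_zero, add_eq_left] at h1
    exact ha h1
  set i₀ : Fin (t + 1) := 0
  set w := fac i₀ W
  have hwX : w ∈ X := fac_mem C.hyp i₀ W (shGL_iso hab)
  have hw2 : w * w = 1 := by rw [← map_mul, hW2, map_one]
  set T := stv D a 1
  set r := fac i₀ T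
  have hr : IsSRoot D r := isSRoot_fac i₀ ha one_ne_zero
  have hrX : r ∈ X := sroot_mem C.hyp hr
  by_cases hall : ∀ g ∈ X, IsStd (g * w * g⁻¹)
  · obtain ⟨Bm, hBm, hBa, hBb⟩ := exists_iso_fix hab hab' hb hb'
    obtain ⟨B, hB⟩ : ∃ B : GL (Fin k) F, (B : Matrix (Fin k) (Fin k) F) = Bm :=
      ⟨⟨Bm, D.adj Bm, hBm.mul_adj, hBm⟩, rfl⟩
    have hBi : ((B⁻¹ : GL (Fin k) F) : Matrix (Fin k) (Fin k) F) = D.adj Bm :=
      (left_inv_eq_right_inv (show D.adj Bm * (B : Matrix (Fin k) (Fin k) F) = 1 by rw [hB]; exact hBm) B.mul_inv).symm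
    set K := stv D b' 1
    have hKiso : D.Iso (1 + (1 : F) • D.R b' b') := D.iso_transv b' 1
    have hKi : ((K⁻¹ : GL (Fin k) F) : Matrix (Fin k) (Fin k) F) = D.adj (1 + (1 : F) • D.R b' b') :=
      (left_inv_eq_right_inv (show D.adj (1 + (1 : F) • D.R b' b') * (K : Matrix (Fin k) (Fin k) F) = 1 by
        rw [stv_val]; exact hKiso) K.mul_inv).symm
    have hid : T = W * (K * W * K⁻¹) * (B * W * B⁻¹) := by
      refine Units.ext ?_
      have hconj : ∀ M : Matrix (Fin k) (Fin k) F, D.Iso M →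
          M * (1 + (D.R a b + D.R b a)) * D.adj M = 1 + (D.R (M *ᵥ a) (M *ᵥ b) + D.R (M *ᵥ b) (M *ᵥ a)) :=
        fun M hM => by
          rw [mul_add, mul_one, add_mul, hM.mul_adj, mul_add, add_mul, hM.mul_R_mul, hM.mul_R_mul]
      have hbb : D.f b' b = 1 := by rw [D.f_swap b b', hbb']; exact CharTwo.neg_eq _
      have hba : D.f b a = 0 := by rw [D.f_swap a b, hab, neg_zero]
      have hb'a : D.f b' a = 0 := by rw [D.f_swap a b', hab', neg_zero]
      simp only [Units.val_mul, hKi, hBi, hB]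
      rw [show (K : Matrix (Fin k) (Fin k) F) = 1 + (1 : F) • D.R b' b' from stv_val b' 1,
        show (W : Matrix (Fin k) (Fin k) F) = 1 + (D.R a b + D.R b a) from rfl, hconj _ hKiso, hconj _ hBm, hBa, hBb,
        D.transv_mulVec, D.transv_mulVec, hbb, hb'a, mul_zero, zero_smul, add_zero, mul_one, one_smul, stv_val,
        one_smul]
      simp only [mul_add, add_mul, mul_one, one_mul, D.R_add_left, D.R_add_right, D.R_mul, D.f_self, hab, hab', hba,
        hb'a, hbb', hbb, zero_smul, one_smul, add_zero, zero_add]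
      calc _ = 1 + D.R a a + (D.R a b + D.R a b) + (D.R b a + D.R b a) + (D.R a b' + D.R a b') +
            (D.R b' a + D.R b' a) + (D.R a a + D.R a a) := by simp only [mat_add_self, add_zero]
        _ = _ := by abel
    have hKX : fac i₀ K ∈ X := fac_mem C.hyp i₀ K (stv_iso b' 1)
    have hBX : fac i₀ B ∈ X := fac_mem C.hyp i₀ B (by rw [hB]; exact hBm)
    refine std_of_conj_root C hr hg₀ ?_
    have e : g₀ * r * g₀⁻¹ = (g₀ * w * g₀⁻¹) * ((g₀ * fac i₀ K) * w * (g₀ * fac i₀ K)⁻¹) *
        ((g₀ * fac i₀ B) * w * (g₀ * fac i₀ B)⁻¹) := by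
      simp only [r, w, hid, map_mul, map_inv]
      group
    rw [e]
    exact ((hall g₀ hg₀).mul (hall _ (X.mul_mem hg₀ hKX))).mul (hall _ (X.mul_mem hg₀ hBX))
  exfalso
  push Not at hall
  obtain ⟨g, hg, hx⟩ := hall
  set x := g * w * g⁻¹
  have hxX : x ∈ X := X.mul_mem (X.mul_mem hg hwX) (X.inv_mem hg)
  have hx2 : x * x = 1 := by
    rw [show x * x = g * (w * w) * g⁻¹ by simp only [x]; group, hw2, mul_one, mul_inv_cancel]
  obtain ⟨z, hz, hP, hor⟩ := exists_two_power (root_sq (srootRoot hr)) hx2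
  have hzX : z ∈ X := (Subgroup.zpowers_le.2 (X.mul_mem hrX hxX)) hz
  set y := z * g
  have hyX : y ∈ X := X.mul_mem hzX hg
  have e : z * x * z⁻¹ = y * w * y⁻¹ := by simp only [x, y]; group
  rw [e] at hP hor
  set x' := y * w * y⁻¹
  have hx'X : x' ∈ X := X.mul_mem (X.mul_mem hyX hwX) (X.inv_mem hyX)
  have hPX : Subgroup.closure {r, x'} ≤ X := (Subgroup.closure_le X).2 (by
    rintro q (rfl | rfl)
    · exact hrX
    · exact hx'X)
  have hPstd := std_of_two_group C hP hPX hr (Subgroup.subset_closure (Set.mem_insert _ _))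
  have hx's : IsStd x' := hPstd _ (Subgroup.subset_closure (Set.mem_insert_of_mem _ rfl))
  rcases hor with hor | ⟨u, hu1, hu2, -, hux, n, hu, hn⟩
  · -- an involution of rank two is not a root
    have e1 : y⁻¹ * r * y⁻¹⁻¹ = w := by rw [← hor]; simp only [x']; group
    have hwr : IsSRoot D w := e1 ▸ isSRoot_conj C hr (X.inv_mem hyX) (e1 ▸ isStd_pureGL _)
    obtain ⟨l, v, c, hv, hc, hwl⟩ := srootFac hwr
    obtain ⟨d, hd⟩ := pureGL_eq h3 (show pureGL (Function.update 1 l (stv D v c)) =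
      pureGL (Function.update 1 i₀ W) from hwl.symm) l
    rw [Function.update_self] at hd
    by_cases hli : l = i₀
    · subst hli
      have hW : stv D v c = W := fac_injective h3 _ hwl.symm
      have h0 : stv D v c * stv D v c = 1 := by rw [hW, hW2]
      have hval := congrArg Units.val hW
      rw [stv_val, show (W : Matrix (Fin k) (Fin k) F) = 1 + (D.R a b + D.R b a) from rfl, add_right_inj] at hval
      have hb'' := congrArg (· *ᵥ b') hval
      obtain ⟨a', hba', haa'⟩ := D.exists_partner (a := b) (b := a) fun hm => by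
        obtain ⟨s, hs⟩ := Submodule.mem_span_singleton.1 hm
        have hs0 : s ≠ 0 := fun h0 => ha (by rw [← hs, h0, zero_smul])
        exact hb (Submodule.mem_span_singleton.2 ⟨s⁻¹, by rw [← hs, inv_smul_smul₀ hs0]⟩)
      have ha'' := congrArg (· *ᵥ a') hval
      simp only [Matrix.add_mulVec, Matrix.smul_mulVec, D.R_mulVec, hbb', hab', hba', haa', one_smul, zero_smul,
        add_zero, zero_add, smul_smul] at ha'' hb''
      refine hb ?_
      rw [← ha'', ← hb'']
      refine Submodule.mem_span_singleton.2 ⟨(c * D.f v a') / (c * D.f v b'), ?_⟩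
      rw [smul_smul, div_mul_cancel₀ _ fun h => ha (by rw [← hb'', h, zero_smul])]
    · rw [Function.update_of_ne hli, Pi.one_apply, Units.val_one] at hd
      exact trv_not_scalar h3 _ hv (stv_dual hv hc) d hd
  -- a commuting involution
  have key : ∀ {s}, s ∈ X → Commute s u → IsStd s := by
    intro s hsX hsu
    rcases n with _ | n
    · rw [pow_zero, pow_one] at hu
      have hcomm : Commute r x' := hn rfl
      have h1 : Commute (y⁻¹ * r * y) w := by
        have h2 := hcomm.map (MulAut.conj y⁻¹)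
        simp only [MulAut.conj_apply, inv_inv] at h2
        rwa [show y⁻¹ * x' * y = w by simp only [x']; group] at h2
      have hys : IsStd y := by
        have h4 : IsStd (y⁻¹ * r * y⁻¹⁻¹) := by
          rw [inv_inv]
          exact C.inv _ (X.mul_mem (X.mul_mem (X.inv_mem hyX) hrX) hyX) i₀ W hW2 hW1 h1
        simpa using (std_of_conj_root C hr (X.inv_mem hyX) h4).inv
      obtain ⟨π, gs, ey⟩ := hys.hasPerm
      have hx' : x' = fac (π i₀) (gs (π i₀) * W * (gs (π i₀))⁻¹) := conj_fac ey i₀ W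
      set B := gs (π i₀) * W * (gs (π i₀))⁻¹
      rw [show r = fac i₀ T from rfl, hx'] at hu
      by_cases hj : π i₀ = i₀
      · rw [hj, ← map_mul] at hu
        refine C.inv s hsX i₀ (T * B) (fac_injective h3 i₀ ?_) (fun h => hu1 (by rw [hu, h, map_one])) (hu ▸ hsu)
        rw [map_mul, ← hu, hu2, map_one]
      · exact std_of_commute_mixed C hsX (Ne.symm hj) ha one_ne_zero (hu ▸ hsu)
    · have hx'2 : x' * x' = 1 := by
        rw [show x' * x' = y * (w * w) * y⁻¹ by simp only [x']; group, hw2, mul_one, mul_inv_cancel]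
      set r' := x' * r * x'⁻¹
      have hr' : IsSRoot D r' := isSRoot_conj C hr hx'X ((hx's.mul hr.isStd).mul hx's.inv)
      have hsq : u = (r * r') ^ 2 ^ n := by
        rw [hu, pow_succ', pow_mul, pow_two]
        congr 1
        simp only [r']
        rw [inv_eq_of_mul_eq_one_right hx'2]
        group
      obtain ⟨i, v, c, hv, hc, hi⟩ := srootFac hr
      obtain ⟨j, v', c', hv', hc', hj⟩ := srootFac hr'
      rw [hi, hj] at hsq
      by_cases hij : i = j
      · subst hij
        rw [← map_mul, ← map_pow] at hsq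
        refine C.inv s hsX i _ (fac_injective h3 i ?_) (fun h => hu1 (by rw [hsq, h, map_one])) (hsq ▸ hsu)
        rw [map_mul, ← hsq, hu2, map_one]
      · rcases n with _ | n
        · rw [pow_zero, pow_one] at hsq
          exact std_of_commute_two C hsX hij hv hc hv' hc' (hsq ▸ hsu)
        · refine absurd ?_ hu1
          rw [hsq, pow_succ', pow_mul, pow_two, (fac_commute hij _ _).symm.mul_mul_mul_comm, ← hi, ← hj,
            root_sq (srootRoot hr), root_sq (srootRoot hr'), one_mul, one_pow]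
  exact hx (key hxX hux.symm)

/-- **With scalar short root coefficients every element is standard.** -/
theorem isStd_of_flat (hk : 6 ≤ k) : ∀ (t : ℕ) (X : Subgroup (GL (Fin (t + 1) → Fin k) F)),
    Hyp2 D X → FlatAll D X → ∀ g ∈ X, IsStd g := by
  intro t
  induction t with
  | zero => exact fun X _ _ g _ => isStd_fin_one g
  | succ t ih => exact fun X H hX g hg => std_of_ctx (H.ctx_of hk hX fun Y hY hN z hz => ih Y hY hN z hz) hg

end CfsgLib.HallGen.SympPlus
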