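/-
Odd characteristic: a non-scalar central map gives all of `Ω`.
-/
import Cfsg.Agent.Lib.HallGen.SympPlus.Move

set_option autoImplicit false
set_option linter.unusedSectionVars false
set_option maxHeartbeats 400000

namespace CfsgLib.HallGen.SympPlus

open Matrix CfsgLib.HallGen.SympWreath CfsgLib.Geo CfsgLib.Geo.SpinTensor CfsgLib.Geo.TensorWreath
open CfsgLib.Classical.Quad CfsgLib.Geo.OrthMax
open QuadraticMap (polar polarBilin)

variable {F : Type*} [Field F] {k t : ℕ} {D : Factor F k}

/-- The symmetrised product of two pure maps, sandwiched on all factors but one. -/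
theorem jordan_one {Z : Submodule F (Matrix (Fin t → Fin k) (Fin t → Fin k) F)} (hZ : Inv D Z) (h2 : (2 : F) ≠ 0)
    {g g' : Fin t → Matrix (Fin k) (Fin k) F}
    (hjor : SpinTensor.pure g * SpinTensor.pure g' + SpinTensor.pure g' * SpinTensor.pure g ∈ Z)
    (q : Fin t) (hev : Even (Finset.univ.erase q).card) {w : Fin t → Fin k → F}
    (hin : ∀ l, l ≠ q → (∃ ε : F, ε * ε = 1 ∧ D.adj (g l) = ε • g l ∧ D.adj (g' l) = ε • g' l) ∧
      D.f (w l) ((g l * g' l) *ᵥ w l) ≠ 0) :
    SpinTensor.pure (Function.update (fun l => D.R (w l) (w l)) q (g q * g' q + g' q * g q)) ∈ Z := by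
  classical
  set s := (Finset.univ : Finset (Fin t)).erase q
  have hs : ∀ l, l ∈ s ↔ l ≠ q := fun l => by simp [s]
  have h := hZ.sandwich h2 s w hjor
  set c : Fin t → F := fun l => if l ∈ s then D.f (w l) ((g l * g' l) *ᵥ w l) else 1
  set T₁ := SpinTensor.pure (Function.update (fun l => D.R (w l) (w l)) q (g q * g' q))
  set T₂ := SpinTensor.pure (Function.update (fun l => D.R (w l) (w l)) q (g' q * g q))
  have e1 : monom D s w * (SpinTensor.pure g * SpinTensor.pure g') * monom D s w = (∏ l, c l) • T₁ := by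
    simp only [T₁, monom, pure_mul]
    rw [← pure_smul_prod]
    congr 1
    funext l
    by_cases hl : l = q
    · subst hl; simp [c, s]
    · simp only [c, if_pos ((hs l).2 hl), Function.update_of_ne hl]
      rw [mul_assoc, D.mul_R, D.R_mul]
  have e2 : monom D s w * (SpinTensor.pure g' * SpinTensor.pure g) * monom D s w =
      (∏ l, (if l ∈ s then (-1 : F) else 1) * c l) • T₂ := by
    simp only [T₂, monom, pure_mul]
    rw [← pure_smul_prod]
    congr 1
    funext l
    by_cases hl : l = q
    · subst hl; simp [c, s]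
    · simp only [c, if_pos ((hs l).2 hl), Function.update_of_ne hl]
      rw [mul_assoc, D.mul_R, D.R_mul]
      congr 1
      obtain ⟨⟨ε, hε, ha, hb⟩, -⟩ := hin l hl
      have hadj : D.adj (g l * g' l) = g' l * g l := by
        rw [D.adj_mul, ha, hb, Matrix.smul_mul, Matrix.mul_smul, smul_smul, hε, one_smul]
      rw [← hadj, D.f_adj, D.f_swap (w l) ((g l * g' l) *ᵥ w l), neg_one_mul]
  have hsign : (∏ l, if l ∈ s then (-1 : F) else 1) = 1 := by
    rw [Finset.prod_ite_mem, Finset.univ_inter, Finset.prod_const, hev.neg_one_pow]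
  rw [mul_add, add_mul, e1, e2, Finset.prod_mul_distrib, hsign, one_mul, ← smul_add] at h
  have h1 := (Z.smul_mem_iff (Finset.prod_ne_zero_iff.2 fun l _ => ?_)).1 h
  · convert h1 using 1
    ext a b
    simp only [T₁, T₂, Matrix.add_apply, pure_apply]
    rw [← Finset.mul_prod_erase _ _ (Finset.mem_univ q), ← Finset.mul_prod_erase _ _ (Finset.mem_univ q),
      ← Finset.mul_prod_erase _ _ (Finset.mem_univ q), Function.update_self, Function.update_self, Function.update_self,
      Matrix.add_apply, add_mul]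
    congr 2 <;>
    · refine Finset.prod_congr rfl fun l hl => ?_
      simp [Function.update_of_ne (Finset.mem_erase.1 hl).1]
  · by_cases hl : l = q
    · subst hl; simp [c, s]
    · simpa [c, (hs l).2 hl] using (hin l hl).2

/-- A conjugate of a short root map and the symmetrised product. -/
theorem exists_dual_short {x y : Fin k → F} (hx : x ≠ 0) (hyx : y ∉ Submodule.span F {x}) (hxy : D.f x y = 0) :
    ∃ g h : Fin k → F, ∃ B, D.Iso B ∧ D.f x g = 1 ∧ D.f y g = 0 ∧ D.f x h = 0 ∧ D.f y h = 1 ∧ D.f g h = 0 ∧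
      (D.R x y - D.R y x) * (B * (D.R x y - D.R y x) * D.adj B) +
        (B * (D.R x y - D.R y x) * D.adj B) * (D.R x y - D.R y x) = D.plane x g + D.plane y h := by
  obtain ⟨g, hyg, hxg⟩ := D.exists_partner (a := y) (b := x) fun hm => by
    obtain ⟨c, rfl⟩ := Submodule.mem_span_singleton.1 hm
    have hc : c ≠ 0 := fun h0 => hx (by rw [h0, zero_smul])
    exact hyx (Submodule.mem_span_singleton.2 ⟨c⁻¹, by rw [smul_smul, inv_mul_cancel₀ hc, one_smul]⟩)
  obtain ⟨h₀, hxh, hyh⟩ := D.exists_partner hyx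
  set h := h₀ + D.f g h₀ • x
  have hyx0 : D.f y x = 0 := by rw [D.f_swap x y, hxy, neg_zero]
  have hgx : D.f g x = -1 := by rw [D.f_swap x g, hxg]
  have hgy : D.f g y = 0 := by rw [D.f_swap y g, hyg, neg_zero]
  have h1 : D.f x h = 0 := by simp only [h, D.f_add_right, D.f_smul_right, hxh, D.f_self, mul_zero, add_zero]
  have h2 : D.f y h = 1 := by simp only [h, D.f_add_right, D.f_smul_right, hyh, hyx0, mul_zero, add_zero]
  have h3 : D.f g h = 0 := by simp only [h, D.f_add_right, D.f_smul_right, hgx, mul_neg, mul_one, add_neg_cancel]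
  have hhx : D.f h x = 0 := by rw [D.f_swap x h, h1, neg_zero]
  have hhy : D.f h y = -1 := by rw [D.f_swap y h, h2]
  have hhg : D.f h g = 0 := by rw [D.f_swap g h, h3, neg_zero]
  have hB := (D.iso_weyl hxg).mul (D.iso_weyl h2)
  refine ⟨g, h, _, hB, hxg, hyg, h1, h2, h3, ?_⟩
  rw [Matrix.mul_sub (D.weyl x g * D.weyl y h), Matrix.sub_mul (D.weyl x g * D.weyl y h * D.R x y),
    hB.mul_R_mul, hB.mul_R_mul, ← Matrix.mulVec_mulVec, ← Matrix.mulVec_mulVec,
    D.weyl_perp hyx0 hhx, D.weyl_left hxg, D.weyl_left h2, D.weyl_perp h1 h3]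
  simp only [Factor.plane, mul_sub, sub_mul, D.R_mul, hxg, hyg, h1, h2, hgx, hgy, hhx, hhy, zero_smul, one_smul,
    neg_smul]
  abel

variable {Q : QuadraticForm F ((Fin (t + 1) → Fin k) → F)} {X : Subgroup (GL (Fin (t + 1) → Fin k) F)}

theorem centre_inv (H : Hyp D X) (i : Fin (t + 1)) (e : Fin k → F) : Inv D ((H.pairBase i).centre e) := by
  intro j B hB φ hφ
  have hA : Mem (X.map (spGL i).toMonoidHom) (Matrix.kroneckerMap (· * ·) (SpinTensor.emb j B)
      (1 : Matrix (Fin k) (Fin k) F)) := by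
    rw [← sub_emb_succAbove i j B]
    exact (mem_map_sub i).2 (H.base (i.succAbove j) B hB)
  have h := (H.pairBase i).centre_conj hA hφ
  rwa [show (outerT D t).adj (SpinTensor.emb j B) = SpinTensor.emb j (D.adj B) from adjV_emb j B] at h

/-- A central pure map with one short root factor gives a pair. -/
theorem oneSlot_of_centre (S : Space D Q) (hX : X ≤ Cfsg.isometryGroup F (⇑Q)) (H : Hyp D X) (hk : 3 ≤ k)
    {i : Fin (t + 1)} {e : Fin k → F} (he : e ≠ 0) {q : Fin t} {w : Fin t → Fin k → F} {x y : Fin k → F}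
    (hw : ∀ l, l ≠ q → w l ≠ 0) (hx : x ≠ 0) (hyx : y ∉ Submodule.span F {x}) (hxy : D.f x y = 0)
    (h : SpinTensor.pure (Function.update (fun l => D.R (w l) (w l)) q (D.R x y - D.R y x)) ∈
      (H.pairBase i).centre e) : OneSlot S (kOf Q X) (i.succAbove q) := by
  classical
  obtain ⟨w', hw'⟩ : ∃ w', w' = Function.update w q x := ⟨_, rfl⟩
  set ξ : Fin (t + 1) → Fin k → F := i.insertNth e w'
  have hξq : ξ (i.succAbove q) = x := by simp [ξ, hw']
  refine oneSlot_of_pair S hX H.base hk (ξ := ξ) (y := y) (fun l => ?_) (by rw [hξq]; exact hxy)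
    (by rw [hξq]; exact hyx) ?_
  · rcases Fin.eq_self_or_eq_succAbove i l with rfl | ⟨j, rfl⟩
    · simpa [ξ] using he
    · simp only [ξ, Fin.insertNth_apply_succAbove, hw']
      by_cases hj : j = q
      · subst hj; simpa using hx
      · simpa [Function.update_of_ne hj] using hw j hj
  refine pair_of_mem S hX (S.polar_zero (i.succAbove q) (by rw [Function.update_self, hξq]; exact hxy)) fun c => ?_
  refine (mem_map_sub i).1 ?_
  have h1 := ((H.pairBase i).centre e).smul_mem c h
  rw [PairBase.centre_iff] at h1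
  convert h1 using 1
  rw [show ∀ M N : Matrix (Fin (t + 1) → Fin k) (Fin (t + 1) → Fin k) F,
    (M + N).submatrix (sp i) (sp i) = M.submatrix (sp i) (sp i) + N.submatrix (sp i) (sp i) from fun _ _ => rfl,
    show ∀ M : Matrix (Fin (t + 1) → Fin k) (Fin (t + 1) → Fin k) F,
    (c • M).submatrix (sp i) (sp i) = c • M.submatrix (sp i) (sp i) from fun _ => rfl,
    sub_one, sub_matrix_sub, sub_pure, sub_pure, Matrix.smul_kronecker]
  congr 2
  have ei : ∀ v, Function.update ξ (i.succAbove q) v i = e := fun v => by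
    rw [Function.update_of_ne (Fin.succAbove_ne i q).symm]; simp [ξ]
  have eq' : ∀ (v : Fin k → F) j, Function.update ξ (i.succAbove q) v (i.succAbove j) = Function.update w q v j :=
    fun v j => by
      by_cases hj : j = q
      · subst hj; simp
      · rw [Function.update_of_ne fun h => hj (Fin.succAbove_right_injective h), Function.update_of_ne hj]
        simp only [ξ, Fin.insertNth_apply_succAbove, hw', Function.update_of_ne hj]
  have ei' : ξ i = e := by simp [ξ]
  have eq'' : ∀ j, ξ (i.succAbove j) = Function.update w q x j := fun j => by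
    simp only [ξ, Fin.insertNth_apply_succAbove, hw']
  rw [ei, ei', ← sub_kronecker']
  congr 1
  simp only [eq', eq'']
  ext a b
  simp only [Matrix.sub_apply, pure_apply]
  rw [← Finset.mul_prod_erase _ _ (Finset.mem_univ q), ← Finset.mul_prod_erase _ _ (Finset.mem_univ q),
    ← Finset.mul_prod_erase _ _ (Finset.mem_univ q), Function.update_self, Function.update_self, Function.update_self,
    Matrix.sub_apply, sub_mul]
  congr 2 <;>
  · refine Finset.prod_congr rfl fun l hl => ?_
    simp [Function.update_of_ne (Finset.mem_erase.1 hl).1]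

/-- All monomials over all but one factor give the pairs agreeing at two factors. -/
theorem eqTwo_of_full (S : Space D Q) (hX : X ≤ Cfsg.isometryGroup F (⇑Q)) (H : Hyp D X) (ht : 3 ≤ t) (ht' : Odd t)
    (hfull : ∀ a, Full D X (Finset.univ.erase a)) : EqTwo S (kOf Q X) := by
  classical
  intro ξ α a b hab ha hb
  by_cases hξ : ∀ l, ξ l ≠ 0
  swap
  · push Not at hξ; obtain ⟨l, hl⟩ := hξ; exact pair_of_zero l hl
  refine pvec_mem_of_span (G := fun l => if l = a ∨ l = b then {ξ l} else {x | D.f (ξ l) x = 1}) ?_ fun l => ?_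
  swap
  · split_ifs with hl
    · rcases hl with rfl | rfl
      · rw [ha]; exact Submodule.subset_span rfl
      · rw [hb]; exact Submodule.subset_span rfl
    · exact mem_span_f_one (hξ l) _
  intro η hη
  have hηa : η a = ξ a := by simpa using hη a
  have hηb : η b = ξ b := by simpa using hη b
  have hηo : ∀ l, l ≠ a → l ≠ b → D.f (ξ l) (η l) = 1 := fun l h1 h2 => by simpa [h1, h2] using hη l
  have hη0 : ∀ l, η l ≠ 0 := fun l h0 => by
    by_cases h1 : l = a
    · subst h1; exact hξ l (hηa ▸ h0)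
    by_cases h2 : l = b
    · subst h2; exact hξ l (hηb ▸ h0)
    have := hηo l h1 h2
    rw [h0, D.f_zero_right] at this
    exact zero_ne_one this
  refine pair_of_mem S hX (S.polar_zero a (by rw [hηa, D.f_self])) fun c => ?_
  set A := monom D (Finset.univ.erase a) ξ with hA
  set B := monom D (Finset.univ.erase b) η with hB
  have hAB : A * B = SpinTensor.pure fun l => D.R (ξ l) (η l) := by
    rw [hA, hB, monom, monom, pure_mul]
    congr 1
    funext l
    by_cases h1 : l = a
    · subst h1; simp [hηa, hab]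
    by_cases h2 : l = b
    · subst h2; simp [hηb, Ne.symm hab]
    simp [h1, h2, D.R_mul, hηo l h1 h2]
  have hn0 : ((Finset.univ.erase a).erase b).card = t - 1 := by
    rw [Finset.card_erase_of_mem (Finset.mem_erase.2 ⟨hab.symm, Finset.mem_univ b⟩),
      Finset.card_erase_of_mem (Finset.mem_univ a), Finset.card_univ, Fintype.card_fin]
    omega
  have hBA : B * A = SpinTensor.pure fun l => D.R (η l) (ξ l) := by
    rw [hA, hB, monom, monom, pure_mul]
    have hsign : (∏ l, if l ∈ (Finset.univ.erase a).erase b then (-1 : F) else 1) = 1 := by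
      rw [Finset.prod_ite_mem, Finset.univ_inter, Finset.prod_const, hn0]
      obtain ⟨r, hr⟩ := ht'
      exact Even.neg_one_pow ⟨r, by omega⟩
    rw [← one_smul F (SpinTensor.pure fun l => D.R (η l) (ξ l)), ← hsign, ← pure_smul_prod]
    congr 1
    funext l
    by_cases h1 : l = a
    · subst h1; simp [hηa, hab]
    by_cases h2 : l = b
    · subst h2; simp [hηb, Ne.symm hab]
    simp [h1, h2, D.R_mul, D.f_swap (ξ l) (η l), hηo l h1 h2]
  have hca : (Finset.univ.erase a).Nonempty := ⟨b, by simp [hab.symm]⟩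
  have hcb : (Finset.univ.erase b).Nonempty := ⟨a, by simp [hab]⟩
  have h := (hfull a ξ (fun l _ => hξ l) c).comm_sq (hfull b η (fun l _ => hη0 l) 1)
    (by rw [smul_mul_smul_comm, monom_sq hca, smul_zero]) (by rw [one_smul, monom_sq hcb])
  have z1 : A * B * A = 0 := by
    rw [hAB, hA, monom, pure_mul]
    refine Matrix.ext fun p r => ?_
    rw [pure_apply]
    refine Finset.prod_eq_zero (Finset.mem_univ b) ?_
    simp [hab.symm, hηb, D.R_mul, D.f_self]
  have z2 : B * A * B = 0 := by
    rw [hBA, hB, monom, pure_mul]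
    refine Matrix.ext fun p r => ?_
    rw [pure_apply]
    refine Finset.prod_eq_zero (Finset.mem_univ a) ?_
    simp [hab, hηa, D.R_mul, D.f_self]
  convert h using 1
  rw [hAB] at z1
  rw [hBA] at z2
  simp only [one_smul, Matrix.smul_mul, Matrix.mul_smul, ← hA, ← hB, hAB, hBA, z1, z2, smul_zero, sub_zero, add_zero,
    Matrix.zero_mul, smul_sub]
  abel

/-- **A non-scalar central map gives all of `Ω`.** -/
theorem oneOrth_of_not_ng [NeZero k] (S : Space D Q) (hX : X ≤ Cfsg.isometryGroup F (⇑Q)) (H : Hyp D X)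
    (ht : Odd t) (hX' : ¬ NG D X) : OneOrth S (kOf Q X) := by
  classical
  simp only [NG] at hX'
  push Not at hX'
  obtain ⟨i, e, Φ, he, hcomm, hmem, hns⟩ := hX'
  obtain ⟨θ, rfl⟩ := exists_upM D i hcomm
  set Z := (H.pairBase i).centre e
  have hθZ : θ ∈ Z := by
    have h := (mem_map_sub i).2 hmem
    rw [show (1 + upM i θ * SpinTensor.emb i (D.R e e)).submatrix (sp i) (sp i) =
      1 + Matrix.kroneckerMap (· * ·) θ (D.R e e) by rw [← sub_upM_mul_emb i θ (D.R e e), ← sub_one i]; rfl] at h
    exact h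
  have hns' : ¬ ∃ c : F, θ = c • 1 := fun ⟨c, hc⟩ => hns c (by rw [hc, map_smul, map_one, smul_one_mul])
  have hθ0 : θ ≠ 0 := fun h0 => hns' ⟨0, by rw [h0, zero_smul]⟩
  obtain ⟨s, rfl⟩ : ∃ s, t = s + 1 := ⟨t - 1, by obtain ⟨r, hr⟩ := ht; omega⟩
  have hinv := centre_inv H i e
  obtain ⟨g, -, hg2, hg3, hg4⟩ := hinv.exists_pure H.two Finset.univ hθZ hθ0 fun l hl => absurd (Finset.mem_univ l) hl
  have hne := hg4 hns'
  -- monomials give the pairs agreeing at two factors
  have finish : ∀ (P : Finset (Fin (s + 1))) (w : Fin (s + 1) → Fin k → F), P.Nonempty → (∀ l ∈ P, w l ≠ 0) →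
      monom D P w ∈ Z → OneOrth S (kOf Q X) := by
    intro P w hPne hw hPw
    have hev : Even P.card := by
      by_contra hodd
      have h1 := (H.pairBase i).centre_adj he hPw
      rw [show (outerT D (s + 1)).adj (monom D P w) = (-1 : F) ^ P.card • monom D P w from adjV_monom P w,
        (Nat.not_even_iff_odd.1 hodd).neg_one_pow, neg_one_smul, neg_eq_iff_add_eq_zero, ← two_smul F] at h1
      exact monom_ne_zero hw ((smul_eq_zero.1 h1).resolve_left H.two)
    have h3 : 3 ≤ s + 1 := by
      have h1 := Finset.card_pos.2 hPne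
      have h2 := (Finset.card_le_univ P).trans_eq (Fintype.card_fin _)
      obtain ⟨a, ha⟩ := hev
      obtain ⟨b, hb⟩ := ht
      omega
    obtain ⟨P', -, hev', hge, hP'⟩ := H.grow_even (by omega) he _ P rfl hPne hev fun ξ hξ =>
      hinv.monom_move hw hξ hPw
    have hJ : Full D X (insert i (P'.map i.succAboveEmb)) :=
      H.full_of_centre he hP' (Finset.mem_insert_self _ _) fun j => by simp [Fin.succAbove_ne]
    refine oneOrth_of_eqTwo (by omega) (eqTwo_of_full S hX H h3 ht fun a => hJ.move H (by omega) ?_)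
    rw [Finset.card_insert_of_notMem (by simp [Fin.succAbove_ne]), Finset.card_map,
      Finset.card_erase_of_mem (Finset.mem_univ a), Finset.card_univ, Fintype.card_fin]
    have h2 := (Finset.card_le_univ P').trans_eq (Fintype.card_fin _)
    obtain ⟨x, hx⟩ := hev'
    obtain ⟨y, hy⟩ := ht
    omega
  by_cases hq : ∃ q, g q = 1
  · obtain ⟨l₀, hl₀⟩ := hne
    have h2s : 2 ≤ s + 1 := by
      obtain ⟨q, hq⟩ := hq
      by_contra hlt
      obtain rfl : s = 0 := by omega
      exact hl₀ (by rwa [show l₀ = q from Fin.ext (by omega)])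
    obtain ⟨P, w, hPne, hw, hPw⟩ := (H.cl_centre h2s i he).exists_monom' H.two hg2 hg3 ⟨l₀, hl₀⟩ (Or.inr hq)
    exact finish P w hPne hw hPw
  push Not at hq
  have hsmp : ∀ l, Smp D (g l) := fun l => (hg2 l).resolve_left (hq l)
  obtain ⟨q, x, y, hx, hyx, hxy, hgq⟩ : ∃ q x y, x ≠ 0 ∧ y ∉ Submodule.span F {x} ∧ D.f x y = 0 ∧
      g q = D.R x y - D.R y x := by
    by_contra! hall
    have hR : ∀ l, ∃ z, z ≠ 0 ∧ g l = D.R z z := fun l => by
      obtain h | ⟨x, y, h1, h2, h3, h4⟩ := hsmp l
      · exact h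
      · exact absurd h4 (hall l x y h1 h2 h3)
    choose z hz hgz using hR
    have h1 := (H.pairBase i).centre_adj he hg3
    rw [show g = fun l => D.R (z l) (z l) from funext hgz] at h1
    rw [show SpinTensor.pure (fun l => D.R (z l) (z l)) = monom D Finset.univ z by simp [monom]] at h1
    rw [show (outerT D (s + 1)).adj (monom D Finset.univ z) = (-1 : F) ^ (Finset.univ : Finset (Fin (s + 1))).card •
        monom D Finset.univ z from adjV_monom _ _, Finset.card_univ, Fintype.card_fin, ht.neg_one_pow, neg_one_smul,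
      neg_eq_iff_add_eq_zero, ← two_smul F] at h1
    exact monom_ne_zero (fun l _ => hz l) ((smul_eq_zero.1 h1).resolve_left H.two)
  have hk : 3 ≤ k := by
    by_contra hlt
    have hk2 : k = 2 := by
      have := NeZero.ne k
      rcases Nat.lt_or_ge k 2 with h1 | h1
      · obtain rfl : k = 1 := by omega
        exact absurd (Submodule.mem_span_singleton.2 ⟨y 0 / x 0, funext fun j => by
          obtain rfl : j = 0 := Subsingleton.elim _ _
          have : x 0 ≠ 0 := fun h0 => hx (funext fun j => by rwa [Subsingleton.elim j 0])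
          simp [div_mul_cancel₀ _ this]⟩) hyx
      · omega
    subst hk2
    obtain ⟨x', hx'⟩ := D.nondeg hx
    have h4 : y ∈ Submodule.span F {x, x'} := by
      have hli : LinearIndependent F ![x, x'] := LinearIndependent.pair_iff.2 fun a b hab => by
        have h1 := congrArg (D.f x) hab
        simp only [D.f_add_right, D.f_smul_right, D.f_self, hx', mul_zero, mul_one, zero_add, D.f_zero_right] at h1
        rw [h1, zero_smul, add_zero] at hab
        exact ⟨(smul_eq_zero.1 hab).resolve_right hx, h1⟩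
      have h2 := hli.span_eq_top_of_card_eq_finrank' (by simp)
      rw [show Set.range ![x, x'] = {x, x'} by simp [Matrix.range_cons, Set.pair_comm]] at h2
      rw [h2]; exact Submodule.mem_top
    obtain ⟨a, b, hab⟩ := Submodule.mem_span_pair.1 h4
    have h1 := congrArg (D.f x) hab
    simp only [D.f_add_right, D.f_smul_right, D.f_self, hx', hxy, mul_zero, mul_one, zero_add] at h1
    rw [h1, zero_smul, add_zero] at hab
    exact hyx (Submodule.mem_span_singleton.2 ⟨a, hab⟩)
  have fin2 : ∀ (w : Fin (s + 1) → Fin k → F) (x' y' : Fin k → F), (∀ l, l ≠ q → w l ≠ 0) → x' ≠ 0 →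
      y' ∉ Submodule.span F {x'} → D.f x' y' = 0 →
      SpinTensor.pure (Function.update (fun l => D.R (w l) (w l)) q (D.R x' y' - D.R y' x')) ∈ Z →
      OneOrth S (kOf Q X) := fun w x' y' h1 h2 h3 h4 h5 =>
    oneOrth_of_oneSlot hk (by omega) (oneSlot_of_centre S hX H hk he h1 h2 h3 h4 h5)
  rcases Nat.eq_zero_or_pos s with rfl | hs
  · refine fin2 (fun _ => 0) x y (fun l hl => absurd (Fin.ext (by omega)) hl) hx hyx hxy ?_
    convert hg3 using 2
    funext l
    obtain rfl : l = q := Fin.ext (by omega)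
    rw [Function.update_self, hgq]
  obtain ⟨gg, hh, Bq, hBq, hxg, hyg, hxh, hyh, hgh, hE⟩ := exists_dual_short hx hyx hxy
  have hp : ∀ l, ∃ (B : Matrix (Fin k) (Fin k) F) (w : Fin k → F), D.Iso B ∧ (l = q → B = Bq) ∧
      (l ≠ q → D.f w ((g l * (B * g l * D.adj B)) *ᵥ w) ≠ 0) := fun l => by
    by_cases hl : l = q
    · exact ⟨Bq, 0, hBq, fun _ => rfl, fun h => absurd hl h⟩
    · obtain ⟨B, w, hB, hw⟩ := (hsmp l).partner
      exact ⟨B, w, hB, fun h => absurd h hl, fun _ => hw⟩
  choose B w hB hBq' hw using hp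
  have hjor := (H.cl_centre (by omega) i he).jor ⟨x, y, hx, hyx, hxy⟩ _ hg3 _ (hinv.pure_conj hB hg3)
  have hev : Even (Finset.univ.erase q).card := by
    rw [Finset.card_erase_of_mem (Finset.mem_univ q), Finset.card_univ, Fintype.card_fin]
    obtain ⟨r, hr⟩ := ht
    exact ⟨r, by omega⟩
  have hm := jordan_one hinv H.two hjor q hev (w := w) fun l hl => by
    obtain ⟨ε, hε, ha⟩ := (hsmp l).sign
    exact ⟨⟨ε, hε, ha, by rw [D.adj_mul, D.adj_mul, D.adj_adj, ha, Matrix.smul_mul, Matrix.mul_smul, mul_assoc]⟩,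
      hw l hl⟩
  rw [hBq' q rfl, hgq, hE] at hm
  have hw0 : ∀ l, l ≠ q → w l ≠ 0 := fun l hl h0 => hw l hl (by rw [h0, D.f_zero_left])
  set E := D.plane x gg + D.plane y hh
  by_cases hE1 : E = 1
  · refine finish (Finset.univ.erase q) w ?_ (fun l hl => hw0 l (Finset.mem_erase.1 hl).1) ?_
    · exact Finset.card_pos.1 (by
        rw [Finset.card_erase_of_mem (Finset.mem_univ q), Finset.card_univ, Fintype.card_fin]; omega)
    · convert hm using 1
      rw [monom]
      congr 1
      funext l
      by_cases hl : l = q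
      · subst hl; simp [hE1]
      · simp [hl]
  obtain ⟨z, hz⟩ : ∃ z, E *ᵥ z ≠ z := by
    by_contra! h
    exact hE1 (Matrix.toLin'.injective (LinearMap.ext fun z => by simp [h z]))
  have hyx0 : D.f y x = 0 := by rw [D.f_swap x y, hxy, neg_zero]
  have hgx : D.f gg x = -1 := by rw [D.f_swap x gg, hxg]
  have hhx : D.f hh x = 0 := by rw [D.f_swap x hh, hxh, neg_zero]
  have hgy : D.f gg y = 0 := by rw [D.f_swap y gg, hyg, neg_zero]
  have hhy : D.f hh y = -1 := by rw [D.f_swap y hh, hyh]
  have hhg : D.f hh gg = 0 := by rw [D.f_swap gg hh, hgh, neg_zero]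
  have hEv : ∀ v, E *ᵥ v = D.f x v • gg - D.f gg v • x + (D.f y v • hh - D.f hh v • y) := fun v => by
    rw [Matrix.add_mulVec, D.plane_mulVec, D.plane_mulVec]
  set z' := z - E *ᵥ z
  have hz'0 : z' ≠ 0 := sub_ne_zero.2 (Ne.symm hz)
  have o1 : D.f x z' = 0 := by
    simp only [z', hEv, D.f_sub_right, D.f_add_right, D.f_smul_right, D.f_self, hxg, hxy, hxh]; ring
  have o2 : D.f gg z' = 0 := by
    simp only [z', hEv, D.f_sub_right, D.f_add_right, D.f_smul_right, D.f_self, hgx, hgy, hgh]; ring
  have o3 : D.f y z' = 0 := by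
    simp only [z', hEv, D.f_sub_right, D.f_add_right, D.f_smul_right, D.f_self, hyx0, hyg, hyh]; ring
  have o4 : D.f hh z' = 0 := by
    simp only [z', hEv, D.f_sub_right, D.f_add_right, D.f_smul_right, D.f_self, hhx, hhg, hhy]; ring
  have hop := (hinv.ops H.two q (x + z') hm).2
  have hyh' : x ∉ Submodule.span F {z'} := fun hm' => by
    obtain ⟨c, hc⟩ := Submodule.mem_span_singleton.1 hm'
    rw [← hc, D.f_smul_right, o2, mul_zero, eq_comm, neg_eq_zero] at hgx
    exact one_ne_zero hgx
  refine fin2 w z' x hw0 hz'0 hyh' (by rw [D.f_swap x z', o1, neg_zero]) ?_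
  convert hop using 1
  have hEa : D.R (x + z') (x + z') * E - E * D.R (x + z') (x + z') = D.R z' x - D.R x z' := by
    simp only [E, Factor.plane, mul_add, mul_sub, add_mul, sub_mul, D.R_mul, D.f_add_left, D.f_add_right, D.f_self,
      hxy, hxg, hxh, hyx0, hyg, hgx, hhx, o1, o2, o3, o4, D.f_swap x z', D.f_swap gg z', D.f_swap y z', D.f_swap hh z',
      D.R_add_left, D.R_add_right, neg_zero, add_zero, zero_smul, one_smul, neg_smul]
    abel
  rw [← hEa, show SpinTensor.emb q (D.R (x + z') (x + z')) = SpinTensor.pure _ from rfl, pure_mul, pure_mul]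
  ext a b
  simp only [Matrix.sub_apply, pure_apply]
  rw [← Finset.mul_prod_erase _ _ (Finset.mem_univ q), ← Finset.mul_prod_erase _ _ (Finset.mem_univ q),
    ← Finset.mul_prod_erase _ _ (Finset.mem_univ q), Function.update_self, Function.update_self, Function.update_self,
    Matrix.sub_apply, sub_mul]
  congr 2 <;>
  · refine Finset.prod_congr rfl fun l hl => ?_
    simp [Function.update_of_ne (Finset.mem_erase.1 hl).1]

end CfsgLib.HallGen.SympPlus
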