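/-
The stabiliser of a symplectic tensor power decomposition is maximal in the orthogonal group of plus type.
-/
import Cfsg.Agent.Lib.HallGen.SympPlus.Odd
import Cfsg.Agent.Lib.HallGen.SympPlus.EvenStd
import Cfsg.Agent.Lib.HallGen.SympPlus.EvenAll

set_option autoImplicit false
set_option linter.unusedSectionVars false
set_option maxHeartbeats 400000

namespace CfsgLib.HallGen.SympPlus

open Matrix CfsgLib.HallGen.SympWreath CfsgLib.Geo CfsgLib.Geo.SpinTensor CfsgLib.Geo.TensorWreath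
open CfsgLib.Classical.Quad CfsgLib.Geo.OrthMax
open QuadraticMap (polar polarBilin)

variable {F : Type*} [Field F] {k t : ℕ}

/-- An element fixing a slot lives on the other factors. -/
theorem exists_upGL {gs : Fin (t + 1) → GL (Fin k) F} {π : Equiv.Perm (Fin (t + 1))} {l : Fin (t + 1)}
    (hπ : π l = l) (hgs : gs l = 1) :
    ∃ A : GL (Fin t → Fin k) F, upGL l A = pureGL gs * permGL k F π := by
  have h : ∀ j, ∃ j', l.succAbove j' = π (l.succAbove j) := fun j =>
    Fin.exists_succAbove_eq fun h => Fin.succAbove_ne l j (π.injective (h.trans hπ.symm))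
  choose ρ hρ using h
  have hinj : Function.Injective ρ := fun a b e => by
    have h1 := congrArg l.succAbove e
    rw [hρ, hρ] at h1
    exact Fin.succAbove_right_injective (π.injective h1)
  refine ⟨pureGL (fun j => gs (l.succAbove j)) * permGL k F (Equiv.ofBijective ρ hinj.bijective_of_finite), ?_⟩
  rw [upGL_std]
  congr 2
  · funext j
    rcases Fin.eq_self_or_eq_succAbove l j with rfl | ⟨j', rfl⟩
    · rw [Fin.insertNth_apply_same, hgs]
    · rw [Fin.insertNth_apply_succAbove]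
  · refine Equiv.ext fun j => ?_
    rcases Fin.eq_self_or_eq_succAbove l j with rfl | ⟨j', rfl⟩
    · rw [extPerm_self, hπ]
    · rw [extPerm_succAbove, Equiv.ofBijective_apply, hρ]

/-- The Gram matrix of an odd number of factors is alternating; any number in characteristic two. -/
theorem outerT_alt (D : Factor F k) {n : ℕ} (hn : 1 ≤ n) (h : ((2 : F) ≠ 0 ∧ Odd n) ∨ (2 : F) = 0)
    (v : (Fin n → Fin k) → F) : v ⬝ᵥ ((outerT D n).G *ᵥ v) = 0 := by
  have hsw : ∀ a b : (Fin n → Fin k) → F,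
      b ⬝ᵥ ((outerT D n).G *ᵥ a) = (-1 : F) ^ n * (a ⬝ᵥ ((outerT D n).G *ᵥ b)) := by
    intro a b
    rw [dotProduct_mulVec, dotProduct_comm, ← mulVec_transpose, (outerT D n).symm, Matrix.smul_mulVec,
      dotProduct_smul, smul_eq_mul]
    rfl
  rcases h with ⟨h2, hodd⟩ | h2
  · have h1 := hsw v v
    rw [hodd.neg_one_pow, neg_one_mul, eq_neg_iff_add_eq_zero, ← two_mul] at h1
    exact (mul_eq_zero.1 h1).resolve_left h2
  · have hneg : (-1 : F) = 1 := by rw [neg_eq_iff_add_eq_zero, one_add_one_eq_two, h2]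
    refine eq_zero_of_basis (fun a => a ⬝ᵥ ((outerT D n).G *ᵥ a)) (fun a b => ?_) (fun c a => ?_) (fun i => ?_) v
    · simp only [Matrix.mulVec_add, add_dotProduct, dotProduct_add]
      rw [hsw a b, hneg, one_pow, one_mul]
      linear_combination (a ⬝ᵥ ((outerT D n).G *ᵥ b)) * h2
    · simp only [Matrix.mulVec_smul, smul_dotProduct, dotProduct_smul, smul_eq_mul]
      ring
    · rw [single_eq_pvec, pvec_form]
      exact Finset.prod_eq_zero (Finset.mem_univ ⟨0, hn⟩) (D.f_self _)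

/-- A skew invertible matrix of odd characteristic has even degree. -/
theorem even_of_factor (D : Factor F k) (h2 : (2 : F) ≠ 0) : Even k := by
  by_contra hk
  have h := congrArg Matrix.det D.skew
  rw [Matrix.det_transpose, Matrix.det_neg, Fintype.card_fin, (Nat.not_even_iff_odd.1 hk).neg_one_pow, neg_one_mul,
    eq_neg_iff_add_eq_zero, ← two_mul] at h
  have h0 := congrArg Matrix.det D.mul_inv
  rw [Matrix.det_mul, (mul_eq_zero.1 h).resolve_left h2, zero_mul, Matrix.det_one] at h0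
  exact zero_ne_one h0

theorem exists_sq_ne_one [Fintype F] (h : 4 ≤ Fintype.card F) : ∃ a : F, a ≠ 0 ∧ a ^ 2 ≠ 1 := by
  classical
  obtain ⟨a, -, ha⟩ := Finset.exists_mem_notMem_of_card_lt_card (s := ({0, 1, -1} : Finset F)) (t := Finset.univ)
    (lt_of_le_of_lt Finset.card_le_three (by rw [Finset.card_univ]; omega))
  simp only [Finset.mem_insert, Finset.mem_singleton, not_or] at ha
  exact ⟨a, ha.1, fun h1 => (sq_eq_one_iff.1 h1).elim ha.2.1 ha.2.2⟩

/-- **The stabiliser of a symplectic tensor power decomposition is maximal in `Ω`.** -/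
theorem maximal [Fintype F] {n : ℕ} (hn : 13 ≤ n) (Q : (Fin n → F) → F)
    (hQ : Cfsg.Geo.IsNondegenerateQuadraticForm Q) (k t : ℕ) (ht : 2 ≤ t)
    (hqt : Odd (Fintype.card F) → Even t) (hex2 : ¬ (Fintype.card F = 3 ∧ k = 2))
    (hex3 : ¬ Odd (Fintype.card F) → 6 ≤ k) (e : (Fin n) ≃ (Fin t → Fin k)) (P : GL (Fin n) F)
    (f₁ : (Fin k → F) → (Fin k → F) → F) (hf₁ : Cfsg.Geo.IsSymplecticForm f₁)
    (hT : Cfsg.Geo.IsTensorPowerFormStructure id (polar Q) f₁ e P)
    (hpure : ∀ xs : Fin t → (Fin k → F),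
      Q (Matrix.mulVec (P : Matrix (Fin n) (Fin n) F) ((fun a : Fin t → Fin k => ∏ i, xs i (a i)) ∘ e)) = 0) :
    Cfsg.Geo.IsMaximalIn (Cfsg.Geo.omegaGL Q) (Cfsg.Geo.tensorWreathSubgroup k t e P ⊓ Cfsg.Geo.omegaGL Q) := by
  classical
  obtain ⟨s, rfl⟩ : ∃ s, t = s + 1 := ⟨t - 1, by omega⟩
  have hcard : n = k ^ (s + 1) := by
    have := Fintype.card_congr e
    rwa [Fintype.card_fin, Fintype.card_fun, Fintype.card_fin, Fintype.card_fin] at this
  have hk : 2 ≤ k := by
    by_contra hk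
    rcases Nat.le_one_iff_eq_zero_or_eq_one.1 (show k ≤ 1 by omega) with rfl | rfl <;> simp at hcard <;> omega
  haveI : NeZero k := ⟨by omega⟩
  have hodd2 : Odd (Fintype.card F) ↔ (2 : F) ≠ 0 := by
    constructor
    · intro ho h
      haveI : CharP F 2 := CharTwo.of_one_ne_zero_of_two_eq_zero one_ne_zero h
      obtain ⟨m, -, hm⟩ := FiniteField.card F 2
      rw [hm] at ho
      exact (Nat.not_even_iff_odd.2 ho) (Nat.even_pow.2 ⟨even_two, m.ne_zero⟩)
    · intro h
      refine Nat.odd_iff.2 (FiniteField.odd_card_of_char_ne_two fun hc => h ?_)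
      haveI := ringChar.of_eq hc
      exact CharTwo.two_eq_zero
  obtain ⟨D, hD⟩ := SympWreath.exists_factor hf₁
  obtain ⟨c, hc, hform⟩ := hT
  set G := (outerT D (s + 1)).G
  obtain ⟨Q₀, rfl, -⟩ := exists_quadraticForm hQ
  let L : ((Fin (s + 1) → Fin k) → F) →ₗ[F] (Fin n → F) :=
    (P : Matrix (Fin n) (Fin n) F).mulVecLin.comp (LinearMap.funLeft F F e)
  set Qs : QuadraticForm F ((Fin (s + 1) → Fin k) → F) := c⁻¹ • Q₀.comp L
  have hQs : ∀ x, Qs x = c⁻¹ * Q₀ ((P : Matrix (Fin n) (Fin n) F) *ᵥ (x ∘ e)) := fun x => rfl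
  have hpolar : ∀ x y, polar Qs x y = x ⬝ᵥ (G *ᵥ y) := by
    intro x y
    have h1 : polar Qs x y = c⁻¹ * polar Q₀ ((P : Matrix (Fin n) (Fin n) F) *ᵥ (x ∘ e))
        ((P : Matrix (Fin n) (Fin n) F) *ᵥ (y ∘ e)) := by
      simp only [QuadraticMap.polar, hQs, ← Matrix.mulVec_add]
      rw [show (x + y) ∘ e = x ∘ e + y ∘ e from rfl]
      ring
    rw [h1, hform, ← mul_assoc, inv_mul_cancel₀ hc, one_mul]
    simp only [dotProduct, Matrix.mulVec, Finset.mul_sum, G, outerT, SpinTensor.pure_apply, hD, id, mul_assoc]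
  have S : Space D Qs :=
    { nondeg := nondegenerate_of_left fun v hv => by
        have h1 : v ᵥ* G = 0 := dotProduct_eq_zero _ fun w => by
          rw [← Matrix.dotProduct_mulVec, ← hpolar]; exact hv w
        rw [← Matrix.vecMul_one v, ← (outerT D (s + 1)).mul_inv, ← Matrix.vecMul_vecMul,
          show v ᵥ* (outerT D (s + 1)).G = 0 from h1, Matrix.zero_vecMul]
      five := by
        rw [Module.finrank_pi, Fintype.card_fun, Fintype.card_fin, Fintype.card_fin, ← hcard]; omega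
      polar_eq := hpolar
      pure := fun ξ => by rw [hQs]; exact mul_eq_zero_of_right _ (hpure ξ) }
  let Ψ : GL (Fin (s + 1) → Fin k) F ≃* GL (Fin n) F :=
    (Cfsg.Geo.glReindex e.symm).trans (MulAut.conj P)
  have hmemK : ∀ x, Ψ x ∈ Cfsg.Geo.tensorWreathSubgroup k (s + 1) e P ↔ IsStd x := by
    intro x
    have hK : Cfsg.Geo.tensorWreathSubgroup k (s + 1) e P =
        (Cfsg.Geo.tensorWreathStandard k (s + 1) F).map Ψ.toMonoidHom := by
      rw [Cfsg.Geo.tensorWreathSubgroup, Subgroup.map_map]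
      rfl
    rw [hK, ← mem_std_iff]
    exact ⟨fun ⟨y, hy, e'⟩ => by rwa [← Ψ.injective e'], fun hx => ⟨x, hx, rfl⟩⟩
  have hval : ∀ (x : GL (Fin (s + 1) → Fin k) F) (u : (Fin (s + 1) → Fin k) → F),
      ((Ψ x : GL (Fin n) F) : Matrix (Fin n) (Fin n) F) *ᵥ ((P : Matrix (Fin n) (Fin n) F) *ᵥ (u ∘ e)) =
      (P : Matrix (Fin n) (Fin n) F) *ᵥ
        (((x : Matrix (Fin (s + 1) → Fin k) (Fin (s + 1) → Fin k) F) *ᵥ u) ∘ e) := by
    intro x u
    show ((P * Cfsg.Geo.glReindex e.symm x * P⁻¹ : GL (Fin n) F) : Matrix (Fin n) (Fin n) F) *ᵥ _ = _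
    rw [Units.val_mul, Units.val_mul, Matrix.mulVec_mulVec, mul_assoc, Units.inv_mul, mul_one, ← Matrix.mulVec_mulVec]
    congr 1
    show ((x : Matrix (Fin (s + 1) → Fin k) (Fin (s + 1) → Fin k) F).submatrix e e) *ᵥ (u ∘ e) = _
    rw [Matrix.submatrix_mulVec_equiv]
    simp [Function.comp_assoc]
  have hsurj : ∀ w : Fin n → F, ∃ u, w = (P : Matrix (Fin n) (Fin n) F) *ᵥ (u ∘ e) := by
    intro w
    refine ⟨(((P⁻¹ : GL (Fin n) F) : Matrix (Fin n) (Fin n) F) *ᵥ w) ∘ e.symm, ?_⟩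
    rw [Function.comp_assoc, Equiv.symm_comp_self, Function.comp_id, Matrix.mulVec_mulVec, Units.mul_inv,
      Matrix.one_mulVec]
  have hisoG : Cfsg.isometryGroup F (⇑Q₀) = (Cfsg.isometryGroup F (⇑Qs)).map Ψ.toMonoidHom := by
    ext g
    rw [Subgroup.mem_map_equiv, mem_isometryGroup_iff]
    obtain ⟨x, rfl⟩ := Ψ.surjective g
    rw [MulEquiv.symm_apply_apply]
    constructor
    · intro h u
      rw [hQs, hQs, ← hval]
      exact congrArg (c⁻¹ * ·) (h (((P : Matrix (Fin n) (Fin n) F)) *ᵥ (u ∘ e)) ((P : Matrix (Fin n) (Fin n) F) *ᵥ (u ∘ e)))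
    · intro h w _
      obtain ⟨u, rfl⟩ := hsurj w
      have h1 := h u
      rw [hQs, hQs, ← hval] at h1
      exact mul_left_cancel₀ (inv_ne_zero hc) h1
  have hΩ : ∀ x, Ψ x ∈ Cfsg.Geo.omegaGL (⇑Q₀) ↔ x ∈ Cfsg.Geo.omegaGL (⇑Qs) := by
    intro x
    have h1 : Cfsg.Geo.omegaGL (⇑Q₀) = (Cfsg.Geo.omegaGL (⇑Qs)).map Ψ.toMonoidHom := by
      rw [Cfsg.Geo.omegaGL, Cfsg.Geo.omegaGL, Subgroup.map_subtype_commutator, Subgroup.map_subtype_commutator,
        hisoG, ← Subgroup.map_commutator]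
    rw [h1, Subgroup.mem_map_equiv, MulEquiv.symm_apply_apply]
  -- perfectness of the factors
  have hperf : ((4 ≤ k ∧ (2 : F) ≠ 0) ∨ 6 ≤ k ∨ ∃ a : F, a ≠ 0 ∧ a ^ 2 ≠ 1) ∧
      ((4 ≤ k ^ s ∧ (2 : F) ≠ 0) ∨ 6 ≤ k ^ s ∨ ∃ a : F, a ≠ 0 ∧ a ^ 2 ≠ 1) := by
    have hs : k ≤ k ^ s := Nat.le_self_pow (by omega) k
    by_cases h2 : (2 : F) = 0
    · have := hex3 (fun h => hodd2.1 h h2)
      exact ⟨Or.inr (Or.inl this), Or.inr (Or.inl (by omega))⟩
    · by_cases hk4 : 4 ≤ k
      · exact ⟨Or.inl ⟨hk4, h2⟩, Or.inl ⟨by omega, h2⟩⟩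
      · have hk2 : k = 2 := by
          rcases even_of_factor D h2 with ⟨m, hm⟩
          omega
        have hq : 4 ≤ Fintype.card F := by
          have h1 := hodd2.2 h2
          have h3 : Fintype.card F ≠ 3 := fun h => hex2 ⟨h, hk2⟩
          have h4 := Fintype.one_lt_card (α := F)
          obtain ⟨m, hm⟩ := h1
          omega
        exact ⟨Or.inr (Or.inr (exists_sq_ne_one hq)), Or.inr (Or.inr (exists_sq_ne_one hq))⟩
  have halt : ∀ v, v ⬝ᵥ ((outerT D s).G *ᵥ v) = 0 := by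
    refine outerT_alt D (by omega) ?_
    by_cases h2 : (2 : F) = 0
    · exact Or.inr h2
    · obtain ⟨m, hm⟩ := hqt (hodd2.2 h2)
      exact Or.inl ⟨h2, ⟨m - 1, by omega⟩⟩
  refine ⟨lt_of_le_of_ne inf_le_right fun heq => ?_, fun M hHM hMK => ?_⟩
  · obtain ⟨x, hx, hxs⟩ := exists_not_isStd S hk ht (fun h => by
      subst h
      by_contra h
      obtain rfl : s = 1 := by omega
      norm_num at hcard
      omega)
    have h := (hΩ x).2 hx
    rw [← heq] at h
    exact hxs ((hmemK x).1 h.1)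
  set X := M.comap Ψ.toMonoidHom
  have hXΩ : X ≤ Cfsg.Geo.omegaGL (⇑Qs) := fun x hx => (hΩ x).1 (hMK hx)
  have hXiso : X ≤ Cfsg.isometryGroup F (⇑Qs) := fun x hx => by
    obtain ⟨g, -, rfl⟩ := hXΩ hx
    exact g.2
  have hstd : ∀ x : GL (Fin (s + 1) → Fin k) F, IsStd x → x ∈ Cfsg.Geo.omegaGL (⇑Qs) → x ∈ X :=
    fun x hx hxΩ => show Ψ x ∈ M from hHM ⟨(hmemK x).2 hx, (hΩ x).2 hxΩ⟩
  have hbase : ∀ (i : Fin (s + 1)) (B : Matrix (Fin k) (Fin k) F), D.Iso B → Mem X (SpinTensor.emb i B) := by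
    intro i B hB
    obtain ⟨g, hg, eg⟩ := S.base_mem hperf.1 i hB
    obtain ⟨u, -, hu⟩ := exists_fac_iso i hB
    refine ⟨g, hstd g ?_ hg, eg⟩
    rw [show g = fac i u from Units.ext (by rw [eg, hu])]
    exact isStd_pureGL _
  have hlift : ∀ (gs : Fin (s + 1) → GL (Fin k) F) (π : Equiv.Perm (Fin (s + 1))) (l : Fin (s + 1)),
      π l = l → gs l = 1 →
      adjV D ((pureGL gs * permGL k F π : GL (Fin (s + 1) → Fin k) F) :
          Matrix (Fin (s + 1) → Fin k) (Fin (s + 1) → Fin k) F) *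
        ((pureGL gs * permGL k F π : GL (Fin (s + 1) → Fin k) F) :
          Matrix (Fin (s + 1) → Fin k) (Fin (s + 1) → Fin k) F) = 1 →
      pureGL gs * permGL k F π ∈ X := by
    intro gs π l hπ hgs hiso
    obtain ⟨A, hA⟩ := exists_upGL hπ hgs
    refine hstd _ ((isStd_pureGL gs).mul (isStd_permGL π)) ?_
    rw [← hA] at hiso ⊢
    refine S.up_mem halt hperf.2 l (upM_injective l ?_)
    rw [map_mul, map_one, ← adjV_upM]
    exact hiso
  have hfin : eichGroup S.nondeg ≤ kOf Qs X → M = Cfsg.Geo.omegaGL (⇑Q₀) := fun h => by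
    refine le_antisymm hMK fun g hg => ?_
    obtain ⟨x, rfl⟩ := Ψ.surjective g
    exact omega_le_of_kOf S h ((hΩ x).1 hg)
  have hall : (∀ g ∈ X, IsStd g) → M = Cfsg.Geo.tensorWreathSubgroup k (s + 1) e P ⊓ Cfsg.Geo.omegaGL (⇑Q₀) :=
    fun h => by
      refine le_antisymm (le_inf (fun g hg => ?_) hMK) hHM
      obtain ⟨x, rfl⟩ := Ψ.surjective g
      exact (hmemK x).2 (h x hg)
  by_cases h2 : (2 : F) = 0
  · haveI : CharP F 2 := CharTwo.of_one_ne_zero_of_two_eq_zero one_ne_zero h2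
    have hk6 : 6 ≤ k := hex3 (fun h => hodd2.1 h h2)
    have H : Hyp2 D X :=
      { iso := fun x hx => S.adjV_of_mem (hXiso hx)
        base := hbase
        perms := fun ht3 π => by
          induction π using Equiv.Perm.swap_induction_on with
          | one => rw [permGL_one]; exact X.one_mem
          | swap_mul f a b _ ih =>
            obtain ⟨l, -, hl⟩ := Finset.exists_mem_notMem_of_card_lt_card (s := ({a, b} : Finset (Fin (s + 1))))
              (t := Finset.univ) (lt_of_le_of_lt Finset.card_le_two (by rw [Finset.card_univ, Fintype.card_fin]; omega))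
            simp only [Finset.mem_insert, Finset.mem_singleton, not_or] at hl
            have h7 := hlift 1 (Equiv.swap a b) l (Equiv.swap_apply_of_ne_of_ne hl.1 hl.2) rfl
            rw [pureGL_one, one_mul] at h7
            rw [← permGL_mul]
            refine X.mul_mem (h7 ?_) ih
            show adjV D (perm _) * perm _ = 1
            rw [adjV_perm, perm_mul, inv_mul_cancel, perm_one] }
    by_cases hflat : FlatAll D X
    · exact Or.inl (hall (isStd_of_flat hk6 s X H hflat))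
    · exact Or.inr (hfin (eichGroup_le_of_oneOrth (S := S) (by omega) (oneOrth_of_not_flat H S hXiso hk6 hflat)))
  · have hs : Odd s := by
      obtain ⟨m, hm⟩ := hqt (hodd2.2 h2)
      exact ⟨m - 1, by omega⟩
    have H : SympWreath.Hyp D X :=
      { two := h2
        iso := fun x hx => S.adjV_of_mem (hXiso hx)
        base := hbase
        lift := fun _ => hlift }
    by_cases hNG : NG D X
    · exact Or.inl (hall (isStd_of_ng hk (fun h hq => hex2 ⟨hq, h⟩) s X H hNG))
    · exact Or.inr (hfin (eichGroup_le_of_oneOrth (S := S) (by omega) (oneOrth_of_not_ng S hXiso H hs hNG)))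

end CfsgLib.HallGen.SympPlus
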